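import Mathlib
import Cfsg.Agent.Lib.Unitary.Order
import Cfsg.Agent.Lib.Forms.Witt
import Cfsg.Agent.Lib.Forms.SUStab
import Cfsg.Agent.Lib.AutPSU.Root

/-!
Lib/MinIndexPSU/Rest: the orthogonal `rest q e f` of a hyperbolic pair, the stabiliser `LS e f` of the
pair in `SU`, its orbits on vectors and pairs of vectors of the rest, lower bounds for their numbers.
-/

set_option autoImplicit false
set_option linter.unusedSectionVars false

namespace Cfsg.Agent.Lib.MinIndexPSU

open Matrix Module Cfsg.Agent.Lib.Unitary Cfsg.Agent.Lib.AutPSU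

variable {F : Type*} [Field F] [Fintype F] {q : ℕ} {n : ℕ}

/-- Witt: tuples with the same Gram matrix are in one orbit of `GU`. -/
theorem exists_GU_tuple (hF : Fintype.card F = q ^ 2) {k : ℕ} {b v : Fin k → Fin n → F}
    (hb : LinearIndependent F b) (hv : LinearIndependent F v)
    (hg : ∀ i j, hermForm n F q (b i) (b j) = hermForm n F q (v i) (v j)) :
    ∃ A : GU n F q, ∀ i, A.1.1 *ᵥ b i = v i := by
  let B := (hermL (n := n) hF).flip
  have hB : ∀ x y, B x y = hermForm n F q y x := fun x y => by simp [B]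
  have hS : B.IsSymm := ⟨fun x y => by rw [hB, hB, conj_apply, herm_conj y x hF]⟩
  have hN : B.Nondegenerate :=
    ⟨fun x hx => herm_nondeg_right hF fun u => (hB x u) ▸ hx u,
      fun y hy => herm_nondeg_left hF fun v => (hB v y) ▸ hy v⟩
  obtain ⟨g, hg', hgb⟩ := (Lib.Forms.ofHerm (conj hF) (Lib.Forms.SUStab.conj_ne_id hF)
      (fun a => pow_q_q hF a) B hS hN).witt_family
    b v hb hv
    (fun i j => (hB (b i) (b j)).trans ((hg j i).trans (hB (v i) (v j)).symm))
    (fun i => (hB (b i) (b i)).trans ((hg i i).trans (hB (v i) (v i)).symm))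
  refine ⟨mkGU hF (LinearMap.toMatrix' g.toLinearMap) fun x y => ?_, fun i => ?_⟩
  · rw [LinearMap.toMatrix'_mulVec, LinearMap.toMatrix'_mulVec]
    exact ((hB (g y) (g x)).symm.trans (hg'.1 y x)).trans (hB y x)
  · rw [mkGU_val, LinearMap.toMatrix'_mulVec]
    exact hgb i

/-- The orthogonal of the plane spanned by `e` and `f`. -/
def rest (q : ℕ) (e f : Fin n → F) : Submodule F (Fin n → F) :=
  perp q (Submodule.span F {e, f})

variable {e f : Fin n → F}

theorem mem_rest (hF : Fintype.card F = q ^ 2) {w : Fin n → F} :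
    w ∈ rest q e f ↔ hermForm n F q w e = 0 ∧ hermForm n F q w f = 0 := by
  rw [rest, mem_perp_span hF]; simp

theorem rest_swap_herm (hF : Fintype.card F = q ^ 2) {w : Fin n → F} (hw : w ∈ rest q e f) :
    hermForm n F q e w = 0 ∧ hermForm n F q f w = 0 :=
  ⟨herm_eq_zero_symm hF ((mem_rest hF).1 hw).1, herm_eq_zero_symm hF ((mem_rest hF).1 hw).2⟩

theorem finrank_rest (hF : Fintype.card F = q ^ 2) (h : Hyp q e f) :
    finrank F (rest q e f) + 2 = n := by
  have := finrank_perp hF (Submodule.span F {e, f})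
  rwa [(h.finrank_span hF).2] at this

theorem nondeg_rest (hF : Fintype.card F = q ^ 2) (h : Hyp q e f) : Nondeg q (rest q e f) :=
  nondeg_perp hF (h.nondeg hF)

theorem eq_zero_of_mem_rest (hF : Fintype.card F = q ^ 2) (h : Hyp q e f) {a b : F}
    {w : Fin n → F} (hw : w ∈ rest q e f) (h0 : a • e + b • f + w = 0) :
    a = 0 ∧ b = 0 ∧ w = 0 := by
  obtain ⟨h1, h2⟩ := (mem_rest hF).1 hw
  have ha := congrArg (fun v => hermForm n F q v f) h0
  have hb := congrArg (fun v => hermForm n F q v e) h0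
  simp only [herm_add_left, herm_smul_left, herm_zero_left, h.1, h.2.1, h.2.2, h.symm' hF, h1, h2,
    mul_zero, mul_one, add_zero, zero_add] at ha hb
  rw [ha, hb, zero_smul, zero_smul, zero_add, zero_add] at h0
  exact ⟨ha, hb, h0⟩

/-- Projection to the rest. -/
def proj (q : ℕ) (e f v : Fin n → F) : Fin n → F :=
  v - hermForm n F q v f • e - hermForm n F q v e • f

theorem proj_mem (hF : Fintype.card F = q ^ 2) (h : Hyp q e f) (v : Fin n → F) :
    proj q e f v ∈ rest q e f := by
  rw [mem_rest hF]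
  simp [proj, herm_sub_left, herm_smul_left, h.1, h.2.1, h.2.2, h.symm' hF]

omit [Fintype F] in
theorem eq_proj (v : Fin n → F) :
    v = hermForm n F q v f • e + hermForm n F q v e • f + proj q e f v := by
  simp only [proj]; abel

omit [Fintype F] in
theorem proj_add (u v : Fin n → F) : proj q e f (u + v) = proj q e f u + proj q e f v := by
  simp only [proj, herm_add_left, add_smul]; abel

omit [Fintype F] in
theorem proj_smul (a : F) (v : Fin n → F) : proj q e f (a • v) = a • proj q e f v := by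
  simp only [proj, herm_smul_left, smul_sub, smul_smul]

theorem proj_of_mem (hF : Fintype.card F = q ^ 2) {w : Fin n → F} (hw : w ∈ rest q e f) :
    proj q e f w = w := by
  obtain ⟨h1, h2⟩ := (mem_rest hF).1 hw
  simp [proj, h1, h2]

theorem proj_plane (hF : Fintype.card F = q ^ 2) (h : Hyp q e f) (a b : F) :
    proj q e f (a • e + b • f) = 0 := by
  simp only [proj, herm_add_left, herm_smul_left, h.1, h.2.1, h.2.2, h.symm' hF, mul_zero, mul_one,
    add_zero, zero_add]
  abel

/-- Splitting a nondegenerate subspace along a nondegenerate part. -/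
theorem nondeg_inf_perp (hF : Fintype.card F = q ^ 2) {W P : Submodule F (Fin n → F)}
    (hW : Nondeg q W) (hP : Nondeg q P) (hle : P ≤ W) :
    Nondeg q (W ⊓ perp q P) ∧ finrank F P + finrank F (W ⊓ perp q P : Submodule F (Fin n → F)) =
      finrank F W := by
  have hc := isCompl_perp hF hP
  have hsup : P ⊔ (W ⊓ perp q P) = W := by
    rw [inf_comm, ← sup_inf_assoc_of_le _ hle, hc.sup_eq_top, top_inf_eq]
  refine ⟨fun u hu hv => hW u hu.1 fun v hv' => ?_, ?_⟩
  · rw [← hsup] at hv'
    obtain ⟨p, hp, r, hr, rfl⟩ := Submodule.mem_sup.1 hv'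
    rw [herm_add_right _ _ _ hF, hu.2 p hp, hv r hr, add_zero]
  · have := Submodule.finrank_sup_add_finrank_inf_eq P (W ⊓ perp q P)
    have hbot : P ⊓ (W ⊓ perp q P) = ⊥ :=
      eq_bot_iff.2 (le_trans (inf_le_inf_left P inf_le_right) hc.inf_eq_bot.le)
    rw [hsup, hbot, finrank_bot] at this
    omega

theorem not_isotropic_of_nondeg (hF : Fintype.card F = q ^ 2) {x : Fin n → F}
    (hx : hermForm n F q x x ≠ 0) : Nondeg q (Submodule.span F {x}) := by
  intro u hu h
  obtain ⟨a, rfl⟩ := Submodule.mem_span_singleton.1 hu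
  have := h x (Submodule.mem_span_singleton_self x)
  rw [herm_smul_left, mul_eq_zero] at this
  rw [this.resolve_right hx, zero_smul]

/-- A nonzero vector of a nondegenerate subspace lies in a nondegenerate plane of it. -/
theorem exists_plane (hF : Fintype.card F = q ^ 2) {W : Submodule F (Fin n → F)} (hW : Nondeg q W)
    (hd : 2 ≤ finrank F W) {x : Fin n → F} (hxW : x ∈ W) (hx : x ≠ 0) :
    ∃ P : Submodule F (Fin n → F), P ≤ W ∧ x ∈ P ∧ Nondeg q P ∧ finrank F P = 2 := by
  by_cases h0 : hermForm n F q x x = 0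
  · obtain ⟨y, hy, hxy⟩ : ∃ y ∈ W, hermForm n F q x y ≠ 0 := by
      by_contra hc
      push Not at hc
      exact hx (hW x hxW hc)
    obtain ⟨a, ha⟩ := exists_isotropic_shift hF h0 hxy
    set y' := y + a • x
    have hxy' : hermForm n F q x y' = hermForm n F q x y := by
      simp only [y', herm_add_right _ _ _ hF, herm_smul_right, h0, mul_zero, add_zero]
    have hyp := hyp_of_nonorth hF h0 ha (hxy' ▸ hxy)
    refine ⟨Submodule.span F {x, ((hermForm n F q x y') ^ q)⁻¹ • y'}, ?_,
      Submodule.subset_span (by simp), hyp.nondeg hF, (hyp.finrank_span hF).2⟩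
    rw [Submodule.span_le]
    rintro v (rfl | rfl)
    · exact hxW
    · exact W.smul_mem _ (W.add_mem hy (W.smul_mem _ hxW))
  · have hs := not_isotropic_of_nondeg hF h0
    obtain ⟨h1, h2⟩ := nondeg_inf_perp hF hW hs ((Submodule.span_singleton_le_iff_mem _ _).2 hxW)
    rw [finrank_span_singleton hx] at h2
    have hne : W ⊓ perp q (Submodule.span F {x}) ≠ ⊥ := fun hb => by
      rw [hb, finrank_bot] at h2; omega
    obtain ⟨z, ⟨hzW, hzx⟩, hz⟩ := exists_norm_one_of_nondeg hF h1 hne
    have hzx' : hermForm n F q z x = 0 := hzx x (Submodule.mem_span_singleton_self x)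
    have hcoef : ∀ a b : F, hermForm n F q (a • x + b • z) x = a * hermForm n F q x x ∧
        hermForm n F q (a • x + b • z) z = b := fun a b => by
      simp [herm_add_left, herm_smul_left, hzx', herm_eq_zero_symm hF hzx', hz]
    have hli : LinearIndependent F ![x, z] := LinearIndependent.pair_iff.2 fun a b hab => by
      obtain ⟨c1, c2⟩ := hcoef a b
      rw [hab, herm_zero_left] at c1 c2
      exact ⟨(mul_eq_zero.1 c1.symm).resolve_right h0, c2.symm⟩
    refine ⟨Submodule.span F {x, z}, Submodule.span_le.2 ?_, Submodule.subset_span (by simp), ?_, ?_⟩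
    · rintro v (rfl | rfl)
      · exact hxW
      · exact hzW
    · intro u hu h
      obtain ⟨a, b, rfl⟩ := Submodule.mem_span_pair.1 hu
      obtain ⟨c1, c2⟩ := hcoef a b
      rw [h x (Submodule.subset_span (by simp))] at c1
      rw [h z (Submodule.subset_span (by simp))] at c2
      rw [(mul_eq_zero.1 c1.symm).resolve_right h0, ← c2, zero_smul, zero_smul, add_zero]
    · rw [show ({x, z} : Set (Fin n → F)) = Set.range ![x, z] by simp [Set.pair_comm],
        finrank_span_eq_card hli, Fintype.card_fin]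

/-! ### Counting -/

/-- The uniform lower bound for the numbers of nonzero vectors of given norm. -/
def vmin (q m : ℕ) : ℕ := q ^ m * (q ^ (m - 1) - 1)

theorem vmin_pos (hF : Fintype.card F = q ^ 2) {m : ℕ} (hm : 2 ≤ m) : 0 < vmin q m := by
  have := one_lt_q hF
  have h2 : 1 < q ^ (m - 1) := Nat.one_lt_pow (by omega) this
  unfold vmin
  exact Nat.mul_pos (pow_pos (by omega) m) (by omega)

theorem vmin_le_unit (hF : Fintype.card F = q ^ 2) {m : ℕ} (hm : 1 ≤ m) :
    vmin q m ≤ countUnit F q m := by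
  obtain ⟨k, rfl⟩ : ∃ k, m = k + 1 := ⟨m - 1, by omega⟩
  have h1q := one_lt_q hF
  rw [countUnit_succ hF, vmin, Nat.add_sub_cancel, pow_succ, mul_assoc]
  refine Nat.mul_le_mul_left _ ?_
  rw [Nat.mul_sub, mul_one, ← pow_succ', pow_succ]
  generalize q ^ k * q = a
  split_ifs <;> omega

theorem vmin_le_null (hF : Fintype.card F = q ^ 2) {m : ℕ} (hm : 2 ≤ m) :
    vmin q m + 1 ≤ countNull F q m := by
  obtain ⟨k, rfl⟩ : ∃ k, m = k + 1 := ⟨m - 1, by omega⟩
  have h1q := one_lt_q hF
  rw [countNull_succ_eq hF, vmin, Nat.add_sub_cancel]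
  refine Nat.add_le_add_right ?_ 1
  split_ifs
  · exact Nat.mul_le_mul_right _ (Nat.le_succ _)
  · have h1 : 1 ≤ q ^ k := Nat.one_le_pow _ _ (by omega)
    have h2 : 1 ≤ q ^ (k + 1) := Nat.one_le_pow _ _ (by omega)
    have h3 : 2 * q ^ k ≤ q ^ (k + 1) := by rw [pow_succ']; exact Nat.mul_le_mul_right _ h1q
    obtain ⟨a, ha⟩ : ∃ a, q ^ k = a + 1 := ⟨q ^ k - 1, by omega⟩
    obtain ⟨b, hb⟩ : ∃ b, q ^ (k + 1) = b + 1 := ⟨q ^ (k + 1) - 1, by omega⟩
    rw [ha, hb, Nat.add_sub_cancel, Nat.add_sub_cancel]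
    nlinarith

/-- At least `vmin q m` nonzero vectors of each norm in an `m`-dimensional nondegenerate subspace. -/
theorem vmin_le_card (hF : Fintype.card F = q ^ 2) {W : Submodule F (Fin n → F)} (hW : Nondeg q W)
    (hm : 2 ≤ finrank F W) {c : F} (hc : c ^ q = c) :
    vmin q (finrank F W) ≤
      Nat.card {v : Fin n → F // v ∈ W ∧ v ≠ 0 ∧ hermForm n F q v v = c} := by
  classical
  set m := finrank F W with hmdef
  obtain ⟨g, hg, hgW, -⟩ := exists_orthonormal_of_nondeg hF m W hmdef.symm hW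
  let B : (Fin m → F) → (Fin n → F) := fun x => ∑ i, x i • g i
  have hB0 : ∀ x, B x = 0 → x = 0 := fun x hx => funext fun j => by
    show x j = 0
    rw [← orthonormal_coeff hg x j]
    exact (congrArg (fun v => hermForm n F q v (g j)) hx).trans (herm_zero_left _)
  have hBinj : Function.Injective B := fun x y hxy => by
    rw [← sub_eq_zero]
    refine hB0 _ ?_
    simp only [B, Pi.sub_apply, sub_smul, Finset.sum_sub_distrib]
    exact sub_eq_zero.2 hxy
  have hBn : ∀ x, hermForm n F q (B x) (B x) = hermForm m F q x x := fun x => by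
    simp only [B]
    rw [herm_sum_sum hF]
    simp only [hg _ _, mul_ite, mul_one, mul_zero, Finset.sum_ite_eq, Finset.mem_univ, if_true]
    rfl
  have key : Nat.card {x : Fin m → F // x ≠ 0 ∧ hermForm m F q x x = c} ≤
      Nat.card {v : Fin n → F // v ∈ W ∧ v ≠ 0 ∧ hermForm n F q v v = c} :=
    Nat.card_le_card_of_injective
      (fun x => ⟨B x.1, W.sum_mem fun i _ => W.smul_mem _ (hgW i), fun h => x.2.1 (hB0 _ h),
        by rw [hBn]; exact x.2.2⟩)
      fun x y h => Subtype.ext (hBinj (congrArg Subtype.val h))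
  refine le_trans ?_ key
  rcases eq_or_ne c 0 with rfl | hc0
  · have h1 : countNull F q m = Nat.card {x : Fin m → F // x ≠ 0 ∧ hermForm m F q x x = 0} + 1 := by
      rw [countNull, Nat.card_eq_fintype_card, Nat.card_eq_fintype_card, Fintype.card_subtype,
        Fintype.card_subtype,
        show (Finset.univ.filter fun x : Fin m → F => x ≠ 0 ∧ hermForm m F q x x = 0) =
          (Finset.univ.filter fun x : Fin m → F => hermForm m F q x x = 0).erase 0 by ext x; simp,
        Finset.card_erase_add_one (by simp [herm_zero_left])]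
    have := vmin_le_null hF hm
    omega
  · obtain ⟨a, ha⟩ := norm_surj hF hc
    have ha0 : a ≠ 0 := fun h => hc0 (by rw [← ha, h, zero_mul])
    refine (vmin_le_unit hF (by omega)).trans ?_
    refine Nat.card_le_card_of_injective
      (fun x => ⟨a • x.1, smul_ne_zero ha0 (fun h => by simpa [h, herm_zero_left] using x.2), by
        rw [herm_smul_left, herm_smul_right, x.2, mul_one, ha]⟩)
      fun x y h => Subtype.ext (smul_right_injective _ ha0 (congrArg Subtype.val h))

/-- Vectors of given norm and given product with `x`, off the line of `x`. -/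
theorem second_le_card (hF : Fintype.card F = q ^ 2) {W : Submodule F (Fin n → F)} (hW : Nondeg q W)
    (hm : 4 ≤ finrank F W) {x : Fin n → F} (hxW : x ∈ W) (hx : x ≠ 0) (b : F) {c : F}
    (hc : c ^ q = c) :
    q ^ 2 * vmin q (finrank F W - 2) ≤ Nat.card {y : Fin n → F //
      y ∈ W ∧ hermForm n F q y x = b ∧ hermForm n F q y y = c ∧ ∀ a : F, y ≠ a • x} := by
  classical
  obtain ⟨P, hPW, hxP, hP, hP2⟩ := exists_plane hF hW (by omega) hxW hx
  obtain ⟨hR, hRr⟩ := nondeg_inf_perp hF hW hP hPW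
  set R : Submodule F (Fin n → F) := W ⊓ perp q P
  have hRd : finrank F R = finrank F W - 2 := by omega
  obtain ⟨p1, hp1, hp1x⟩ : ∃ p ∈ P, hermForm n F q p x = 1 := by
    obtain ⟨p, hp, hpx⟩ : ∃ p ∈ P, hermForm n F q x p ≠ 0 := by
      by_contra hcon
      push Not at hcon
      exact hx (hP x hxP hcon)
    refine ⟨(hermForm n F q p x)⁻¹ • p, P.smul_mem _ hp, ?_⟩
    rw [herm_smul_left, inv_mul_cancel₀ fun h => hpx (herm_eq_zero_symm hF h)]
  obtain ⟨k, hk, hkx, hk0⟩ : ∃ k ∈ P, hermForm n F q k x = 0 ∧ k ≠ 0 := by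
    have h2 : ¬ P ≤ Submodule.span F {p1} := fun hle => by
      have := Submodule.finrank_mono hle
      rw [hP2, finrank_span_singleton (fun h : p1 = 0 => by simp [h, herm_zero_left] at hp1x)] at this
      omega
    obtain ⟨p, hp, hpn⟩ := SetLike.not_le_iff_exists.1 h2
    refine ⟨p - hermForm n F q p x • p1, P.sub_mem hp (P.smul_mem _ hp1), ?_, fun h0 => hpn ?_⟩
    · rw [herm_sub_left, herm_smul_left, hp1x, mul_one, sub_self]
    · rw [sub_eq_zero] at h0
      exact Submodule.mem_span_singleton.2 ⟨_, h0.symm⟩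
  let π : F → Fin n → F := fun a => b • p1 + a • k
  have hπP : ∀ a, π a ∈ P := fun a => P.add_mem (P.smul_mem _ hp1) (P.smul_mem _ hk)
  have hπx : ∀ a, hermForm n F q (π a) x = b := fun a => by
    simp [π, herm_add_left, herm_smul_left, hp1x, hkx]
  let d : F → F := fun a => c - hermForm n F q (π a) (π a)
  have hd : ∀ a, d a ^ q = d a := fun a => by
    simp only [d, sub_pow_q hF, hc, herm_self_fixed _ hF]
  have hle : ∀ a, vmin q (finrank F W - 2) ≤
      Nat.card {v : Fin n → F // v ∈ R ∧ v ≠ 0 ∧ hermForm n F q v v = d a} := fun a => by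
    rw [← hRd]; exact vmin_le_card hF hR (by omega) (hd a)
  refine le_trans (le_trans (le_of_eq ?_) (Finset.sum_le_sum fun a (_ : a ∈ Finset.univ) => hle a)) ?_
  · rw [Finset.sum_const, Finset.card_univ, hF, smul_eq_mul]
  rw [← Nat.card_sigma]
  refine Nat.card_le_card_of_injective
    (fun p : Σ a : F, {v : Fin n → F // v ∈ R ∧ v ≠ 0 ∧ hermForm n F q v v = d a} =>
      ⟨π p.1 + p.2.1, W.add_mem (hPW (hπP _)) p.2.2.1.1, ?_, ?_, ?_⟩) ?_
  · rw [herm_add_left, hπx, p.2.2.1.2 x hxP, add_zero]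
  · have h1 : hermForm n F q p.2.1 (π p.1) = 0 := p.2.2.1.2 _ (hπP _)
    have h2 := herm_eq_zero_symm hF h1
    have h3 : hermForm n F q p.2.1 p.2.1 = c - hermForm n F q (π p.1) (π p.1) := p.2.2.2.2
    generalize π p.1 = u at h1 h2 h3 ⊢
    rw [herm_add_left, herm_add_right _ _ _ hF, herm_add_right _ _ _ hF, h1, h2, h3]
    ring
  · intro a ha
    refine p.2.2.2.1 ((nondeg_iff_disjoint.1 hP).le ?_ : p.2.1 ∈ (⊥ : Submodule F _))
    refine ⟨?_, p.2.2.1.2⟩
    rw [show p.2.1 = a • x - π p.1 by rw [← ha]; abel]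
    exact P.sub_mem (P.smul_mem _ hxP) (hπP _)
  · rintro ⟨a, v, hv⟩ ⟨a', v', hv'⟩ h
    have h0 : π a + v = π a' + v' := congrArg Subtype.val h
    have h1 : π a - π a' ∈ (⊥ : Submodule F (Fin n → F)) := by
      refine (nondeg_iff_disjoint.1 hP).le ⟨P.sub_mem (hπP a) (hπP a'), ?_⟩
      rw [show π a - π a' = v' - v by linear_combination h0]
      exact (perp q P).sub_mem hv'.1.2 hv.1.2
    rw [Submodule.mem_bot] at h1
    have : (a - a') • k = 0 := by rw [← h1]; simp only [π, sub_smul]; abel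
    obtain rfl := sub_eq_zero.1 ((smul_eq_zero.1 this).resolve_right hk0)
    exact Sigma.subtype_ext rfl (add_left_cancel h0)

/-! ### The stabiliser of the pair -/

/-- The stabiliser in `SU` of `e` and `f`. -/
def LS (e f : Fin n → F) : Subgroup (SU n F q) := PS e ⊓ PS f

theorem mem_LS {X : SU n F q} : X ∈ LS (q := q) e f ↔ X.1.1 *ᵥ e = e ∧ X.1.1 *ᵥ f = f := Iff.rfl

theorem LS_rest (hF : Fintype.card F = q ^ 2) {X : SU n F q} (hX : X ∈ LS (q := q) e f) {w : Fin n → F}
    (hw : w ∈ rest q e f) : X.1.1 *ᵥ w ∈ rest q e f := by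
  obtain ⟨h1, h2⟩ := (mem_rest hF).1 hw
  rw [mem_rest hF]
  refine ⟨?_, ?_⟩
  · conv_lhs => arg 5; rw [← (mem_LS.1 hX).1]
    rw [SU_herm, h1]
  · conv_lhs => arg 5; rw [← (mem_LS.1 hX).2]
    rw [SU_herm, h2]

/-- Correct a determinant by a norm-one vector orthogonal to the pair and to the tuple. -/
theorem exists_LS_of_unit (hF : Fintype.card F = q ^ 2) (A : GU n F q) (hAe : A.1.1 *ᵥ e = e)
    (hAf : A.1.1 *ᵥ f = f) {z : Fin n → F} (hz : hermForm n F q z z = 1)
    (hzW : z ∈ rest q e f) :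
    ∃ X ∈ LS (q := q) e f, ∀ u, hermForm n F q (A.1.1 *ᵥ u) z = 0 → X.1.1 *ᵥ u = A.1.1 *ᵥ u := by
  obtain ⟨B, hBdet, -, hBfix⟩ := exists_GU_scale hF hz (inv_norm_one hF (det_norm_one hF A))
  have hdet : (B * A).1.1.det = 1 := by
    simp only [Subgroup.coe_mul, Units.val_mul, Matrix.det_mul, hBdet]
    exact inv_mul_cancel₀ fun h0 => by simpa [h0] using det_norm_one hF A
  obtain ⟨X, hX⟩ := exists_SU_of_GU hdet
  obtain ⟨h1, h2⟩ := rest_swap_herm hF hzW
  refine ⟨X, ⟨?_, ?_⟩, fun u hu => ?_⟩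
  · show X.1.1 *ᵥ e = e
    rw [hX, GU_mul_mulVec, hAe, hBfix e h1]
  · show X.1.1 *ᵥ f = f
    rw [hX, GU_mul_mulVec, hAf, hBfix f h2]
  · rw [hX, GU_mul_mulVec, hBfix _ hu]

/-- Correct a determinant by scaling a hyperbolic pair orthogonal to `e` and `f`. -/
theorem exists_LS_of_pair (hF : Fintype.card F = q ^ 2) (A : GU n F q) (hAe : A.1.1 *ᵥ e = e)
    (hAf : A.1.1 *ᵥ f = f) {s t : Fin n → F} (hst : Hyp q s t) (hs : s ∈ rest q e f)
    (ht : t ∈ rest q e f) :
    ∃ X ∈ LS (q := q) e f, ∃ l : F, l ≠ 0 ∧ (∀ u, hermForm n F q (A.1.1 *ᵥ u) s = 0 →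
      hermForm n F q (A.1.1 *ᵥ u) t = 0 → X.1.1 *ᵥ u = A.1.1 *ᵥ u) ∧
      ∀ u, A.1.1 *ᵥ u = s → X.1.1 *ᵥ u = l • s := by
  obtain ⟨l, hl, hl'⟩ := exists_div_conj hF (inv_norm_one hF (det_norm_one hF A))
  obtain ⟨B, hBdet, hBs, -, hBfix⟩ := exists_GU_hyp_scale hF hst hl
  have hdet : (B * A).1.1.det = 1 := by
    simp only [Subgroup.coe_mul, Units.val_mul, Matrix.det_mul, hBdet]
    have hlq : l ^ q ≠ 0 := pow_ne_zero q hl
    rw [show l * (l ^ q)⁻¹ = A.1.1.det⁻¹ by
      rw [eq_comm, eq_mul_inv_iff_mul_eq₀ hlq]; exact hl'.symm]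
    exact inv_mul_cancel₀ fun h0 => by simpa [h0] using det_norm_one hF A
  obtain ⟨X, hX⟩ := exists_SU_of_GU hdet
  refine ⟨X, ⟨?_, ?_⟩, l, hl, fun u h1 h2 => ?_, fun u hu => ?_⟩
  · show X.1.1 *ᵥ e = e
    rw [hX, GU_mul_mulVec, hAe, hBfix e (rest_swap_herm hF hs).1 (rest_swap_herm hF ht).1]
  · show X.1.1 *ᵥ f = f
    rw [hX, GU_mul_mulVec, hAf, hBfix f (rest_swap_herm hF hs).2 (rest_swap_herm hF ht).2]
  · rw [hX, GU_mul_mulVec, hBfix _ h1 h2]
  · rw [hX, GU_mul_mulVec, hu, hBs]

theorem li_cons_pair (hF : Fintype.card F = q ^ 2) (h : Hyp q e f) {k : ℕ}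
    {b : Fin k → Fin n → F} (hb : LinearIndependent F b) (hbW : ∀ i, b i ∈ rest q e f) :
    LinearIndependent F (Fin.cons e (Fin.cons f b) : Fin (k + 2) → Fin n → F) := by
  rw [Fintype.linearIndependent_iff]
  intro c hc
  rw [Fin.sum_univ_succ, Fin.sum_univ_succ] at hc
  simp only [Fin.cons_zero, Fin.cons_succ] at hc
  have hmem : (∑ i : Fin k, c i.succ.succ • b i) ∈ rest q e f :=
    Submodule.sum_mem _ fun i _ => Submodule.smul_mem _ _ (hbW i)
  rw [← add_assoc] at hc
  obtain ⟨h0, h1, h2⟩ := eq_zero_of_mem_rest hF h hmem hc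
  intro i
  refine Fin.cases h0 (fun i => ?_) i
  refine Fin.cases h1 (fun i => ?_) i
  exact Fintype.linearIndependent_iff.1 hb (fun i => c i.succ.succ) h2 i

theorem exists_GU_fix_pair (hF : Fintype.card F = q ^ 2) (h : Hyp q e f) {k : ℕ}
    {b v : Fin k → Fin n → F} (hb : LinearIndependent F b) (hv : LinearIndependent F v)
    (hbW : ∀ i, b i ∈ rest q e f) (hvW : ∀ i, v i ∈ rest q e f)
    (hg : ∀ i j, hermForm n F q (b i) (b j) = hermForm n F q (v i) (v j)) :
    ∃ A : GU n F q, A.1.1 *ᵥ e = e ∧ A.1.1 *ᵥ f = f ∧ ∀ i, A.1.1 *ᵥ b i = v i := by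
  obtain ⟨A, hA⟩ := exists_GU_tuple hF (li_cons_pair hF h hb hbW) (li_cons_pair hF h hv hvW) (by
    intro i j
    refine Fin.cases ?_ (fun i => ?_) i <;> refine Fin.cases ?_ (fun j => ?_) j
    · simp
    · refine Fin.cases ?_ (fun j => ?_) j
      · simp
      · simp [(rest_swap_herm hF (hbW j)).1, (rest_swap_herm hF (hvW j)).1]
    · refine Fin.cases ?_ (fun i => ?_) i
      · simp
      · simp [((mem_rest hF).1 (hbW i)).1, ((mem_rest hF).1 (hvW i)).1]
    · refine Fin.cases ?_ (fun i => ?_) i <;> refine Fin.cases ?_ (fun j => ?_) j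
      · simp
      · simp [(rest_swap_herm hF (hbW j)).2, (rest_swap_herm hF (hvW j)).2]
      · simp [((mem_rest hF).1 (hbW i)).2, ((mem_rest hF).1 (hvW i)).2]
      · simpa using hg i j)
  exact ⟨A, by simpa using hA 0, by simpa using hA 1,
    fun i => by simpa using hA i.succ.succ⟩

/-- The part of the rest orthogonal to a tuple, inside its span. -/
theorem exists_unit_orth (hF : Fintype.card F = q ^ 2) (h : Hyp q e f) {k : ℕ}
    {v : Fin k → Fin n → F} (hv : LinearIndependent F v) (hvW : ∀ i, v i ∈ rest q e f)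
    (hdim : 2 * k + 2 < n ∨ (2 * k + 2 = n ∧ ∃ i j, hermForm n F q (v i) (v j) ≠ 0)) :
    ∃ z ∈ rest q e f, hermForm n F q z z = 1 ∧ ∀ i, hermForm n F q (v i) z = 0 := by
  classical
  set V := Submodule.span F (Set.range v)
  set R : Submodule F (Fin n → F) := rest q e f ⊓ perp q V
  have hVW : V ≤ rest q e f := Submodule.span_le.2 (Set.range_subset_iff.2 hvW)
  have hRdim : n ≤ finrank F R + (k + 2) := by
    have h1 := Submodule.finrank_sup_add_finrank_inf_eq (rest q e f) (perp q V)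
    have h2 := finrank_perp hF V
    have h3 : finrank F V = k := by rw [finrank_span_eq_card hv, Fintype.card_fin]
    have h4 := Submodule.finrank_le (rest q e f ⊔ perp q V)
    rw [finrank_fin_fun] at h4
    have h5 := finrank_rest hF h
    show n ≤ finrank F (rest q e f ⊓ perp q V : Submodule F (Fin n → F)) + (k + 2)
    omega
  obtain ⟨u, hu, hu0⟩ : ∃ u ∈ R, hermForm n F q u u ≠ 0 := by
    by_contra hcon
    push Not at hcon
    have hzero : ∀ u ∈ R, ∀ w ∈ R, hermForm n F q u w = 0 := by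
      intro u hu w hw
      refine eq_zero_of_trace_mul_eq_zero hF fun c => ?_
      have h1 := hcon (c • u + w) (R.add_mem (R.smul_mem c hu) hw)
      simp only [herm_add_left, herm_add_right _ _ _ hF, herm_smul_left, herm_smul_right,
        hcon u hu, hcon w hw, mul_zero, add_zero, zero_add] at h1
      rw [mul_pow, herm_conj u w hF]
      linear_combination h1
    have hRV : R ≤ V := by
      intro u hu
      have h1 : u ∈ rest q e f ⊓ perp q R := ⟨hu.1, fun w hw => hzero u hu w hw⟩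
      have h2 : rest q e f ⊓ perp q R ≤ V := by
        intro x hx
        have hd := finrank_perp hF R
        have key : perp q R = perp q (rest q e f) ⊔ V := by
          have e1 : perp q (perp q (rest q e f) ⊔ V) = R := by
            ext y
            constructor
            · intro hy
              refine ⟨?_, fun w hw => hy w (Submodule.mem_sup_right hw)⟩
              rw [← perp_perp hF (rest q e f)]
              exact fun w hw => hy w (Submodule.mem_sup_left hw)
            · rintro ⟨hy1, hy2⟩ w hw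
              obtain ⟨a, ha, b, hb, rfl⟩ := Submodule.mem_sup.1 hw
              rw [herm_add_right _ _ _ hF, herm_eq_zero_symm hF (ha y hy1), hy2 b hb, add_zero]
          rw [← e1, perp_perp hF]
        have hx2 := hx.2
        rw [key] at hx2
        obtain ⟨a, ha, b, hb, rfl⟩ := Submodule.mem_sup.1 hx2
        have : a ∈ rest q e f := by simpa using (rest q e f).sub_mem hx.1 (hVW hb)
        have h0 := (nondeg_iff_disjoint.1 (nondeg_rest hF h)).le ⟨this, ha⟩
        rw [(Submodule.mem_bot F).1 h0, zero_add]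
        exact hb
      exact h2 h1
    have h3 : finrank F V = k := by rw [finrank_span_eq_card hv, Fintype.card_fin]
    rcases hdim with hd | ⟨hd, i, j, hij⟩
    · have := Submodule.finrank_mono hRV
      omega
    · have hle := Submodule.finrank_mono hRV
      have heq : R = V := Submodule.eq_of_le_of_finrank_eq hRV (by omega)
      refine hij (hzero _ ?_ _ ?_) <;> rw [heq] <;> exact Submodule.subset_span ⟨_, rfl⟩
  obtain ⟨a, ha⟩ := norm_surj hF (y := (hermForm n F q u u)⁻¹) (by
    rw [inv_pow, herm_self_fixed u hF])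
  refine ⟨a • u, Submodule.smul_mem _ _ hu.1, ?_, fun i => ?_⟩
  · rw [herm_smul_left, herm_smul_right, ← mul_assoc, ha, inv_mul_cancel₀ hu0]
  · rw [herm_smul_right, herm_eq_zero_symm hF (hu.2 _ (Submodule.subset_span ⟨i, rfl⟩)), mul_zero]

/-- `LS e f` maps tuples of the rest to tuples with the same Gram matrix, when room permits. -/
theorem exists_LS_tuple (hF : Fintype.card F = q ^ 2) (h : Hyp q e f) {k : ℕ}
    {b v : Fin k → Fin n → F} (hb : LinearIndependent F b) (hv : LinearIndependent F v)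
    (hbW : ∀ i, b i ∈ rest q e f) (hvW : ∀ i, v i ∈ rest q e f)
    (hg : ∀ i j, hermForm n F q (b i) (b j) = hermForm n F q (v i) (v j))
    (hdim : 2 * k + 2 < n ∨ (2 * k + 2 = n ∧ ∃ i j, hermForm n F q (v i) (v j) ≠ 0)) :
    ∃ X ∈ LS (q := q) e f, ∀ i, X.1.1 *ᵥ b i = v i := by
  obtain ⟨A, hAe, hAf, hA⟩ := exists_GU_fix_pair hF h hb hv hbW hvW hg
  obtain ⟨z, hzW, hz, hzv⟩ := exists_unit_orth hF h hv hvW hdim
  obtain ⟨X, hX, hXA⟩ := exists_LS_of_unit hF A hAe hAf hz hzW
  exact ⟨X, hX, fun i => by rw [hXA _ (by rw [hA]; exact hzv i), hA]⟩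

/-- Single vectors. -/
theorem exists_LS_vec (hF : Fintype.card F = q ^ 2) (h : Hyp q e f) (hn : 5 ≤ n) {x y : Fin n → F}
    (hxW : x ∈ rest q e f) (hyW : y ∈ rest q e f) (hx : x ≠ 0) (hy : y ≠ 0)
    (hg : hermForm n F q x x = hermForm n F q y y) :
    ∃ X ∈ LS (q := q) e f, X.1.1 *ᵥ x = y := by
  obtain ⟨X, hX, hXb⟩ := exists_LS_tuple hF h (k := 1) (b := ![x]) (v := ![y]) (by simp [hx])
    (by simp [hy]) (fun i => by fin_cases i; simpa using hxW) (fun i => by fin_cases i; simpa using hyW)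
    (fun i j => by fin_cases i; fin_cases j; simpa using hg) (Or.inl (by omega))
  exact ⟨X, hX, by simpa using hXb 0⟩

/-- Totally isotropic pairs, up to scaling the second vector. -/
theorem exists_LS_tiPair (hF : Fintype.card F = q ^ 2) (h : Hyp q e f) {x y x' y' : Fin n → F}
    (hb : LinearIndependent F ![x, y]) (hv : LinearIndependent F ![x', y'])
    (hxW : x ∈ rest q e f) (hyW : y ∈ rest q e f) (hxW' : x' ∈ rest q e f) (hyW' : y' ∈ rest q e f)
    (hg : ∀ i j, hermForm n F q (![x, y] i) (![x, y] j) = 0)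
    (hg' : ∀ i j, hermForm n F q (![x', y'] i) (![x', y'] j) = 0) :
    ∃ X ∈ LS (q := q) e f, ∃ l : F, l ≠ 0 ∧ X.1.1 *ᵥ x = x' ∧ X.1.1 *ᵥ y = l • y' := by
  have hbW : ∀ i, ![x, y] i ∈ rest q e f := fun i => by fin_cases i <;> simpa
  have hvW : ∀ i, ![x', y'] i ∈ rest q e f := fun i => by fin_cases i <;> simpa
  obtain ⟨A, hAe, hAf, hA⟩ := exists_GU_fix_pair hF h hb hv hbW hvW
    (fun i j => by rw [hg, hg'])
  have h4 := li_cons_pair hF h hv hvW
  obtain ⟨t, ht, hto⟩ := exists_partner hF h4 3 (fun i => by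
    refine Fin.cases ?_ (fun i => ?_) i
    · simpa using (rest_swap_herm hF hyW').1
    refine Fin.cases ?_ (fun i => ?_) i
    · simpa using (rest_swap_herm hF hyW').2
    · simpa using hg' i 1)
  have h0 := hto 0 (by decide)
  have h1 := hto 1 (by decide)
  have h2 := hto 2 (by decide)
  simp only [Fin.cons_zero] at h0
  have h1' : hermForm n F q t f = 0 := by simpa using h1
  have h2' : hermForm n F q t x' = 0 := by simpa using h2
  have ht' : Hyp q y' t := by simpa using ht
  obtain ⟨X, hX, l, hl, hfix, hs⟩ := exists_LS_of_pair hF A hAe hAf ht' hyW'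
    ((mem_rest hF).2 ⟨h0, h1'⟩)
  refine ⟨X, hX, l, hl, ?_, hs y (by simpa using hA 1)⟩
  have hAx : A.1.1 *ᵥ x = x' := by simpa using hA 0
  rw [hfix x (by rw [hAx]; simpa using hg' 0 1) (by rw [hAx]; exact herm_eq_zero_symm hF h2'), hAx]

end Cfsg.Agent.Lib.MinIndexPSU
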