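import Mathlib
import Cfsg.Agent.Lib.MinIndexPSU.Rest

/-!
Lib/MinIndexPSU/Parabolic: the intersection of a subgroup `K` of `SU` with the stabiliser of an
isotropic line; `q ^ (2 r + 1) * #(orbit of the rest part) ≤ index * #(rest part)`.
-/

set_option autoImplicit false
set_option linter.unusedSectionVars false

namespace Cfsg.Agent.Lib.MinIndexPSU

open Matrix Module Cfsg.Agent.Lib.Unitary Cfsg.Agent.Lib.AutPSU

variable {F : Type*} [Field F] [Fintype F] {q : ℕ} {n : ℕ} {e f : Fin n → F}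

/-! ### Scalings of a subgroup of trace-zero scalars -/

/-- Nonzero scalars of the fixed field. -/
abbrev Fx (F : Type*) [Field F] (q : ℕ) : Type _ := {μ : F // μ ^ q = μ ∧ μ ≠ 0}

theorem card_Fx (hF : Fintype.card F = q ^ 2) : Nat.card (Fx F q) + 1 = q := by
  classical
  have h := card_fixed hF
  rw [Nat.card_eq_fintype_card, Fintype.card_subtype] at h
  rw [Nat.card_eq_fintype_card, Fintype.card_subtype,
    show (Finset.univ.filter fun μ : F => μ ^ q = μ ∧ μ ≠ 0) =
      (Finset.univ.filter fun μ : F => μ ^ q = μ).erase 0 by ext x; simp [and_comm],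
    Finset.card_erase_add_one (by simp [zero_pow_q hF])]
  convert h

/-- A proper subgroup of the trace-zero scalars has at least as many scalings as elements. -/
theorem card_le_card_scalings (hF : Fintype.card F = q ^ 2) (B : AddSubgroup F)
    (hle : ∀ b ∈ B, b + b ^ q = 0) {z : F} (hz : z + z ^ q = 0) (hzB : z ∉ B) :
    Nat.card B ≤ (Set.range fun μ : Fx F q => (fun x => μ.1 * x) '' (B : Set F)).ncard := by
  classical
  let S : Type _ := {μ : Fx F q // (fun x => μ.1 * x) '' (B : Set F) = B}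
  have hS : Nat.card B * (Nat.card S + 1) ≤ q := by
    have hcard : Nat.card {c : F // c + c ^ q = 0} = q := card_trace_zero hF
    let μ0 : Option S → F := fun o => o.elim 0 (fun s => s.1.1)
    have hfix : ∀ o, μ0 o ^ q = μ0 o := by
      rintro (_ | s)
      · exact zero_pow_q hF
      · exact s.1.2.1
    have hsub : ∀ o, ∀ x ∈ B, μ0 o * x ∈ B := by
      rintro (_ | s) x hx
      · simpa [μ0] using B.zero_mem
      · have : s.1.1 * x ∈ (fun y => s.1.1 * y) '' (B : Set F) := ⟨x, hx, rfl⟩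
        rw [s.2] at this
        exact this
    have hinj : Function.Injective fun p : B × Option S => (μ0 p.2 * z + (p.1 : F) : F) := by
      rintro ⟨b, o⟩ ⟨b', o'⟩ h
      have h' : μ0 o * z + b = μ0 o' * z + b' := h
      have ho : μ0 o = μ0 o' := by
        by_contra hne
        apply hzB
        set w := μ0 o - μ0 o'
        have hw : w ≠ 0 := sub_ne_zero.2 hne
        let φ : B → B := fun x => ⟨w * x, by
          rw [sub_mul]; exact B.sub_mem (hsub o x x.2) (hsub o' x x.2)⟩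
        have hφ : Function.Bijective φ := Finite.injective_iff_bijective.1 fun x y hxy =>
          Subtype.ext (mul_left_cancel₀ hw (congrArg Subtype.val hxy))
        obtain ⟨x, hx⟩ := hφ.2 ⟨w * z, by
          rw [show w * z = b' - b by simp only [w]; linear_combination h']
          exact B.sub_mem b'.2 b.2⟩
        have hxz : (x : F) = z := mul_left_cancel₀ hw (congrArg Subtype.val hx)
        exact hxz ▸ x.2
      refine Prod.ext (Subtype.ext ?_) ?_
      · rw [ho] at h'; exact add_left_cancel h'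
      · rcases o with _ | s <;> rcases o' with _ | s'
        · rfl
        · exact absurd ho.symm s'.1.2.2
        · exact absurd ho s.1.2.2
        · exact congrArg some (Subtype.ext (Subtype.ext ho))
    have hmem : ∀ p : B × Option S,
        (μ0 p.2 * z + (p.1 : F)) + (μ0 p.2 * z + (p.1 : F)) ^ q = 0 := fun p => by
      rw [add_pow_q hF, mul_pow, hfix]
      linear_combination μ0 p.2 * hz + hle _ p.1.2
    have := Nat.card_le_card_of_injective
      (fun p : B × Option S => (⟨μ0 p.2 * z + (p.1 : F), hmem p⟩ : {c : F // c + c ^ q = 0}))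
      fun x y h => hinj (congrArg Subtype.val h)
    rwa [Nat.card_prod, Finite.card_option, hcard] at this
  set Y := Set.range fun μ : Fx F q => (fun x => μ.1 * x) '' (B : Set F) with hY
  have hsum : Nat.card (Fx F q) ≤ Y.ncard * Nat.card S := by
    rw [Nat.card_congr (Equiv.sigmaFiberEquiv fun μ : Fx F q =>
      (⟨(fun x => μ.1 * x) '' (B : Set F), μ, rfl⟩ : Y)).symm, Nat.card_sigma,
      ← Nat.card_coe_set_eq, Nat.card_eq_fintype_card (α := Y), ← Finset.card_univ]
    refine Finset.sum_le_card_nsmul _ _ _ fun y _ => ?_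
    obtain ⟨μ₁, hμ₁⟩ := y.2
    refine Nat.card_le_card_of_injective (fun μ => ⟨⟨μ₁.1⁻¹ * μ.1.1, ?_, ?_⟩, ?_⟩) ?_
    · rw [mul_pow, inv_pow, μ₁.2.1, μ.1.2.1]
    · exact mul_ne_zero (inv_ne_zero μ₁.2.2) μ.1.2.2
    · show (fun x => μ₁.1⁻¹ * μ.1.1 * x) '' (B : Set F) = B
      have h := congrArg Subtype.val μ.2
      simp only at h
      have h2 : (fun x => μ.1.1 * x) '' (B : Set F) = (fun x => μ₁.1 * x) '' (B : Set F) :=
        h.trans hμ₁.symm
      calc (fun x => μ₁.1⁻¹ * μ.1.1 * x) '' (B : Set F)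
          = (fun x => μ₁.1⁻¹ * x) '' ((fun x => μ.1.1 * x) '' (B : Set F)) := by
            rw [Set.image_image]; simp [mul_assoc]
        _ = B := by
            rw [h2, Set.image_image]
            simp [← mul_assoc, inv_mul_cancel₀ μ₁.2.2]
    · intro a b hab
      have h := congrArg (fun s : S => s.1.1) hab
      exact Subtype.ext (Subtype.ext (mul_left_cancel₀ (inv_ne_zero μ₁.2.2) h))
  have hpos : 0 < Nat.card B := Nat.card_pos
  have hq := card_Fx hF
  by_contra hlt
  push Not at hlt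
  have h1 := Nat.mul_le_mul_right (Nat.card S) (Nat.succ_le_of_lt hlt)
  have h2 := one_lt_q hF
  rcases Nat.eq_zero_or_pos (Nat.card S) with h0 | h0
  · simp only [h0, mul_zero] at hsum
    omega
  · nlinarith

/-! ### Parameters of elements of `QS e` -/

/-- The rest parameter of an element of `QS e`. -/
def zp (e f : Fin n → F) (X : SU n F q) : Fin n → F := proj q e f (X.1.1 *ᵥ f)

/-- The transvection parameter. -/
def tc (f : Fin n → F) (X : SU n F q) : F := hermForm n F q (X.1.1 *ᵥ f) f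

theorem zp_of_eich (hF : Fintype.card F = q ^ 2) (h : Hyp q e f) {z : Fin n → F} {d : F}
    {X : SU n F q} (hz : z ∈ rest q e f) (hX : IsEich e z d (suToGU n F q X)) : zp e f X = z := by
  have h1 := hX f
  rw [suToGU_val] at h1
  rw [zp, h1, h.symm' hF, (rest_swap_herm hF hz).2, one_smul, sub_zero, mul_one]
  rw [show f + z + d • e = (d • e + (1 : F) • f) + z by rw [one_smul]; abel, proj_add,
    proj_plane hF h, proj_of_mem hF hz, zero_add]

theorem exists_param (hF : Fintype.card F = q ^ 2) (h : Hyp q e f) {X : SU n F q} (hX : X ∈ QS e) :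
    ∃ d, d + d ^ q + hermForm n F q (zp e f X) (zp e f X) = 0 ∧
      IsEich e (zp e f X) d (suToGU n F q X) := by
  obtain ⟨z, d, hze, hzf, hd, hA⟩ := QS_param hF h hX
  rw [zp_of_eich hF h ((mem_rest hF).2 ⟨hze, hzf⟩) hA]
  exact ⟨d, hd, hA⟩

theorem zp_mem (hF : Fintype.card F = q ^ 2) (h : Hyp q e f) (X : SU n F q) :
    zp e f X ∈ rest q e f := proj_mem hF h _

theorem zp_mul (hF : Fintype.card F = q ^ 2) (h : Hyp q e f) {X Y : SU n F q} (hX : X ∈ QS e)
    (hY : Y ∈ QS e) : zp e f (X * Y) = zp e f X + zp e f Y := by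
  obtain ⟨d, -, hA⟩ := exists_param hF h hX
  obtain ⟨d', -, hB⟩ := exists_param hF h hY
  have hx := ((mem_rest hF).1 (zp_mem hF h X)).1
  have hy := ((mem_rest hF).1 (zp_mem hF h Y)).1
  exact zp_of_eich hF h ((rest q e f).add_mem (zp_mem hF h X) (zp_mem hF h Y))
    (by rw [map_mul]; exact hA.mul hF hB h.1 hx hy)

theorem zp_one (hF : Fintype.card F = q ^ 2) (h : Hyp q e f) : zp e f (1 : SU n F q) = 0 := by
  have := zp_mul hF h (QS (q := q) e).one_mem (QS (q := q) e).one_mem
  rw [one_mul] at this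
  exact left_eq_add.1 this

theorem zp_inv (hF : Fintype.card F = q ^ 2) (h : Hyp q e f) {X : SU n F q} (hX : X ∈ QS e) :
    zp e f X⁻¹ = -zp e f X := by
  have := zp_mul hF h hX (inv_mem hX)
  rw [mul_inv_cancel, zp_one hF h] at this
  exact eq_neg_of_add_eq_zero_right this.symm

theorem tc_of_tv (hF : Fintype.card F = q ^ 2) (h : Hyp q e f) {c : F} {X : SU n F q}
    (hX : IsTvAt e c (suToGU n F q X)) : tc f X = c := by
  have h1 := hX f
  rw [suToGU_val] at h1
  rw [tc, h1, herm_add_left, herm_smul_left, h.2.1, h.2.2, h.symm' hF]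
  ring

theorem exists_tc (hF : Fintype.card F = q ^ 2) (h : Hyp q e f) {X : SU n F q} (hX : X ∈ RS e) :
    tc f X + tc f X ^ q = 0 ∧ IsTvAt e (tc f X) (suToGU n F q X) := by
  obtain ⟨c, hc, hA⟩ := (mem_RS_iff hF h).1 hX
  rw [tc_of_tv hF h hA]
  exact ⟨hc, hA⟩

theorem mem_RS_of_zp (hF : Fintype.card F = q ^ 2) (h : Hyp q e f) {X : SU n F q} (hX : X ∈ QS e)
    (h0 : zp e f X = 0) : X ∈ RS e := by
  obtain ⟨d, hd, hA⟩ := exists_param hF h hX
  rw [h0, herm_zero_left, add_zero] at hd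
  rw [h0] at hA
  exact (mem_RS_iff hF h).2 ⟨d, hd, hA.tv hF⟩

theorem zp_of_RS (hF : Fintype.card F = q ^ 2) (h : Hyp q e f) {X : SU n F q} (hX : X ∈ RS e) :
    zp e f X = 0 :=
  zp_of_eich hF h (rest q e f).zero_mem ((exists_tc hF h hX).2.eich hF)

theorem tc_mul (hF : Fintype.card F = q ^ 2) (h : Hyp q e f) {X Y : SU n F q} (hX : X ∈ RS e)
    (hY : Y ∈ RS e) : tc f (X * Y) = tc f X + tc f Y := by
  refine tc_of_tv hF h ?_
  have h1 := ((exists_tc hF h hX).2.eich hF).mul hF ((exists_tc hF h hY).2.eich hF) h.1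
    (herm_zero_left e) (herm_zero_left e)
  rw [map_mul]
  refine IsEich.tv hF ?_
  simpa [herm_zero_left] using h1

theorem tc_one (hF : Fintype.card F = q ^ 2) (h : Hyp q e f) : tc f (1 : SU n F q) = 0 := by
  have := tc_mul hF h (RS (q := q) e).one_mem (RS (q := q) e).one_mem
  rw [one_mul] at this
  exact left_eq_add.1 this

theorem tc_inv (hF : Fintype.card F = q ^ 2) (h : Hyp q e f) {X : SU n F q} (hX : X ∈ RS e) :
    tc f X⁻¹ = -tc f X := by
  have := tc_mul hF h hX (inv_mem hX)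
  rw [mul_inv_cancel, tc_one hF h] at this
  exact eq_neg_of_add_eq_zero_right this.symm

theorem tc_conj (hF : Fintype.card F = q ^ 2) (h : Hyp q e f) {g X : SU n F q} {ζ : F}
    (hg : g.1.1 *ᵥ e = ζ • e) (hX : X ∈ RS e) :
    tc f (g * X * g⁻¹) = ζ ^ (q + 1) * tc f X := by
  refine tc_of_tv hF h fun x => ?_
  have := (exists_tc hF h hX).2.conj (suToGU n F q g) x
  rw [suToGU_val, hg, ← map_inv, ← map_mul, ← map_mul] at this
  rw [this, herm_smul_right, smul_smul]
  congr 2
  ring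

theorem zp_conj (hF : Fintype.card F = q ^ 2) (h : Hyp q e f) {g X : SU n F q} {ζ : F}
    (hg : g.1.1 *ᵥ e = ζ • e) (hX : X ∈ QS e) :
    zp e f (g * X * g⁻¹) = ζ ^ q • proj q e f (g.1.1 *ᵥ zp e f X) := by
  obtain ⟨d, -, hA⟩ := exists_param hF h hX
  have := hA.conj (suToGU n F q g) f
  rw [suToGU_val, hg, ← map_inv, ← map_mul, ← map_mul, suToGU_val] at this
  rw [zp, this, herm_smul_right, h.symm' hF, mul_one, proj_add, proj_add, proj_smul, proj_smul,
    proj_smul]
  have he : proj q e f e = 0 := by simpa using proj_plane hF h (1 : F) 0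
  have hf : proj q e f f = 0 := by simpa using proj_plane hF h (0 : F) 1
  rw [he, hf, smul_zero, smul_zero, zero_add, add_zero]

/-- A scaling of the pair by `ζ`, `ζ⁻ᵠ`, inside `SU`. -/
theorem exists_torus (hF : Fintype.card F = q ^ 2) (h : Hyp q e f) (hn : 3 ≤ n) {ζ : F}
    (hζ : ζ ≠ 0) :
    ∃ g : SU n F q, g.1.1 *ᵥ e = ζ • e ∧ g.1.1 *ᵥ f = (ζ ^ q)⁻¹ • f ∧
      ∀ w ∈ rest q e f, g.1.1 *ᵥ w ∈ rest q e f := by
  obtain ⟨A, -, hAe, hAf, hAw⟩ := exists_GU_hyp_scale hF h hζ
  obtain ⟨z, hzW, hz⟩ := exists_norm_one_of_nondeg hF (nondeg_rest hF h) (fun hb => by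
    have := finrank_rest hF h
    rw [hb, finrank_bot] at this; omega)
  obtain ⟨B, hBdet, -, hBfix⟩ := exists_GU_scale hF hz (inv_norm_one hF (det_norm_one hF A))
  have hdet : (B * A).1.1.det = 1 := by
    simp only [Subgroup.coe_mul, Units.val_mul, Matrix.det_mul, hBdet]
    exact inv_mul_cancel₀ fun h0 => by simpa [h0] using det_norm_one hF A
  obtain ⟨X, hX⟩ := exists_SU_of_GU hdet
  obtain ⟨h1, h2⟩ := rest_swap_herm hF hzW
  refine ⟨X, ?_, ?_, fun w hw => ?_⟩
  · rw [hX, GU_mul_mulVec, hAe, Matrix.mulVec_smul, hBfix e h1]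
  · rw [hX, GU_mul_mulVec, hAf, Matrix.mulVec_smul, hBfix f h2]
  · obtain ⟨hwe, hwf⟩ := (mem_rest hF).1 hw
    rw [hX, GU_mul_mulVec, hAw w hwe hwf, mem_rest hF]
    constructor
    · conv_lhs => arg 5; rw [← hBfix e h1]
      rw [GU_herm, hwe]
    · conv_lhs => arg 5; rw [← hBfix f h2]
      rw [GU_herm, hwf]

/-! ### The parts of `K` -/

/-- The rest parameters of `K`. -/
def restPart (hF : Fintype.card F = q ^ 2) (h : Hyp q e f) (K : Subgroup (SU n F q)) :
    AddSubgroup (Fin n → F) where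
  carrier := zp e f '' ((K ⊓ QS e : Subgroup (SU n F q)) : Set (SU n F q))
  zero_mem' := ⟨1, one_mem _, zp_one hF h⟩
  add_mem' := by
    rintro _ _ ⟨X, hX, rfl⟩ ⟨Y, hY, rfl⟩
    exact ⟨X * Y, mul_mem hX hY, zp_mul hF h hX.2 hY.2⟩
  neg_mem' := by
    rintro _ ⟨X, hX, rfl⟩
    exact ⟨X⁻¹, inv_mem hX, zp_inv hF h hX.2⟩

/-- The transvection parameters of `K`. -/
def tvPart (hF : Fintype.card F = q ^ 2) (h : Hyp q e f) (K : Subgroup (SU n F q)) :
    AddSubgroup F where
  carrier := tc f '' ((K ⊓ RS e : Subgroup (SU n F q)) : Set (SU n F q))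
  zero_mem' := ⟨1, one_mem _, tc_one hF h⟩
  add_mem' := by
    rintro _ _ ⟨X, hX, rfl⟩ ⟨Y, hY, rfl⟩
    exact ⟨X * Y, mul_mem hX hY, tc_mul hF h hX.2 hY.2⟩
  neg_mem' := by
    rintro _ ⟨X, hX, rfl⟩
    exact ⟨X⁻¹, inv_mem hX, tc_inv hF h hX.2⟩

theorem restPart_le (hF : Fintype.card F = q ^ 2) (h : Hyp q e f) (K : Subgroup (SU n F q))
    {a : Fin n → F} (ha : a ∈ restPart hF h K) : a ∈ rest q e f := by
  obtain ⟨X, -, rfl⟩ := ha
  exact zp_mem hF h X

theorem tvPart_trace (hF : Fintype.card F = q ^ 2) (h : Hyp q e f) (K : Subgroup (SU n F q))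
    {b : F} (hb : b ∈ tvPart hF h K) : b + b ^ q = 0 := by
  obtain ⟨X, hX, rfl⟩ := hb
  exact (exists_tc hF h hX.2).1

theorem exists_not_mem_tvPart (hF : Fintype.card F = q ^ 2) (h : Hyp q e f)
    {K : Subgroup (SU n F q)} (hK : ¬ RS e ≤ K) :
    ∃ c : F, c + c ^ q = 0 ∧ c ∉ tvPart hF h K := by
  obtain ⟨X, hX, hXK⟩ := SetLike.not_le_iff_exists.1 hK
  refine ⟨tc f X, (exists_tc hF h hX).1, ?_⟩
  rintro ⟨Y, hY, hYX⟩
  apply hXK
  have : suToGU n F q Y = suToGU n F q X :=
    (exists_tc hF h hY.2).2.unique (hYX ▸ (exists_tc hF h hX).2)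
  exact suToGU_injective this ▸ hY.1

/-- Pairing values of the rest part lie in the transvection part. -/
theorem pairing_mem (hF : Fintype.card F = q ^ 2) (h : Hyp q e f) {K : Subgroup (SU n F q)}
    {a b : Fin n → F} (ha : a ∈ restPart hF h K) (hb : b ∈ restPart hF h K) :
    hermForm n F q a b - hermForm n F q b a ∈ tvPart hF h K := by
  obtain ⟨X, hX, rfl⟩ := ha
  obtain ⟨Y, hY, rfl⟩ := hb
  obtain ⟨d, -, hA⟩ := exists_param hF h hX.2
  obtain ⟨d', -, hB⟩ := exists_param hF h hY.2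
  have hx := ((mem_rest hF).1 (zp_mem hF h X)).1
  have hy := ((mem_rest hF).1 (zp_mem hF h Y)).1
  have hXY : zp e f (X * Y) = zp e f (Y * X) := by
    rw [zp_mul hF h hX.2 hY.2, zp_mul hF h hY.2 hX.2, add_comm]
  have hT : X * Y * (Y * X)⁻¹ ∈ RS e := by
    refine mem_RS_of_zp hF h (mul_mem (mul_mem hX.2 hY.2) (inv_mem (mul_mem hY.2 hX.2))) ?_
    rw [zp_mul hF h (mul_mem hX.2 hY.2) (inv_mem (mul_mem hY.2 hX.2)),
      zp_inv hF h (mul_mem hY.2 hX.2), hXY, add_neg_cancel]
  refine ⟨_, ⟨K.mul_mem (K.mul_mem hX.1 hY.1) (K.inv_mem (K.mul_mem hY.1 hX.1)), hT⟩, ?_⟩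
  have h1 := hA.mul hF hB h.1 hx hy
  have h2 := ((exists_tc hF h hT).2.eich hF).mul hF (hB.mul hF hA h.1 hy hx) h.1 (herm_zero_left e)
    (by rw [herm_add_left, hy, hx, add_zero])
  rw [← map_mul, ← map_mul, inv_mul_cancel_right, herm_zero_right _ hF, sub_zero] at h2
  rw [← map_mul] at h1
  have h3 := (h1 f).symm.trans (h2 f)
  rw [h.symm' hF, zero_add, add_comm (zp e f Y) (zp e f X)] at h3
  simp only [mul_one, add_right_inj] at h3
  have h4 := smul_left_injective F (ne_zero_of_hyp h) h3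
  linear_combination -h4

/-! ### Cardinalities -/

theorem card_subgroup_QS (hF : Fintype.card F = q ^ 2) (h : Hyp q e f) (S : Subgroup (SU n F q))
    (hS : S ≤ QS e) :
    Nat.card S = (zp e f '' (S : Set (SU n F q))).ncard *
      (tc f '' ((S ⊓ RS e : Subgroup (SU n F q)) : Set (SU n F q))).ncard := by
  let ψ : S →* Multiplicative (Fin n → F) := MonoidHom.mk'
    (fun X => Multiplicative.ofAdd (zp e f X.1))
    fun X Y => by rw [← ofAdd_add, ← zp_mul hF h (hS X.2) (hS Y.2)]; rfl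
  have hker : ∀ X : S, X ∈ ψ.ker ↔ (X : SU n F q) ∈ RS e := fun X => by
    rw [MonoidHom.mem_ker]
    refine ⟨fun hx => mem_RS_of_zp hF h (hS X.2) (Multiplicative.ofAdd.injective hx), fun hx => ?_⟩
    show Multiplicative.ofAdd (zp e f X.1) = 1
    rw [zp_of_RS hF h hx, ofAdd_zero]
  rw [Subgroup.card_eq_card_quotient_mul_card_subgroup ψ.ker,
    Nat.card_congr (QuotientGroup.quotientKerEquivRange ψ).toEquiv]
  congr 1
  · rw [← Nat.card_coe_set_eq]
    exact Nat.card_congr
      ((Equiv.subtypeEquiv Multiplicative.toAdd fun x => by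
        show x ∈ ψ.range ↔ Multiplicative.toAdd x ∈ zp e f '' (S : Set (SU n F q))
        constructor
        · rintro ⟨X, rfl⟩; exact ⟨X, X.2, rfl⟩
        · rintro ⟨X, hX, hx⟩; exact ⟨⟨X, hX⟩, Multiplicative.toAdd.injective hx⟩))
  · rw [Set.InjOn.ncard_image, ← Nat.card_coe_set_eq]
    · exact Nat.card_congr
        { toFun := fun X => ⟨X.1.1, X.1.2, (hker _).1 X.2⟩
          invFun := fun X => ⟨⟨X.1, X.2.1⟩, (hker _).2 X.2.2⟩
          left_inv := fun X => rfl
          right_inv := fun X => rfl }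
    · intro X hX Y hY hxy
      exact suToGU_injective ((exists_tc hF h hX.2).2.unique (hxy ▸ (exists_tc hF h hY.2).2))

theorem card_QS (hF : Fintype.card F = q ^ 2) (h : Hyp q e f) :
    Nat.card (QS (q := q) e) = q ^ (2 * (n - 2)) * q := by
  rw [card_subgroup_QS hF h _ le_rfl]
  congr 1
  · have hset : zp e f '' ((QS (q := q) e : Subgroup (SU n F q)) : Set (SU n F q)) =
        (rest q e f : Set (Fin n → F)) := by
      refine Set.Subset.antisymm (by rintro _ ⟨X, -, rfl⟩; exact zp_mem hF h X) fun z hz => ?_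
      obtain ⟨d, hd⟩ := exists_eich_param hF z
      have hze := ((mem_rest hF).1 hz).1
      obtain ⟨X, hX⟩ := exists_SU_eich hF h.1 hze hd
      exact ⟨X, mem_QS_of_eich hF h.1 hze hX, zp_of_eich hF h hz hX⟩
    rw [hset, ← Nat.card_coe_set_eq]
    show Nat.card (rest q e f) = _
    rw [Module.natCard_eq_pow_finrank (K := F), Nat.card_eq_fintype_card, hF, ← pow_mul]
    congr 2
    have := finrank_rest hF h
    omega
  · have hset : tc f '' ((QS e ⊓ RS e : Subgroup (SU n F q)) : Set (SU n F q)) =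
        {c : F | c + c ^ q = 0} := by
      refine Set.Subset.antisymm (by rintro _ ⟨X, hX, rfl⟩; exact (exists_tc hF h hX.2).1)
        fun c hc => ?_
      obtain ⟨X, hX⟩ := exists_SU_tv hF h.1 hc
      have hXR : X ∈ RS e := (mem_RS_iff hF h).2 ⟨c, hc, hX⟩
      exact ⟨X, ⟨RS_le_QS h.1 hXR, hXR⟩, tc_of_tv hF h hX⟩
    rw [hset, ← Nat.card_coe_set_eq]
    exact card_trace_zero hF

theorem relIndex_QS_mul (hF : Fintype.card F = q ^ 2) (h : Hyp q e f) (K : Subgroup (SU n F q)) :
    K.relIndex (QS e) * (Nat.card (restPart hF h K) * Nat.card (tvPart hF h K)) =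
      q ^ (2 * (n - 2)) * q := by
  rw [← card_QS hF h, ← Subgroup.inf_relIndex_right, ← Subgroup.relIndex_bot_left (QS (q := q) e),
    ← Subgroup.relIndex_mul_relIndex ⊥ (K ⊓ QS e) (QS e) bot_le inf_le_right,
    Subgroup.relIndex_bot_left, mul_comm (Nat.card (K ⊓ QS e : Subgroup (SU n F q)))]
  congr 1
  rw [card_subgroup_QS hF h _ inf_le_right]
  congr 1
  have hle : (RS e : Subgroup (SU n F q)) ≤ QS e := RS_le_QS h.1
  rw [inf_assoc, inf_eq_right.2 hle]
  rfl

/-- The stabiliser part `(K ∩ P) Q` of the parabolic. -/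
def stabPart (e : Fin n → F) (K : Subgroup (SU n F q)) : Subgroup (SU n F q) :=
  (K ⊓ NS e) ⊔ QS e

theorem QS_le_NS (e : Fin n → F) : QS (q := q) e ≤ NS e := (QS_le_PS e).trans (PS_le_NS e)

theorem stabPart_le (e : Fin n → F) (K : Subgroup (SU n F q)) : stabPart e K ≤ NS e :=
  sup_le inf_le_right (QS_le_NS e)

theorem relIndex_mul_le_index (e : Fin n → F) (K : Subgroup (SU n F q)) :
    K.relIndex (QS e) * (stabPart e K).relIndex (NS e) ≤ K.index := by
  haveI : ∀ H L : Subgroup (SU n F q), H.IsFiniteRelIndex L :=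
    fun H L => Subgroup.isFiniteRelIndex_of_finiteIndex
  calc K.relIndex (QS e) * (stabPart e K).relIndex (NS e)
      ≤ (K ⊓ NS e).relIndex (stabPart e K) * (stabPart e K).relIndex (NS e) := by
        refine Nat.mul_le_mul_right _ ?_
        refine le_trans (le_of_eq ?_)
          (Subgroup.relIndex_le_of_le_right le_sup_right Subgroup.relIndex_ne_zero)
        rw [← Subgroup.inf_relIndex_right K, ← Subgroup.inf_relIndex_right (K ⊓ NS e),
          inf_assoc, inf_eq_right.2 (QS_le_NS e)]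
    _ = (K ⊓ NS e).relIndex (NS e) :=
        Subgroup.relIndex_mul_relIndex _ _ _ le_sup_left (stabPart_le e K)
    _ ≤ K.index := by
        rw [Subgroup.inf_relIndex_right, ← Subgroup.relIndex_top_right K]
        exact Subgroup.relIndex_le_of_le_right le_top Subgroup.relIndex_ne_zero

/-- The data moved by the parabolic. -/
def data (e f : Fin n → F) (K : Subgroup (SU n F q)) (g : SU n F q) :
    Set F × Set (Fin n → F) :=
  ((fun T => tc f (g * T * g⁻¹)) '' ((K ⊓ RS e : Subgroup (SU n F q)) : Set (SU n F q)),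
    (fun T => zp e f (g * T * g⁻¹)) '' ((K ⊓ QS e : Subgroup (SU n F q)) : Set (SU n F q)))

theorem data_mul (hF : Fintype.card F = q ^ 2) (h : Hyp q e f) (K : Subgroup (SU n F q))
    {g s : SU n F q} (hg : g ∈ NS e) (hs : s ∈ stabPart e K) :
    data e f K (g * s) = data e f K g := by
  let R : Subgroup (SU n F q) :=
    { carrier := {s | s ∈ NS e ∧ ∀ g ∈ NS (q := q) e, data e f K (g * s) = data e f K g}
      one_mem' := ⟨one_mem _, fun g _ => by rw [mul_one]⟩
      mul_mem' := fun {a b} ha hb => ⟨mul_mem ha.1 hb.1, fun g hg => by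
        rw [← mul_assoc, hb.2 _ (mul_mem hg ha.1), ha.2 g hg]⟩
      inv_mem' := fun {a} ha => ⟨inv_mem ha.1, fun g hg => by
        have := ha.2 (g * a⁻¹) (mul_mem hg (inv_mem ha.1))
        rw [inv_mul_cancel_right] at this
        exact this.symm⟩ }
  suffices hle : stabPart e K ≤ R from (hle hs).2 g hg
  refine sup_le (fun k hk => ⟨hk.2, fun g _ => ?_⟩) fun k hk => ⟨QS_le_NS e hk, fun g hg => ?_⟩
  · have himg : ∀ (H : Subgroup (SU n F q)),
        (∀ X ∈ NS (q := q) e, ∀ T ∈ H, X * T * X⁻¹ ∈ H) →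
        (fun T => k * T * k⁻¹) '' ((K ⊓ H : Subgroup (SU n F q)) : Set (SU n F q)) =
          ((K ⊓ H : Subgroup (SU n F q)) : Set (SU n F q)) := by
      intro H hH
      ext T
      constructor
      · rintro ⟨S, hS, rfl⟩
        exact ⟨K.mul_mem (K.mul_mem hk.1 hS.1) (K.inv_mem hk.1), hH k hk.2 S hS.2⟩
      · intro hT
        refine ⟨k⁻¹ * T * k⁻¹⁻¹,
          ⟨K.mul_mem (K.mul_mem (K.inv_mem hk.1) hT.1) (K.inv_mem (K.inv_mem hk.1)),
          hH _ ((NS e).inv_mem hk.2) T hT.2⟩, by group⟩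
    refine Prod.ext ?_ ?_
    · show _ = _
      simp only [data]
      conv_rhs => rw [← himg (RS e) fun X hX T hT => NS_conj_RS hX hT]
      rw [Set.image_image]
      simp [mul_assoc]
    · show _ = _
      simp only [data]
      conv_rhs => rw [← himg (QS e) fun X hX T hT => NS_conj_QS hX hT]
      rw [Set.image_image]
      simp [mul_assoc]
  · obtain ⟨ζ, -, hζ⟩ := hg
    have hgk : (g * k).1.1 *ᵥ e = ζ • e := by rw [SU_mul_mulVec, hk.1, hζ]
    refine Prod.ext (Set.image_congr fun T hT => ?_) (Set.image_congr fun T hT => ?_)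
    · rw [tc_conj hF h hgk hT.2, tc_conj hF h hζ hT.2]
    · rw [zp_conj hF h hgk hT.2, zp_conj hF h hζ hT.2, SU_mul_mulVec]
      obtain ⟨a, ha⟩ := hk.2 _ ((mem_rest hF).1 (zp_mem hF h T)).1
      rw [ha, Matrix.mulVec_add, Matrix.mulVec_smul, hζ, proj_add, proj_smul, proj_smul,
        show proj q e f e = 0 by simpa using proj_plane hF h (1 : F) 0, smul_zero, smul_zero,
        add_zero]

/-- The orbit of a subset of the rest under `LS e f`. -/
def restOrbit (q : ℕ) (e f : Fin n → F) (A : Set (Fin n → F)) : Set (Set (Fin n → F)) :=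
  Set.range fun l : LS (q := q) e f => (fun w => l.1.1.1 *ᵥ w) '' A

theorem scalings_mul_orbit_le (hF : Fintype.card F = q ^ 2) (h : Hyp q e f) (hn : 3 ≤ n)
    (K : Subgroup (SU n F q)) :
    (Set.range fun μ : Fx F q => (fun x => μ.1 * x) '' (tvPart hF h K : Set F)).ncard *
        (restOrbit q e f (restPart hF h K : Set (Fin n → F))).ncard ≤
      (stabPart e K).relIndex (NS e) := by
  classical
  set P := NS (q := q) e
  set Y := Set.range fun μ : Fx F q => (fun x => μ.1 * x) '' (tvPart hF h K : Set F)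
  set O := restOrbit q e f (restPart hF h K : Set (Fin n → F))
  have hrep : ∀ y : Y, ∃ g : SU n F q, ∃ ζ : F, ζ ≠ 0 ∧ g.1.1 *ᵥ e = ζ • e ∧
      (∀ w ∈ rest q e f, g.1.1 *ᵥ w ∈ rest q e f) ∧
      y.1 = (fun x => ζ ^ (q + 1) * x) '' (tvPart hF h K : Set F) := by
    rintro ⟨_, μ, rfl⟩
    obtain ⟨ζ, hζ⟩ := norm_surj hF μ.2.1
    have hζ0 : ζ ≠ 0 := fun h0 => μ.2.2 (by rw [← hζ, h0, zero_mul])
    obtain ⟨g, hg, -, hgw⟩ := exists_torus hF h hn hζ0
    exact ⟨g, ζ, hζ0, hg, hgw, by rw [pow_succ', hζ]⟩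
  choose g ζ hζ0 hg hgw hy using hrep
  have hrep' : ∀ o : O, ∃ l ∈ LS (q := q) e f,
      o.1 = (fun w => l.1.1 *ᵥ w) '' (restPart hF h K : Set (Fin n → F)) := by
    rintro ⟨_, l, rfl⟩
    exact ⟨l.1, l.2, rfl⟩
  choose l hl ho using hrep'
  have hmem : ∀ (y : Y) (o : O), g y * l o ∈ P := fun y o =>
    mul_mem ⟨ζ y, hζ0 y, hg y⟩ (PS_le_NS e (hl o).1)
  have hdata : ∀ (y : Y) (o : O), data e f K (g y * l o) =
      (y.1, (fun w => ζ y ^ q • ((g y).1.1 *ᵥ w)) '' o.1) := by
    intro y o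
    have hgl : (g y * l o).1.1 *ᵥ e = ζ y • e := by rw [SU_mul_mulVec, (hl o).1, hg y]
    refine Prod.ext ?_ ?_
    · rw [hy y]
      show _ = (fun x => ζ y ^ (q + 1) * x) '' (tc f '' _)
      rw [Set.image_image]
      exact Set.image_congr fun T hT => tc_conj hF h hgl hT.2
    · rw [ho o]
      show _ = (fun w => ζ y ^ q • ((g y).1.1 *ᵥ w)) '' ((fun w => (l o).1.1 *ᵥ w) '' (zp e f '' _))
      rw [Set.image_image, Set.image_image]
      refine Set.image_congr fun T hT => ?_
      rw [zp_conj hF h hgl hT.2, SU_mul_mulVec,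
        proj_of_mem hF (hgw y _ (LS_rest hF (hl o) (zp_mem hF h T)))]
  rw [← Nat.card_coe_set_eq, ← Nat.card_coe_set_eq, ← Nat.card_prod, Subgroup.relIndex,
    Subgroup.index]
  refine Nat.card_le_card_of_injective
    (fun p : Y × O => (QuotientGroup.mk (⟨g p.1 * l p.2, hmem p.1 p.2⟩ : P) :
      P ⧸ (stabPart e K).subgroupOf P)) ?_
  rintro ⟨y, o⟩ ⟨y', o'⟩ heq
  have hin : (g y * l o)⁻¹ * (g y' * l o') ∈ stabPart e K :=
    (QuotientGroup.eq (s := (stabPart e K).subgroupOf P) (a := ⟨g y * l o, hmem y o⟩)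
      (b := ⟨g y' * l o', hmem y' o'⟩)).1 heq
  have h2 := data_mul hF h K (hmem y o) hin
  rw [mul_inv_cancel_left, hdata, hdata, Prod.mk.injEq] at h2
  obtain rfl : y = y' := Subtype.ext h2.1.symm
  refine Prod.ext rfl (Subtype.ext ?_)
  refine (Function.Injective.image_injective ?_ h2.2).symm
  intro a b hab
  exact GU_mulVec_injective (suToGU n F q (g y))
    (by simpa using smul_right_injective _ (pow_ne_zero q (hζ0 y)) hab)

/-- The central inequality. -/
theorem main_ineq (hF : Fintype.card F = q ^ 2) (h : Hyp q e f) (hn : 3 ≤ n)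
    {K : Subgroup (SU n F q)} (hK : ¬ RS e ≤ K) :
    q ^ (2 * (n - 2)) * q * (restOrbit q e f (restPart hF h K : Set (Fin n → F))).ncard ≤
      K.index * Nat.card (restPart hF h K) := by
  obtain ⟨c, hc, hcB⟩ := exists_not_mem_tvPart hF h hK
  have hy := card_le_card_scalings hF (tvPart hF h K) (fun b hb => tvPart_trace hF h K hb) hc hcB
  have hB : 0 < Nat.card (tvPart hF h K) := Nat.card_pos
  set B := Nat.card (tvPart hF h K)
  set A := Nat.card (restPart hF h K)
  set X := (restOrbit q e f (restPart hF h K : Set (Fin n → F))).ncard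
  refine Nat.le_of_mul_le_mul_right ?_ hB
  calc q ^ (2 * (n - 2)) * q * X * B
      = K.relIndex (QS e) * (A * B) * (B * X) := by rw [relIndex_QS_mul hF h K]; ring
    _ ≤ K.relIndex (QS e) * (A * B) * (stabPart e K).relIndex (NS e) := by
        refine Nat.mul_le_mul_left _ (le_trans (Nat.mul_le_mul_right X hy) ?_)
        exact scalings_mul_orbit_le hF h hn K
    _ ≤ K.index * A * B := by
        have := Nat.mul_le_mul_right (A * B) (relIndex_mul_le_index e K)
        calc _ = K.relIndex (QS e) * (stabPart e K).relIndex (NS e) * (A * B) := by ring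
          _ ≤ _ := this
          _ = _ := by ring

end Cfsg.Agent.Lib.MinIndexPSU
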