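import Mathlib
import Cfsg.Agent.Lib.MinIndexPSU.Parabolic
import Cfsg.Agent.Lib.Unitary.Isotropic

/-!
Lib/MinIndexPSU/Count: the rest part is isotropic for a nonzero pairing, hence small; its orbit under
`LS e f` is large. So the index is large when the rest part is nontrivial.
-/

set_option autoImplicit false
set_option linter.unusedSectionVars false

namespace Cfsg.Agent.Lib.MinIndexPSU

open Matrix Module Cfsg.Agent.Lib.Unitary Cfsg.Agent.Lib.AutPSU

variable {F : Type*} [Field F] [Fintype F] {q : ℕ} {n : ℕ} {e f : Fin n → F}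

theorem natCard_sub (hF : Fintype.card F = q ^ 2) (W : Submodule F (Fin n → F)) :
    Nat.card W = q ^ (2 * finrank F W) := by
  rw [Module.natCard_eq_pow_finrank (K := F), Nat.card_eq_fintype_card, hF, ← pow_mul]

/-- A subgroup of a nondegenerate `W` whose pairings avoid a trace-zero scalar has order at most
`q ^ finrank W`. -/
theorem card_le_of_pairing_nondeg (hF : Fintype.card F = q ^ 2) (W : Submodule F (Fin n → F))
    (hW : Nondeg q W) (A : AddSubgroup (Fin n → F)) (hA : ∀ a ∈ A, a ∈ W) (B : AddSubgroup F)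
    (hAB : ∀ a ∈ A, ∀ b ∈ A, hermForm n F q a b - hermForm n F q b a ∈ B) {c : F}
    (hc : c + c ^ q = 0) (hcB : c ∉ B) :
    Nat.card A ≤ q ^ finrank F W := by
  classical
  let A' : AddSubgroup W := A.addSubgroupOf W.toAddSubgroup
  have hcard : Nat.card A' = Nat.card A :=
    Nat.card_congr
      { toFun := fun a => ⟨a.1.1, a.2⟩
        invFun := fun a => ⟨⟨a.1, hA _ a.2⟩, a.2⟩
        left_inv := fun _ => rfl
        right_inv := fun _ => rfl }
  obtain ⟨ψ, hψ⟩ := (AddChar.exists_apply_ne_zero (a := (QuotientAddGroup.mk c : F ⧸ B))).2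
    (fun h0 => hcB ((QuotientAddGroup.eq_zero_iff c).1 h0))
  let Φ : (Fin n → F) → W →+ F ⧸ B := fun a => AddMonoidHom.mk'
    (fun z => QuotientAddGroup.mk (hermForm n F q a z.1 - hermForm n F q z.1 a)) fun y z => by
      rw [← QuotientAddGroup.mk_add]
      congr 1
      simp only [Submodule.coe_add, herm_add_left, herm_add_right _ _ _ hF]
      ring
  have hΦA : ∀ a ∈ A, A' ≤ (Φ a).ker := fun a ha b hb =>
    (QuotientAddGroup.eq_zero_iff _).2 (hAB a ha b.1 hb)
  let χ : A → AddChar (W ⧸ A') ℂ := fun a =>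
    ψ.compAddMonoidHom (QuotientAddGroup.lift A' (Φ a.1) (hΦA a.1 a.2))
  have hinj : Function.Injective χ := by
    rintro ⟨a, ha⟩ ⟨b, hb⟩ hab
    refine Subtype.ext ?_
    by_contra hne
    obtain ⟨z0, hz0, hz⟩ : ∃ z ∈ W, hermForm n F q (a - b) z ≠ 0 := by
      by_contra hcon
      push Not at hcon
      exact hne (sub_eq_zero.1 (hW (a - b) (W.sub_mem (hA a ha) (hA b hb)) hcon))
    obtain ⟨x0, hx0⟩ := trace_surj hF (y := 1) (one_pow q)
    set x := c * x0 with hx
    let z : W := ⟨(x / hermForm n F q (a - b) z0) ^ q • z0, W.smul_mem _ hz0⟩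
    have hxz : hermForm n F q (a - b) z.1 = x := by
      show hermForm n F q (a - b) (_ • z0) = x
      rw [herm_smul_right, pow_q_q hF, div_mul_cancel₀ x hz]
    have hΦ : Φ a z = QuotientAddGroup.mk c + Φ b z := by
      show QuotientAddGroup.mk _ = QuotientAddGroup.mk c + QuotientAddGroup.mk _
      rw [← QuotientAddGroup.mk_add]
      congr 1
      have hzx : hermForm n F q z.1 (a - b) = x ^ q := by rw [← hxz, herm_conj _ _ hF]
      rw [herm_sub_left] at hxz
      rw [herm_sub_right _ _ _ hF] at hzx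
      rw [hx, mul_pow] at hzx
      linear_combination hxz - hzx + x0 ^ q * (-hc) + c * hx0
    have h1 := DFunLike.congr_fun hab (QuotientAddGroup.mk z)
    have h2 : ψ (Φ a z) = ψ (Φ b z) := h1
    rw [hΦ, AddChar.map_add_eq_mul, mul_eq_right₀] at h2
    · exact hψ h2
    · intro h0
      have := ψ.map_add_eq_mul (Φ b z) (-(Φ b z))
      rw [add_neg_cancel, AddChar.map_zero_eq_one, h0, zero_mul] at this
      exact one_ne_zero this
  have hle := Nat.card_le_card_of_injective χ hinj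
  haveI : Fintype (W ⧸ A') := Fintype.ofFinite _
  rw [Nat.card_eq_fintype_card (α := AddChar (W ⧸ A') ℂ), AddChar.card_eq,
    ← Nat.card_eq_fintype_card] at hle
  have hmul := AddSubgroup.card_eq_card_quotient_mul_card_addSubgroup A'
  rw [hcard, natCard_sub hF] at hmul
  rw [two_mul, pow_add] at hmul
  by_contra hlt
  push Not at hlt
  have := Nat.mul_lt_mul'' (lt_of_lt_of_le hlt hle) hlt
  omega

/-- A subgroup of the rest whose pairings avoid a trace-zero scalar has order at most `q ^ (n - 2)`. -/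
theorem card_le_of_pairing (hF : Fintype.card F = q ^ 2) (h : Hyp q e f)
    (A : AddSubgroup (Fin n → F)) (hA : ∀ a ∈ A, a ∈ rest q e f) (B : AddSubgroup F)
    (hAB : ∀ a ∈ A, ∀ b ∈ A, hermForm n F q a b - hermForm n F q b a ∈ B) {c : F}
    (hc : c + c ^ q = 0) (hcB : c ∉ B) :
    Nat.card A ≤ q ^ (n - 2) := by
  have hr := finrank_rest hF h
  rw [show n - 2 = finrank F (rest q e f) by omega]
  exact card_le_of_pairing_nondeg hF _ (nondeg_rest hF h) A hA B hAB hc hcB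

/-! ### Covering -/

/-- Tuples reached from `A` by `LS e f` are covered by the orbit of `A`. -/
theorem card_targets_le {k : ℕ} (A : Set (Fin n → F)) (T : Set (Fin k → Fin n → F))
    (hcov : ∀ v ∈ T, ∃ l ∈ LS (q := q) e f, ∀ i, ∃ a ∈ A, l.1.1 *ᵥ a = v i) :
    T.ncard ≤ (restOrbit q e f A).ncard * Nat.card A ^ k := by
  classical
  choose l hl a ha hla using fun v : T => hcov v.1 v.2
  let ι : T → restOrbit q e f A × (Fin k → A) := fun v =>
    (⟨(fun w => (l v).1.1 *ᵥ w) '' A, ⟨⟨l v, hl v⟩, rfl⟩⟩, fun i =>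
      ⟨a v i, ha v i⟩)
  let rep : restOrbit q e f A → LS (q := q) e f := fun S => S.2.choose
  have hrep : ∀ S : restOrbit q e f A, (fun w => (rep S).1.1.1 *ᵥ w) '' A = S.1 := fun S =>
    S.2.choose_spec
  have hmem : ∀ (v : T) (i : Fin k), ∃ b ∈ A, (rep (ι v).1).1.1.1 *ᵥ b = v.1 i := fun v i => by
    have : v.1 i ∈ (ι v).1.1 := ⟨a v i, ha v i, hla v i⟩
    rw [← hrep] at this
    exact this
  choose b hb hvb using hmem
  rw [← Nat.card_coe_set_eq, ← Nat.card_coe_set_eq,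
    show Nat.card A ^ k = Nat.card (Fin k → A) by rw [Nat.card_fun]; simp, ← Nat.card_prod]
  refine Nat.card_le_card_of_injective (fun v => ((ι v).1, fun i => (⟨b v i, hb v i⟩ : A))) ?_
  intro v w hvw
  obtain ⟨h1, h2⟩ := Prod.mk.inj hvw
  refine Subtype.ext (funext fun i => ?_)
  have hb' : b v i = b w i := congrArg Subtype.val (congrFun h2 i)
  rw [← hvb v i, ← hvb w i, h1, hb']

/-- Pairs of the rest with given Gram data. -/
def pairs (q : ℕ) (e f : Fin n → F) (a b c : F) : Set (Fin 2 → Fin n → F) :=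
  {v | (∀ i, v i ∈ rest q e f) ∧ LinearIndependent F v ∧ hermForm n F q (v 0) (v 0) = a ∧
    hermForm n F q (v 1) (v 0) = b ∧ hermForm n F q (v 1) (v 1) = c}

theorem li_of_not_mul {x y : Fin n → F} (hx : x ≠ 0) (hy : ∀ a : F, y ≠ a • x) :
    LinearIndependent F ![x, y] :=
  (LinearIndependent.pair_iff' hx).2 fun a h => hy a h.symm

theorem le_card_pairs (hF : Fintype.card F = q ^ 2) (h : Hyp q e f) (hn : 6 ≤ n) {a b c : F}
    (ha : a ^ q = a) (hc : c ^ q = c) :
    vmin q (n - 2) * (q ^ 2 * vmin q (n - 4)) ≤ (pairs q e f a b c).ncard := by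
  classical
  have hr := finrank_rest hF h
  have hd : finrank F (rest q e f) = n - 2 := by omega
  have hX := vmin_le_card hF (nondeg_rest hF h) (c := a) (by omega) ha
  rw [hd] at hX
  have hY : ∀ x : {v : Fin n → F // v ∈ rest q e f ∧ v ≠ 0 ∧ hermForm n F q v v = a},
      q ^ 2 * vmin q (n - 4) ≤ Nat.card {y : Fin n → F // y ∈ rest q e f ∧
        hermForm n F q y x.1 = b ∧ hermForm n F q y y = c ∧ ∀ t : F, y ≠ t • x.1} := fun x => by
    have := second_le_card hF (nondeg_rest hF h) (by omega) x.2.1 x.2.2.1 b hc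
    rwa [hd, show n - 2 - 2 = n - 4 by omega] at this
  refine le_trans (Nat.mul_le_mul_right _ hX) (le_trans (le_of_eq ?_)
    (le_trans (Finset.sum_le_sum fun x (_ : x ∈ Finset.univ) => hY x) ?_))
  · rw [Finset.sum_const, Finset.card_univ, smul_eq_mul, Nat.card_eq_fintype_card]
  · rw [← Nat.card_sigma, ← Nat.card_coe_set_eq]
    refine Nat.card_le_card_of_injective (fun p =>
      ⟨![p.1.1, p.2.1], fun i => ?_, li_of_not_mul p.1.2.2.1 p.2.2.2.2.2, p.1.2.2.2, p.2.2.2.1,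
        p.2.2.2.2.1⟩) ?_
    · fin_cases i
      · exact p.1.2.1
      · exact p.2.2.1
    · rintro ⟨x, y⟩ ⟨x', y'⟩ hxy
      have h1 := congrArg Subtype.val hxy
      have hx : x = x' := Subtype.ext (congrFun h1 0)
      subst hx
      exact Sigma.subtype_ext rfl (congrFun h1 1)

theorem pairs_cover (hF : Fintype.card F = q ^ 2) (h : Hyp q e f) (hn : 6 ≤ n)
    {A : Set (Fin n → F)} (hA : ∀ a ∈ A, a ∈ rest q e f) {x y : Fin n → F} (hx : x ∈ A) (hy : y ∈ A)
    (hli : LinearIndependent F ![x, y]) {a b c : F} (ha : hermForm n F q x x = a)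
    (hb : hermForm n F q y x = b) (hc : hermForm n F q y y = c)
    (hdim : 6 < n ∨ a ≠ 0 ∨ b ≠ 0 ∨ c ≠ 0) :
    ∀ v ∈ pairs q e f a b c, ∃ l ∈ LS (q := q) e f, ∀ i, ∃ z ∈ A, l.1.1 *ᵥ z = v i := by
  rintro v ⟨hvW, hvl, hva, hvb, hvc⟩
  obtain ⟨l, hl, hlv⟩ := exists_LS_tuple hF h hli hvl
    (fun i => by fin_cases i; exacts [hA x hx, hA y hy]) hvW (fun i j => by
      fin_cases i <;> fin_cases j
      · simpa [hva] using ha
      · show hermForm n F q x y = hermForm n F q (v 0) (v 1)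
        rw [← herm_conj y x hF, ← herm_conj (v 1) (v 0) hF, hb, hvb]
      · simpa [hvb] using hb
      · simpa [hvc] using hc) (by
      rcases hdim with h6 | h0
      · exact Or.inl (by omega)
      · by_cases h6 : 6 < n
        · exact Or.inl (by omega)
        refine Or.inr ⟨by omega, ?_⟩
        rcases h0 with h0 | h0 | h0
        · exact ⟨0, 0, hva ▸ h0⟩
        · exact ⟨1, 0, hvb ▸ h0⟩
        · exact ⟨1, 1, hvc ▸ h0⟩)
  refine ⟨l, hl, fun i => ?_⟩
  fin_cases i
  · exact ⟨x, hx, by simpa using hlv 0⟩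
  · exact ⟨y, hy, by simpa using hlv 1⟩

/-! ### Totally isotropic planes of the rest, dimension four -/

/-- The totally isotropic planes inside the rest. -/
def restPlanes (q : ℕ) (e f : Fin n → F) : Set (Submodule F (Fin n → F)) :=
  {W | W ≤ rest q e f ∧ finrank F W = 2 ∧ ∀ u ∈ W, ∀ v ∈ W, hermForm n F q u v = 0}

theorem card_restPlanes (hF : Fintype.card F = q ^ 2) (h : Hyp q e f) (hn : n = 6) :
    (q ^ 3 + 1) * (q + 1) ≤ (restPlanes q e f).ncard := by
  classical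
  have hr := finrank_rest hF h
  obtain ⟨g, hg, hgW, -⟩ := exists_orthonormal_of_nondeg hF 4 (rest q e f) (by omega) (nondeg_rest hF h)
  let L : (Fin 4 → F) →ₗ[F] (Fin n → F) := Fintype.linearCombination F g
  have hL : ∀ x, L x = ∑ i, x i • g i := fun x => Fintype.linearCombination_apply F g x
  have hLinj : Function.Injective L := fun x y hxy => funext fun j => by
    have := congrArg (fun v => hermForm n F q v (g j)) hxy
    simpa [hL, orthonormal_coeff hg] using this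
  have hLh : ∀ x y, hermForm n F q (L x) (L y) = hermForm 4 F q x y := fun x y => by
    rw [hL, hL, herm_sum_sum hF]
    simp only [hg _ _, mul_ite, mul_one, mul_zero, Finset.sum_ite_eq, Finset.mem_univ, if_true]
    rfl
  have h4 := card_tiPlanes_mul (n := 4) hF
  have e1 : countNull F q 4 - 1 = (q ^ 4 - 1) * (q ^ 3 + 1) := by
    rw [countNull_succ_eq hF 3, if_neg (by decide)]; simp
  have e2 : countNull F q (4 - 2) - 1 = (q ^ 2 - 1) * (q + 1) := by
    rw [show 4 - 2 = 1 + 1 from rfl, countNull_succ_eq hF 1, if_neg (by decide)]; simp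
  rw [e1, e2] at h4
  set T := Nat.card {W : Submodule F (Fin 4 → F) // finrank F W = 2 ∧
      ∀ u ∈ W, ∀ v ∈ W, hermForm 4 F q u v = 0} with hT
  have h1q := one_lt_q hF
  have hfac : (q ^ 2) ^ 2 - q ^ 2 = q ^ 2 * (q ^ 2 - 1) := by rw [Nat.mul_sub, mul_one]; congr 1; ring
  have hTval : T = (q ^ 3 + 1) * (q + 1) := by
    rw [show (q ^ 2) ^ 2 = q ^ 4 by ring] at h4
    rw [show (q ^ 2) ^ 2 = q ^ 4 by ring] at hfac
    rw [hfac] at h4
    have hpos : 0 < (q ^ 4 - 1) * (q ^ 2 * (q ^ 2 - 1)) := by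
      have h2 : 1 < q ^ 2 := Nat.one_lt_pow (by omega) h1q
      have h4' : 1 < q ^ 4 := Nat.one_lt_pow (by omega) h1q
      exact Nat.mul_pos (by omega) (Nat.mul_pos (by omega) (by omega))
    refine Nat.eq_of_mul_eq_mul_right hpos (h4.trans ?_)
    ring
  rw [← hTval, hT, ← Nat.card_coe_set_eq]
  refine Nat.card_le_card_of_injective (fun W => ⟨W.1.map L, ?_, ?_, ?_⟩) ?_
  · rintro v ⟨x, -, rfl⟩
    rw [hL]
    exact Submodule.sum_mem _ fun i _ => Submodule.smul_mem _ _ (hgW i)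
  · rw [← (Submodule.equivMapOfInjective L hLinj W.1).finrank_eq, W.2.1]
  · rintro _ ⟨x, hx, rfl⟩ _ ⟨y, hy, rfl⟩
    rw [hLh]
    exact W.2.2 x hx y hy
  · intro W W' hWW
    exact Subtype.ext (Submodule.map_injective_of_injective hLinj (congrArg Subtype.val hWW))

/-- A totally isotropic span inside a four-dimensional rest is a plane moved onto all such planes. -/
theorem le_card_orbit_of_ti (hF : Fintype.card F = q ^ 2) (h : Hyp q e f) (hn : n = 6)
    (A : AddSubgroup (Fin n → F)) (hA : ∀ a ∈ A, a ∈ rest q e f)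
    (hti : ∀ u ∈ A, ∀ v ∈ A, hermForm n F q u v = 0) {x y : Fin n → F} (hx : x ∈ A) (hy : y ∈ A)
    (hli : LinearIndependent F ![x, y]) :
    (q ^ 3 + 1) * (q + 1) ≤ (restOrbit q e f (A : Set (Fin n → F))).ncard ∧
      Nat.card A ≤ q ^ 4 := by
  classical
  set U := Submodule.span F (A : Set (Fin n → F))
  have hUW : U ≤ rest q e f := Submodule.span_le.2 hA
  have hUti : ∀ u ∈ U, ∀ v ∈ U, hermForm n F q u v = 0 := by
    have h1 : ∀ u ∈ U, ∀ v ∈ A, hermForm n F q u v = 0 := fun u hu v hv => by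
      have : U ≤ perp q (Submodule.span F {v}) :=
        Submodule.span_le.2 fun a ha => (mem_perp_span hF).2 (by simpa using hti a ha v hv)
      exact this hu v (Submodule.mem_span_singleton_self v)
    exact fun u hu v hv => (mem_perp_span hF).2 (fun a ha => h1 u hu a ha) v hv
  have hU2 : finrank F U = 2 := by
    have hge : 2 ≤ finrank F U := by
      have : Submodule.span F (Set.range ![x, y]) ≤ U := Submodule.span_le.2 (by
        rintro _ ⟨i, rfl⟩
        fin_cases i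
        exacts [Submodule.subset_span hx, Submodule.subset_span hy])
      have := Submodule.finrank_mono this
      rwa [finrank_span_eq_card hli, Fintype.card_fin] at this
    set P := Submodule.span F ({e, f} : Set (Fin n → F))
    have hdisj : U ⊓ P = ⊥ := by
      rw [eq_bot_iff]
      rintro v ⟨hvU, hvP⟩
      exact (Submodule.mem_bot F).2 (nondeg_rest hF h v (hUW hvU) fun w hw =>
        herm_eq_zero_symm hF (hw v hvP))
    have hle : U ≤ perp q (U ⊔ P) := by
      intro u hu w hw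
      obtain ⟨a, ha, b, hb, rfl⟩ := Submodule.mem_sup.1 hw
      rw [herm_add_right _ _ _ hF, hUti u hu a ha, (hUW hu) b hb, add_zero]
    have h1 := Submodule.finrank_mono hle
    have h2 := finrank_perp hF (U ⊔ P)
    have h3 := Submodule.finrank_sup_add_finrank_inf_eq U P
    rw [hdisj, finrank_bot, (h.finrank_span hF).2] at h3
    omega
  refine ⟨?_, ?_⟩
  · refine le_trans (card_restPlanes hF h hn) ?_
    have hex : ∀ W : restPlanes q e f, ∃ l ∈ LS (q := q) e f,
        Submodule.span F ((fun w => l.1.1 *ᵥ w) '' (A : Set (Fin n → F))) = W.1 := by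
      intro W
      obtain ⟨hWW, hW2, hWti⟩ := W.2
      let b := Module.finBasisOfFinrankEq F W.1 hW2
      have hbl : LinearIndependent F (fun i => (b i : Fin n → F)) :=
        b.linearIndependent.map' W.1.subtype (Submodule.ker_subtype _)
      have hb' : (fun i => (b i : Fin n → F)) = ![(b 0 : Fin n → F), (b 1 : Fin n → F)] := by
        ext i; fin_cases i <;> rfl
      rw [hb'] at hbl
      obtain ⟨l, hl, t, ht, hlx, hly⟩ := exists_LS_tiPair hF h hli hbl (hA x hx) (hA y hy)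
        (hWW (b 0).2) (hWW (b 1).2)
        (fun i j => by fin_cases i <;> fin_cases j <;> exact hti _ (by assumption) _ (by assumption))
        (fun i j => by fin_cases i <;> fin_cases j <;> exact hWti _ (Subtype.coe_prop _) _ (Subtype.coe_prop _))
      refine ⟨l, hl, ?_⟩
      have hmap : Submodule.span F ((fun w => l.1.1 *ᵥ w) '' (A : Set (Fin n → F))) =
          U.map (Matrix.mulVecLin l.1.1) := by
        rw [Submodule.map_span]; rfl
      rw [hmap]
      refine (Submodule.eq_of_le_of_finrank_eq ?_ ?_).symm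
      · intro v hv
        have hexp := congrArg (Subtype.val) (b.sum_repr ⟨v, hv⟩)
        rw [Fin.sum_univ_two] at hexp
        rw [← show (b.repr ⟨v, hv⟩) 0 • (b 0 : Fin n → F) + (b.repr ⟨v, hv⟩) 1 • (b 1 : Fin n → F) = v
          from hexp]
        refine Submodule.add_mem _ (Submodule.smul_mem _ _ ⟨x, Submodule.subset_span hx, hlx⟩) ?_
        refine Submodule.smul_mem _ _ ?_
        rw [show (b 1 : Fin n → F) = t⁻¹ • (l.1.1 *ᵥ y) by rw [hly, inv_smul_smul₀ ht]]
        exact Submodule.smul_mem _ _ ⟨y, Submodule.subset_span hy, rfl⟩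
      · rw [hW2, ← (Submodule.equivMapOfInjective (Matrix.mulVecLin l.1.1)
          (GU_mulVec_injective (suToGU n F q l)) U).finrank_eq, hU2]
    choose l hl hspan using hex
    rw [← Nat.card_coe_set_eq, ← Nat.card_coe_set_eq]
    refine Nat.card_le_card_of_injective
      (fun W => (⟨(fun w => (l W).1.1 *ᵥ w) '' (A : Set (Fin n → F)), ⟨⟨l W, hl W⟩, rfl⟩⟩ :
        restOrbit q e f (A : Set (Fin n → F)))) ?_
    intro W W' hWW
    exact Subtype.ext (((hspan W).symm.trans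
      (congrArg (Submodule.span F) (congrArg Subtype.val hWW))).trans (hspan W'))
  · have h2 := natCard_sub hF U
    rw [hU2] at h2
    refine le_trans (Nat.card_le_card_of_injective (fun a : A =>
      (⟨a.1, Submodule.subset_span a.2⟩ : U)) fun a b hab => Subtype.ext ?_) h2.le
    exact congrArg (fun z : U => z.1) hab

/-! ### Arithmetic -/

theorem arith_line {q r : ℕ} (hq : 3 ≤ q) (hr : 4 ≤ r) : 2 * q ^ 4 ≤ vmin q r := by
  have h1 : q ^ 4 ≤ q ^ r := Nat.pow_le_pow_right (by omega) hr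
  have h2 : 3 ≤ q ^ (r - 1) := le_trans hq (Nat.le_self_pow (by omega) q)
  rw [vmin, mul_comm 2]
  exact Nat.mul_le_mul h1 (by omega)

theorem arith_six {q r : ℕ} (hq : 3 ≤ q) (hr : 6 ≤ r) :
    2 * (q ^ r) ^ 3 ≤ vmin q r * (q ^ 2 * vmin q (r - 2)) := by
  obtain ⟨s, rfl⟩ : ∃ s, r = s + 6 := ⟨r - 6, by omega⟩
  simp only [vmin, show s + 6 - 1 = s + 5 by omega, show s + 6 - 2 = s + 4 by omega,
    show s + 4 - 1 = s + 3 by omega]
  have hu : 1 ≤ q ^ s := Nat.one_le_pow _ _ (by omega)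
  have hA : 2 * q ^ (s + 6) ≤ (q ^ (s + 5) - 1) * (q ^ (s + 3) - 1) := by
    have a1 : q ^ 4 ≤ q ^ (s + 5) - 1 := by
      have : q ^ 4 * 3 ≤ q ^ (s + 5) := by
        calc q ^ 4 * 3 ≤ q ^ 4 * (q ^ s * q) :=
              Nat.mul_le_mul_left _ (le_trans hq (Nat.le_mul_of_pos_left q hu))
          _ = q ^ (s + 5) := by ring
      have := Nat.one_le_pow 4 q (by omega)
      omega
    have a2 : q ^ (s + 2) * 2 ≤ q ^ (s + 3) - 1 := by
      have : q ^ (s + 2) * 3 ≤ q ^ (s + 3) := by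
        rw [pow_succ q (s + 2)]; exact Nat.mul_le_mul_left _ hq
      have := Nat.one_le_pow (s + 2) q (by omega)
      omega
    calc 2 * q ^ (s + 6) = q ^ 4 * (q ^ (s + 2) * 2) := by ring
      _ ≤ _ := Nat.mul_le_mul a1 a2
  calc 2 * (q ^ (s + 6)) ^ 3 = q ^ (s + 6) * q ^ 2 * q ^ (s + 4) * (2 * q ^ (s + 6)) := by ring
    _ ≤ q ^ (s + 6) * q ^ 2 * q ^ (s + 4) * ((q ^ (s + 5) - 1) * (q ^ (s + 3) - 1)) :=
        Nat.mul_le_mul_left _ hA
    _ = _ := by ring

theorem arith_one {q : ℕ} (hq : 4 ≤ q) {a : ℕ} (ha : a ≤ 8 * q ^ 2) (ha' : a ≤ q ^ 4) :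
    2 * a ^ 3 ≤ vmin q 4 * (q ^ 2 * vmin q 2) := by
  simp only [vmin, show (4 : ℕ) - 1 = 3 from rfl, show (2 : ℕ) - 1 = 1 from rfl, pow_one]
  have h16 : 16 ≤ q ^ 2 := by nlinarith
  have h2a : 2 * a ≤ q ^ 4 := by nlinarith
  have h1 : 2 * (2 * a ^ 3) ≤ q ^ 12 := by
    calc 2 * (2 * a ^ 3) = (2 * a) * (2 * a) * a := by ring
      _ ≤ q ^ 4 * q ^ 4 * q ^ 4 := Nat.mul_le_mul (Nat.mul_le_mul h2a h2a) ha'
      _ = q ^ 12 := by ring
  have h2 : q ^ 4 ≤ 2 * ((q ^ 3 - 1) * (q - 1)) := by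
    obtain ⟨t, rfl⟩ : ∃ t, q = t + 4 := ⟨q - 4, by omega⟩
    rw [show t + 4 - 1 = t + 3 by omega, show (t + 4) ^ 3 - 1 = t ^ 3 + 12 * t ^ 2 + 48 * t + 63 from
      Nat.sub_eq_of_eq_add (by ring)]
    nlinarith
  have h3 : q ^ 12 ≤ 2 * (q ^ 8 * ((q ^ 3 - 1) * (q - 1))) := by
    calc q ^ 12 = q ^ 8 * q ^ 4 := by ring
      _ ≤ q ^ 8 * (2 * ((q ^ 3 - 1) * (q - 1))) := Nat.mul_le_mul_left _ h2
      _ = _ := by ring
  have h4 : q ^ 4 * (q ^ 3 - 1) * (q ^ 2 * (q ^ 2 * (q - 1))) =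
      q ^ 8 * ((q ^ 3 - 1) * (q - 1)) := by ring
  rw [h4]
  omega

theorem arith_two {q : ℕ} (hq : 3 ≤ q) :
    q ^ 11 + q ^ 6 ≤ 2 * (q ^ 5 * ((q ^ 3 - 1) * (q - 1))) * (q ^ 2 - 1) := by
  obtain ⟨t, rfl⟩ : ∃ t, q = t + 3 := ⟨q - 3, by omega⟩
  rw [show t + 3 - 1 = t + 2 by omega,
    show (t + 3) ^ 3 - 1 = t ^ 3 + 9 * t ^ 2 + 27 * t + 26 from Nat.sub_eq_of_eq_add (by ring),
    show (t + 3) ^ 2 - 1 = t ^ 2 + 6 * t + 8 from Nat.sub_eq_of_eq_add (by ring)]
  have : (t + 3) ^ 6 + (t + 3) ≤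
      2 * ((t ^ 3 + 9 * t ^ 2 + 27 * t + 26) * (t + 2)) * (t ^ 2 + 6 * t + 8) := by
    ring_nf
    nlinarith [sq_nonneg t, pow_nonneg (Nat.zero_le t) 3, pow_nonneg (Nat.zero_le t) 4,
      pow_nonneg (Nat.zero_le t) 5, pow_nonneg (Nat.zero_le t) 6]
  calc (t + 3) ^ 11 + (t + 3) ^ 6 = (t + 3) ^ 5 * ((t + 3) ^ 6 + (t + 3)) := by ring
    _ ≤ (t + 3) ^ 5 * (2 * ((t ^ 3 + 9 * t ^ 2 + 27 * t + 26) * (t + 2)) * (t ^ 2 + 6 * t + 8)) :=
        Nat.mul_le_mul_left _ this
    _ = _ := by ring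

theorem arith_planes {q : ℕ} (hq : 3 ≤ q) :
    q ^ 11 + q ^ 6 ≤ q ^ 5 * ((q ^ 3 + 1) * (q + 1)) * (q ^ 2 - 1) := by
  obtain ⟨t, rfl⟩ : ∃ t, q = t + 3 := ⟨q - 3, by omega⟩
  rw [show (t + 3) ^ 2 - 1 = t ^ 2 + 6 * t + 8 from Nat.sub_eq_of_eq_add (by ring)]
  have : (t + 3) ^ 6 + (t + 3) ≤ ((t + 3) ^ 3 + 1) * (t + 3 + 1) * (t ^ 2 + 6 * t + 8) := by
    ring_nf
    nlinarith [sq_nonneg t, pow_nonneg (Nat.zero_le t) 3, pow_nonneg (Nat.zero_le t) 4,
      pow_nonneg (Nat.zero_le t) 5, pow_nonneg (Nat.zero_le t) 6]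
  calc (t + 3) ^ 11 + (t + 3) ^ 6 = (t + 3) ^ 5 * ((t + 3) ^ 6 + (t + 3)) := by ring
    _ ≤ (t + 3) ^ 5 * (((t + 3) ^ 3 + 1) * (t + 3 + 1) * (t ^ 2 + 6 * t + 8)) :=
        Nat.mul_le_mul_left _ this
    _ = _ := by ring

/-- `2 q ^ (2 n - 3)` is enough for the index. -/
theorem arith_double {q n d : ℕ} (hq : 2 ≤ q) (hn : 4 ≤ n) (hd : 2 * (q ^ (2 * (n - 2)) * q) ≤ d) :
    q ^ (2 * n - 1) + q ^ n ≤ d * (q ^ 2 - 1) := by
  obtain ⟨r, rfl⟩ : ∃ r, n = r + 2 := ⟨n - 2, by omega⟩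
  rw [show 2 * (r + 2) - 1 = 2 * r + 3 by omega]
  rw [Nat.add_sub_cancel] at hd
  have h4 : 4 ≤ q ^ 2 := by nlinarith
  obtain ⟨c, hc⟩ : ∃ c, q ^ 2 = c + 1 := ⟨q ^ 2 - 1, by omega⟩
  have h1 : q ^ (r + 2) ≤ q ^ (2 * r + 1) := Nat.pow_le_pow_right (by omega) (by omega)
  have h3 : q ^ (2 * r + 3) = q ^ (2 * r + 1) * (c + 1) := by rw [← hc]; ring
  rw [hc, Nat.add_sub_cancel, h3]
  have h5 : 2 * q ^ (2 * r + 1) * c ≤ d * c := Nat.mul_le_mul_right c (by rw [pow_succ]; exact hd)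
  have h6 : q ^ (2 * r + 1) * 2 ≤ q ^ (2 * r + 1) * c := Nat.mul_le_mul_left _ (by omega)
  nlinarith

/-! ### Few Gram values -/

/-- The elements of `A` orthogonal to `x`. -/
def orthPart (q : ℕ) (A : AddSubgroup (Fin n → F)) (x : Fin n → F) : AddSubgroup (Fin n → F) where
  carrier := {u | u ∈ A ∧ hermForm n F q u x = 0}
  zero_mem' := ⟨A.zero_mem, herm_zero_left _⟩
  add_mem' := fun ha hb => ⟨A.add_mem ha.1 hb.1, by rw [herm_add_left, ha.2, hb.2, add_zero]⟩
  neg_mem' := fun ha => ⟨A.neg_mem ha.1, by rw [herm_neg_left, ha.2, neg_zero]⟩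

theorem card_le_two_orth (A : AddSubgroup (Fin n → F)) {x : Fin n → F} {b : F}
    (hval : ∀ u ∈ A, hermForm n F q u x = 0 ∨ hermForm n F q u x = b) :
    Nat.card A ≤ 2 * Nat.card (orthPart q A x) := by
  classical
  by_cases hall : ∀ u ∈ A, hermForm n F q u x = 0
  · refine le_trans (Nat.card_le_card_of_injective (fun u : A =>
      (⟨u.1, u.2, hall u.1 u.2⟩ : orthPart q A x)) fun u v huv => ?_) (Nat.le_mul_of_pos_left _ (by omega))
    exact Subtype.ext (congrArg (fun z : orthPart q A x => z.1) huv)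
  push Not at hall
  obtain ⟨u0, hu0, hu0x⟩ := hall
  have hb := (hval u0 hu0).resolve_left hu0x
  rw [← Nat.card_fin 2, ← Nat.card_prod]
  refine Nat.card_le_card_of_injective (fun u : A =>
    if hz : hermForm n F q u.1 x = 0 then ((0 : Fin 2), (⟨u.1, u.2, hz⟩ : orthPart q A x))
    else (1, ⟨u.1 - u0, A.sub_mem u.2 hu0,
      by rw [herm_sub_left, (hval _ u.2).resolve_left hz, hb, sub_self]⟩)) ?_
  intro u v huv
  simp only at huv
  split_ifs at huv with h1 h2 h2
  · exact Subtype.ext (congrArg (fun z : Fin 2 × orthPart q A x => z.2.1) huv)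
  · exact absurd (congrArg Prod.fst huv) (by simp)
  · exact absurd (congrArg Prod.fst huv) (by simp)
  · exact Subtype.ext (sub_left_injective (congrArg (fun z : Fin 2 × orthPart q A x => z.2.1) huv))

theorem card_le_of_one_type (hF : Fintype.card F = q ^ 2) (h : Hyp q e f) (hn : n = 6)
    (A : AddSubgroup (Fin n → F)) (hA : ∀ a ∈ A, a ∈ rest q e f) {b : F} (hb : b ≠ 0)
    (hval : ∀ u ∈ A, ∀ v ∈ A, hermForm n F q u v = 0 ∨ hermForm n F q u v = b)
    (hiso : ∀ u ∈ A, hermForm n F q u u = 0) {x y : Fin n → F} (hx : x ∈ A) (hy : y ∈ A)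
    (hxy : hermForm n F q x y = b) :
    Nat.card A ≤ 8 * q ^ 2 := by
  classical
  have hyp := hyp_of_nonorth hF (hiso x hx) (hiso y hy) (hxy ▸ hb)
  set P := Submodule.span F ({x, ((hermForm n F q x y) ^ q)⁻¹ • y} : Set (Fin n → F))
  have hP : Nondeg q P := hyp.nondeg hF
  have hPW : P ≤ rest q e f := by
    refine Submodule.span_le.2 ?_
    rintro v (rfl | rfl)
    exacts [hA v hx, Submodule.smul_mem _ _ (hA y hy)]
  obtain ⟨hR, hRd⟩ := nondeg_inf_perp hF (nondeg_rest hF h) hP hPW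
  rw [(hyp.finrank_span hF).2] at hRd
  set R : Submodule F (Fin n → F) := rest q e f ⊓ perp q P
  have hr := finrank_rest hF h
  have hR2 : finrank F R = 2 := by omega
  set A2 := orthPart q (orthPart q A x) y
  have hA2R : ∀ u ∈ A2, u ∈ R := fun u hu => by
    refine ⟨hA u hu.1.1, fun w hw => (mem_perp_span hF).2 ?_ w hw⟩
    rintro v (rfl | rfl)
    exacts [hu.1.2, by rw [herm_smul_right, hu.2, mul_zero]]
  have h1 : Nat.card A ≤ 2 * Nat.card (orthPart q A x) := card_le_two_orth A fun u hu => hval u hu x hx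
  have h2 : Nat.card (orthPart q A x) ≤ 2 * Nat.card A2 :=
    card_le_two_orth _ fun u hu => hval u hu.1 y hy
  suffices h3 : Nat.card A2 ≤ 2 * q ^ 2 by omega
  by_cases h0 : ∀ u ∈ A2, u = 0
  · have : Subsingleton A2 := ⟨fun u v => Subtype.ext ((h0 u u.2).trans (h0 v v.2).symm)⟩
    rw [Nat.card_of_subsingleton (0 : A2)]
    nlinarith [one_lt_q hF]
  push Not at h0
  obtain ⟨w, hw, hw0⟩ := h0
  have h3 : Nat.card A2 ≤ 2 * Nat.card (orthPart q A2 w) :=
    card_le_two_orth _ fun u hu => hval u hu.1.1 w hw.1.1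
  refine h3.trans (Nat.mul_le_mul_left 2 ?_)
  have hline : ∀ u ∈ orthPart q A2 w, u ∈ Submodule.span F {w} := by
    intro u hu
    by_contra hun
    have hli : LinearIndependent F ![w, u] := li_of_not_mul hw0 fun a ha =>
      hun (Submodule.mem_span_singleton.2 ⟨a, ha.symm⟩)
    have hle : Submodule.span F (Set.range ![w, u]) ≤ R := Submodule.span_le.2 (by
      rintro _ ⟨i, rfl⟩
      fin_cases i
      exacts [hA2R w hw, hA2R u hu.1])
    have heq := Submodule.eq_of_le_of_finrank_eq hle (by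
      rw [finrank_span_eq_card hli, Fintype.card_fin, hR2])
    refine hw0 (hR w (hA2R w hw) fun v hv => ?_)
    rw [← heq] at hv
    refine (mem_perp_span hF).2 ?_ v hv
    rintro _ ⟨i, rfl⟩
    fin_cases i
    exacts [hiso w hw.1.1, herm_eq_zero_symm hF hu.2]
  have hs := natCard_sub hF (Submodule.span F ({w} : Set (Fin n → F)))
  rw [finrank_span_singleton hw0, mul_one] at hs
  refine le_trans (Nat.card_le_card_of_injective (fun u : orthPart q A2 w =>
    (⟨u.1, hline u.1 u.2⟩ : Submodule.span F ({w} : Set (Fin n → F)))) fun u v huv => Subtype.ext ?_)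
    hs.le
  exact congrArg (fun z : Submodule.span F ({w} : Set (Fin n → F)) => z.1) huv

/-! ### The bound -/

/-- If the rest part is nontrivial, the index is at least the number of isotropic points. -/
theorem index_ge_of_restPart (hF : Fintype.card F = q ^ 2) (h : Hyp q e f) (hq : 3 ≤ q) (hn : 6 ≤ n)
    (heven : Even n) {K : Subgroup (SU n F q)} (hK : ¬ RS e ≤ K) {a0 : Fin n → F}
    (ha0 : a0 ∈ restPart hF h K) (ha00 : a0 ≠ 0) :
    q ^ (2 * n - 1) + q ^ n ≤ K.index * (q ^ 2 - 1) := by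
  classical
  have hmain := main_ineq hF h (by omega) hK
  obtain ⟨c0, hc0, hc0B⟩ := exists_not_mem_tvPart hF h hK
  have hAW : ∀ a ∈ restPart hF h K, a ∈ rest q e f := fun a ha => restPart_le hF h K ha
  have hcard : Nat.card (restPart hF h K) ≤ q ^ (n - 2) :=
    card_le_of_pairing hF h (restPart hF h K) hAW (tvPart hF h K)
      (fun a ha b hb => pairing_mem hF h ha hb) hc0 hc0B
  generalize restPart hF h K = A at *
  set X := (restOrbit q e f (A : Set (Fin n → F))).ncard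
  have hApos : 0 < Nat.card A := Nat.card_pos
  have hdouble : 2 * Nat.card A ≤ X → q ^ (2 * n - 1) + q ^ n ≤ K.index * (q ^ 2 - 1) := fun h2 => by
    refine arith_double (by omega) (by omega) (Nat.le_of_mul_le_mul_right ?_ hApos)
    calc 2 * (q ^ (2 * (n - 2)) * q) * Nat.card A = q ^ (2 * (n - 2)) * q * (2 * Nat.card A) := by ring
      _ ≤ q ^ (2 * (n - 2)) * q * X := Nat.mul_le_mul_left _ h2
      _ ≤ _ := hmain
  by_cases hline : ∀ x ∈ A, ∀ y ∈ A, ¬ LinearIndependent F ![x, y]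
  · refine hdouble ?_
    have hAle : Nat.card A ≤ q ^ 2 := by
      have hs := natCard_sub hF (Submodule.span F ({a0} : Set (Fin n → F)))
      rw [finrank_span_singleton ha00, mul_one] at hs
      refine le_trans (Nat.card_le_card_of_injective (fun u : A =>
        (⟨u.1, ?_⟩ : Submodule.span F ({a0} : Set (Fin n → F)))) fun u v huv => Subtype.ext ?_) hs.le
      · by_contra hun
        exact hline a0 ha0 u.1 u.2 (li_of_not_mul ha00 fun t ht =>
          hun (Submodule.mem_span_singleton.2 ⟨t, ht.symm⟩))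
      · exact congrArg (fun z : Submodule.span F ({a0} : Set (Fin n → F)) => z.1) huv
    let T : Set (Fin 1 → Fin n → F) := {v | v 0 ∈ rest q e f ∧ v 0 ≠ 0 ∧
      hermForm n F q (v 0) (v 0) = hermForm n F q a0 a0}
    have hT : vmin q (n - 2) ≤ T.ncard := by
      have hr := finrank_rest hF h
      have := vmin_le_card hF (nondeg_rest hF h) (c := hermForm n F q a0 a0) (by omega)
        (herm_self_fixed a0 hF)
      rw [show finrank F (rest q e f) = n - 2 by omega] at this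
      refine this.trans ?_
      rw [← Nat.card_coe_set_eq]
      exact Nat.card_le_card_of_injective (fun v => ⟨fun _ => v.1, v.2⟩)
        fun u v huv => Subtype.ext (congrFun (congrArg Subtype.val huv) 0)
    have hcov := card_targets_le (q := q) (e := e) (f := f) (A : Set (Fin n → F)) T fun v hv => by
      obtain ⟨l, hl, hlv⟩ := exists_LS_vec hF h (by omega) (hAW a0 ha0) hv.1 ha00 hv.2.1 hv.2.2.symm
      exact ⟨l, hl, fun i => ⟨a0, ha0, by rw [Subsingleton.elim i 0]; exact hlv⟩⟩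
    rw [pow_one] at hcov
    refine Nat.le_of_mul_le_mul_right (le_trans ?_ (hT.trans hcov)) hApos
    refine le_trans ?_ (arith_line hq (by omega))
    calc 2 * Nat.card A * Nat.card A ≤ 2 * q ^ 2 * q ^ 2 :=
          Nat.mul_le_mul (Nat.mul_le_mul_left 2 hAle) hAle
      _ = 2 * q ^ 4 := by ring
  push Not at hline
  obtain ⟨x, hx, y, hy, hxy⟩ := hline
  have hpair : ∀ u ∈ A, ∀ v ∈ A, LinearIndependent F ![u, v] →
      (6 < n ∨ hermForm n F q u u ≠ 0 ∨ hermForm n F q v u ≠ 0 ∨ hermForm n F q v v ≠ 0) →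
      vmin q (n - 2) * (q ^ 2 * vmin q (n - 4)) ≤ X * Nat.card A ^ 2 := fun u hu v hv huv hd =>
    (le_card_pairs hF h hn (herm_self_fixed u hF) (herm_self_fixed v hF)).trans
      (card_targets_le (q := q) (e := e) (f := f) (A : Set (Fin n → F)) _
        (pairs_cover hF h hn hAW hu hv huv rfl rfl rfl hd))
  by_cases h6 : 6 < n
  · refine hdouble (Nat.le_of_mul_le_mul_right ?_ (pow_pos hApos 2))
    have h8 : 8 ≤ n := by obtain ⟨k, rfl⟩ := heven; omega
    refine le_trans ?_ (hpair x hx y hy hxy (Or.inl h6))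
    calc 2 * Nat.card A * Nat.card A ^ 2 = 2 * Nat.card A ^ 3 := by ring
      _ ≤ 2 * (q ^ (n - 2)) ^ 3 := Nat.mul_le_mul_left 2 (Nat.pow_le_pow_left hcard 3)
      _ ≤ _ := by rw [show n - 4 = n - 2 - 2 by omega]; exact arith_six hq (by omega)
  obtain rfl : n = 6 := by omega
  rw [show 2 * (6 - 2) = 8 from rfl] at hmain
  rw [show 2 * 6 - 1 = 11 from rfl]
  rw [show (6 : ℕ) - 2 = 4 from rfl] at hcard
  by_cases hzero : ∀ u ∈ A, ∀ v ∈ A, LinearIndependent F ![u, v] →
      hermForm 6 F q u u = 0 ∧ hermForm 6 F q v u = 0 ∧ hermForm 6 F q v v = 0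
  · have hti : ∀ u ∈ A, ∀ v ∈ A, hermForm 6 F q u v = 0 := by
      intro u hu v hv
      by_cases hu0 : u = 0
      · rw [hu0, herm_zero_left]
      by_cases hli : ∀ t : F, v ≠ t • u
      · exact herm_eq_zero_symm hF (hzero u hu v hv (li_of_not_mul hu0 hli)).2.1
      push Not at hli
      obtain ⟨t, rfl⟩ := hli
      obtain ⟨z, hz, hzu⟩ : ∃ z ∈ A, ∀ s : F, z ≠ s • u := by
        by_contra hcon
        push Not at hcon
        obtain ⟨s1, hs1⟩ := hcon x hx
        obtain ⟨s2, hs2⟩ := hcon y hy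
        have hx0 : x ≠ 0 := hxy.ne_zero 0
        have hs : s1 ≠ 0 := fun h0 => hx0 (by rw [hs1, h0, zero_smul])
        refine ((LinearIndependent.pair_iff' hx0).1 hxy) (s2 * s1⁻¹) ?_
        rw [hs1, hs2, smul_smul, mul_assoc, inv_mul_cancel₀ hs, mul_one]
      rw [herm_smul_right, (hzero u hu z hz (li_of_not_mul hu0 hzu)).1, mul_zero]
    obtain ⟨hX, hA4⟩ := le_card_orbit_of_ti hF h rfl A hAW hti hx hy hxy
    refine (arith_planes hq).trans (Nat.mul_le_mul_right _ (Nat.le_of_mul_le_mul_right ?_ hApos))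
    calc q ^ 5 * ((q ^ 3 + 1) * (q + 1)) * Nat.card A ≤ q ^ 5 * ((q ^ 3 + 1) * (q + 1)) * q ^ 4 :=
          Nat.mul_le_mul_left _ hA4
      _ = q ^ 8 * q * ((q ^ 3 + 1) * (q + 1)) := by ring
      _ ≤ q ^ 8 * q * X := Nat.mul_le_mul_left _ hX
      _ ≤ _ := hmain
  push Not at hzero
  obtain ⟨u1, hu1, v1, hv1, hl1, hne1⟩ := hzero
  have hne1' : hermForm 6 F q u1 u1 ≠ 0 ∨ hermForm 6 F q v1 u1 ≠ 0 ∨ hermForm 6 F q v1 v1 ≠ 0 := by
    tauto
  by_cases htwo : ∃ u2 ∈ A, ∃ v2 ∈ A, LinearIndependent F ![u2, v2] ∧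
      (hermForm 6 F q u2 u2 ≠ 0 ∨ hermForm 6 F q v2 u2 ≠ 0 ∨ hermForm 6 F q v2 v2 ≠ 0) ∧
      ¬ (hermForm 6 F q u2 u2 = hermForm 6 F q u1 u1 ∧ hermForm 6 F q v2 u2 = hermForm 6 F q v1 u1 ∧
        hermForm 6 F q v2 v2 = hermForm 6 F q v1 v1)
  · obtain ⟨u2, hu2, v2, hv2, hl2, hne2, hdiff⟩ := htwo
    set T1 := pairs q e f (hermForm 6 F q u1 u1) (hermForm 6 F q v1 u1) (hermForm 6 F q v1 v1)
    set T2 := pairs q e f (hermForm 6 F q u2 u2) (hermForm 6 F q v2 u2) (hermForm 6 F q v2 v2)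
    have hcov := card_targets_le (q := q) (e := e) (f := f) (A : Set (Fin 6 → F)) (T1 ∪ T2) fun v hv => by
      rcases hv with hv | hv
      · exact pairs_cover hF h hn hAW hu1 hv1 hl1 rfl rfl rfl (Or.inr hne1') v hv
      · exact pairs_cover hF h hn hAW hu2 hv2 hl2 rfl rfl rfl (Or.inr hne2) v hv
    rw [Set.ncard_union_eq (Set.disjoint_left.2 fun v h1 h2 => hdiff
      ⟨h2.2.2.1.symm.trans h1.2.2.1, h2.2.2.2.1.symm.trans h1.2.2.2.1,
        h2.2.2.2.2.symm.trans h1.2.2.2.2⟩)] at hcov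
    have t1 := le_card_pairs hF h hn (herm_self_fixed u1 hF) (herm_self_fixed v1 hF)
      (b := hermForm 6 F q v1 u1)
    have t2 := le_card_pairs hF h hn (herm_self_fixed u2 hF) (herm_self_fixed v2 hF)
      (b := hermForm 6 F q v2 u2)
    have hbig : 2 * (q ^ 8 * ((q ^ 3 - 1) * (q - 1))) ≤ X * Nat.card A ^ 2 := by
      have e4 : vmin q (6 - 2) * (q ^ 2 * vmin q (6 - 4)) = q ^ 8 * ((q ^ 3 - 1) * (q - 1)) := by
        simp only [vmin, show (6 : ℕ) - 2 - 1 = 3 from rfl, show (6 : ℕ) - 4 - 1 = 1 from rfl,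
          show (6 : ℕ) - 2 = 4 from rfl, show (6 : ℕ) - 4 = 2 from rfl, pow_one]
        ring
      rw [e4] at t1 t2
      exact le_trans (by rw [two_mul]; exact Nat.add_le_add t1 t2) hcov
    refine (arith_two hq).trans (Nat.mul_le_mul_right _
      (Nat.le_of_mul_le_mul_right ?_ (pow_pos hApos 3)))
    calc 2 * (q ^ 5 * ((q ^ 3 - 1) * (q - 1))) * Nat.card A ^ 3
        ≤ 2 * (q ^ 5 * ((q ^ 3 - 1) * (q - 1))) * (q ^ 4) ^ 3 :=
          Nat.mul_le_mul_left _ (Nat.pow_le_pow_left hcard 3)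
      _ = q ^ 8 * q * (2 * (q ^ 8 * ((q ^ 3 - 1) * (q - 1)))) := by ring
      _ ≤ q ^ 8 * q * (X * Nat.card A ^ 2) := Nat.mul_le_mul_left _ hbig
      _ = q ^ 8 * q * X * Nat.card A ^ 2 := by ring
      _ ≤ K.index * Nat.card A * Nat.card A ^ 2 := Nat.mul_le_mul_right _ hmain
      _ = _ := by ring
  push Not at htwo
  set a := hermForm 6 F q u1 u1
  set b := hermForm 6 F q v1 u1
  set c := hermForm 6 F q v1 v1
  have key : ∀ u ∈ A, ∀ v ∈ A, LinearIndependent F ![u, v] →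
      (hermForm 6 F q u u = 0 ∧ hermForm 6 F q v u = 0 ∧ hermForm 6 F q v v = 0) ∨
      (hermForm 6 F q u u = a ∧ hermForm 6 F q v u = b ∧ hermForm 6 F q v v = c) := fun u hu v hv hl => by
    by_cases hz : hermForm 6 F q u u = 0 ∧ hermForm 6 F q v u = 0 ∧ hermForm 6 F q v v = 0
    · exact Or.inl hz
    · exact Or.inr (htwo u hu v hv hl (by tauto))
  have hb' : hermForm 6 F q u1 v1 = b ^ q := (herm_conj v1 u1 hF).symm
  have hflip : a = c ∧ b ^ q = b := by
    rcases key v1 hv1 u1 hu1 (LinearIndependent.pair_symm_iff.1 hl1) with ⟨z1, z2, z3⟩ | ⟨z1, z2, -⟩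
    · exact absurd hne1' (by rw [hb'] at z2; simp [z1, z3, a, b, c, eq_zero_of_pow_eq_zero z2])
    · exact ⟨z1.symm, hb'.symm.trans z2⟩
  have hneg : b + b = 0 := by
    rcases key u1 hu1 (-v1) (A.neg_mem hv1) (by simpa using hl1) with ⟨z1, z2, z3⟩ | ⟨-, z2, -⟩
    · rw [herm_neg_left, neg_eq_zero] at z2
      rw [herm_neg_left, herm_neg_right _ _ hF, neg_neg] at z3
      exact absurd hne1' (by simp [a, b, c, z1, z2, z3])
    · rw [herm_neg_left] at z2
      linear_combination -z2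
  have ha : a = 0 := by
    have hl' : LinearIndependent F ![u1, u1 + v1] := by
      rw [LinearIndependent.pair_iff] at hl1 ⊢
      intro s t hst
      obtain ⟨h1, h2⟩ := hl1 (s + t) t (by rw [← hst, smul_add, add_smul]; abel)
      exact ⟨by rw [h2, add_zero] at h1; exact h1, h2⟩
    rcases key u1 hu1 (u1 + v1) (A.add_mem hu1 hv1) hl' with ⟨z1, -, -⟩ | ⟨-, z2, -⟩
    · exact z1
    · rw [herm_add_left] at z2
      exact add_eq_right.1 z2
  have hc : c = 0 := hflip.1 ▸ ha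
  have hb : b ≠ 0 := fun h0 => by
    rcases hne1' with h1 | h1 | h1
    exacts [h1 ha, h1 h0, h1 hc]
  have hiso : ∀ u ∈ A, hermForm 6 F q u u = 0 := by
    intro u hu
    by_cases hu0 : u = 0
    · rw [hu0, herm_zero_left]
    obtain ⟨z, hz, hzu⟩ : ∃ z ∈ A, ∀ s : F, z ≠ s • u := by
      by_contra hcon
      push Not at hcon
      obtain ⟨s1, hs1⟩ := hcon x hx
      obtain ⟨s2, hs2⟩ := hcon y hy
      have hx0 : x ≠ 0 := hxy.ne_zero 0
      have hs : s1 ≠ 0 := fun h0 => hx0 (by rw [hs1, h0, zero_smul])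
      refine ((LinearIndependent.pair_iff' hx0).1 hxy) (s2 * s1⁻¹) ?_
      rw [hs1, hs2, smul_smul, mul_assoc, inv_mul_cancel₀ hs, mul_one]
    rcases key u hu z hz (li_of_not_mul hu0 hzu) with ⟨z1, -, -⟩ | ⟨z1, -, -⟩
    exacts [z1, z1.trans ha]
  have hval : ∀ u ∈ A, ∀ v ∈ A, hermForm 6 F q u v = 0 ∨ hermForm 6 F q u v = b := by
    intro u hu v hv
    by_cases hv0 : v = 0
    · left; rw [hv0, herm_zero_right _ hF]
    by_cases hli : ∀ t : F, u ≠ t • v
    · rcases key v hv u hu (li_of_not_mul hv0 hli) with ⟨-, z, -⟩ | ⟨-, z, -⟩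
      exacts [Or.inl z, Or.inr z]
    · push Not at hli
      obtain ⟨t, rfl⟩ := hli
      left; rw [herm_smul_left, hiso v hv, mul_zero]
  have h8 := card_le_of_one_type hF h rfl A hAW hb hval hiso hv1 hu1 rfl
  have hq4 : 4 ≤ q := by
    obtain ⟨p, k, hp, hchar, hk, hqk⟩ := q_eq_primePow hF
    have h2 : ((2 : ℕ) : F) = 0 := by
      have := mul_eq_zero.1 (show (2 : F) * b = 0 by rw [two_mul]; exact hneg)
      exact_mod_cast this.resolve_right hb
    obtain rfl : p = 2 := (Nat.prime_dvd_prime_iff_eq hp Nat.prime_two).1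
      ((CharP.cast_eq_zero_iff F p 2).1 h2)
    rcases Nat.lt_or_ge k 2 with hk2 | hk2
    · obtain rfl : k = 1 := by omega
      omega
    · rw [hqk]; exact le_trans (by norm_num) (Nat.pow_le_pow_right (show 0 < 2 by omega) hk2)
  refine hdouble (Nat.le_of_mul_le_mul_right ?_ (pow_pos hApos 2))
  refine le_trans ?_ (hpair u1 hu1 v1 hv1 hl1 (Or.inr hne1'))
  calc 2 * Nat.card A * Nat.card A ^ 2 = 2 * Nat.card A ^ 3 := by ring
    _ ≤ _ := arith_one hq4 h8 hcard

end Cfsg.Agent.Lib.MinIndexPSU
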