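import Mathlib
import Cfsg.Agent.Lib.MinIndexPSU.Count
import Cfsg.Agent.Lib.Unitary.Generation
import Cfsg.Agent.Lib.AutPSU.Sylow

/-!
Lib/MinIndexPSU/Overgroup: subgroups whose rest part is trivial. Either the parabolic moves many data,
or (after a conjugation) the subgroup contains `LS e f` and then stabilises the plane or a line.
-/

set_option autoImplicit false
set_option linter.unusedSectionVars false

namespace Cfsg.Agent.Lib.MinIndexPSU

open scoped commutatorElement
open Matrix Module Cfsg.Agent.Lib.Unitary Cfsg.Agent.Lib.AutPSU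

variable {F : Type*} [Field F] [Fintype F] {q : ℕ} {n : ℕ} {e f : Fin n → F}

/-! ### `LS e f` is perfect -/

theorem one_ne_succ_succ {r : ℕ} (j : Fin r) : (1 : Fin (r + 2)) ≠ j.succ.succ := fun hh =>
  Fin.succ_ne_zero j (Fin.succ_injective _ ((Fin.succ_zero_eq_one).trans hh)).symm

theorem tail_single_one {r : ℕ} :
    Fin.tail (Pi.single 1 1 : Fin (r + 2) → F) = Pi.single 0 1 := funext fun i => by
  simp only [Fin.tail, Pi.single_apply]
  exact if_congr (by rw [← Fin.succ_zero_eq_one, Fin.succ_inj]) rfl rfl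

theorem isTvAt_embGU (hF : Fintype.card F = q ^ 2) {v : Fin n → F} {c : F} {A : GU n F q}
    (hA : IsTvAt v c A) :
    IsTvAt (Fin.cons 0 v : Fin (n + 1) → F) c (embGU hF A) := fun x => by
  rw [embGU_val, embMat_mulVec, hA (Fin.tail x), herm_succ]
  ext i
  refine Fin.cases ?_ (fun i => ?_) i
  · simp
  · simp [Fin.tail, Fin.cons_zero, zero_pow_q hF]

/-- `LS e f` is `SU r`, transvections to transvections along the rest. -/
theorem exists_LS_hom {r : ℕ} (hF : Fintype.card F = q ^ 2) (hr : 1 ≤ r) {e f : Fin (r + 2) → F}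
    (h : Hyp q e f) : ∃ φ : SU r F q →* GU (r + 2) F q, Function.Injective φ ∧
      (LS (q := q) e f).map (suToGU (r + 2) F q) = φ.range ∧
      ∀ A, IsTv (suToGU r F q A) → ∃ u ∈ rest q e f, ∃ c : F,
        hermForm (r + 2) F q u u = 0 ∧ c + c ^ q = 0 ∧ IsTvAt u c (φ A) := by
  classical
  obtain ⟨p, hp, hpW, hpspan⟩ :=
    exists_orthonormal_of_nondeg hF 2 _ (h.finrank_span hF).2 (h.nondeg hF)
  have hrk := finrank_rest hF h
  obtain ⟨g, hg, hgW, -⟩ := exists_orthonormal_of_nondeg hF r (rest q e f) (by omega) (nondeg_rest hF h)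
  have hpg : ∀ i j, hermForm (r + 2) F q (g j) (p i) = 0 := fun i j => hgW j (p i) (hpW i)
  have hG : Orthonormal' q (Fin.cons (p 0) (Fin.cons (p 1) g) : Fin (r + 2) → Fin (r + 2) → F) := by
    intro i j
    refine Fin.cases ?_ (fun i => ?_) i <;> refine Fin.cases ?_ (fun j => ?_) j
    · simpa using hp 0 0
    · refine Fin.cases ?_ (fun j => ?_) j
      · simpa using hp 0 1
      · simpa [(Fin.succ_ne_zero _).symm] using herm_eq_zero_symm hF (hpg 0 j)
    · refine Fin.cases ?_ (fun i => ?_) i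
      · simpa using hp 1 0
      · simpa [Fin.succ_ne_zero] using hpg 0 i
    · refine Fin.cases ?_ (fun i => ?_) i <;> refine Fin.cases ?_ (fun j => ?_) j
      · simpa using hp 1 1
      · simpa [one_ne_succ_succ] using herm_eq_zero_symm hF (hpg 1 j)
      · simpa [(one_ne_succ_succ _).symm] using hpg 1 i
      · simpa [Fin.succ_inj] using hg i j
  obtain ⟨C, hC⟩ := exists_GU_cols hF hG
  have hC0 : C.1.1 *ᵥ Pi.single 0 1 = p 0 := by rw [hC]; rfl
  have hC1 : C.1.1 *ᵥ Pi.single 1 1 = p 1 := by rw [hC]; rfl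
  let φ : SU r F q →* GU (r + 2) F q :=
    (MulAut.conj C).toMonoidHom.comp ((embGU hF).comp ((embGU hF).comp (suToGU r F q)))
  have hfix : ∀ X : GU (r + 2) F q, X.1.1 *ᵥ p 0 = p 0 → X.1.1 *ᵥ p 1 = p 1 →
      X.1.1 *ᵥ e = e ∧ X.1.1 *ᵥ f = f := fun X h0 h1 => by
    have hall : ∀ v ∈ Submodule.span F (Set.range p), X.1.1 *ᵥ v = v := fun v hv => by
      obtain ⟨c, rfl⟩ := (Submodule.mem_span_range_iff_exists_fun F).1 hv
      rw [Fin.sum_univ_two, Matrix.mulVec_add, Matrix.mulVec_smul, Matrix.mulVec_smul, h0, h1]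
    rw [hpspan] at hall
    exact ⟨hall e (Submodule.subset_span (by simp)), hall f (Submodule.subset_span (by simp))⟩
  have hs1 : ∀ B : GU r F q,
      (embGU hF (embGU hF B)).1.1 *ᵥ (Pi.single 1 1 : Fin (r + 2) → F) = Pi.single 1 1 := fun B => by
    have ht := tail_single_one (F := F) (r := r)
    rw [embGU_val, embMat_mulVec, ht, embGU_fix]
    ext i
    refine Fin.cases ?_ (fun i => ?_) i
    · simp
    · rw [Fin.cons_succ, ← ht]; rfl
  have hrange : (LS (q := q) e f).map (suToGU (r + 2) F q) = φ.range := by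
    ext Y
    constructor
    · rintro ⟨X, hX, rfl⟩
      have hXp : ∀ i, (suToGU (r + 2) F q X).1.1 *ᵥ p i = p i := fun i => by
        obtain ⟨a, b, hab⟩ := Submodule.mem_span_pair.1 (hpW i)
        rw [suToGU_val, ← hab, Matrix.mulVec_add, Matrix.mulVec_smul, Matrix.mulVec_smul,
          (mem_LS.1 hX).1, (mem_LS.1 hX).2]
      set A := C⁻¹ * suToGU (r + 2) F q X * C with hA
      have hA0 : A.1.1 *ᵥ Pi.single 0 1 = Pi.single 0 1 := by
        rw [hA, GU_mul_mulVec, GU_mul_mulVec, hC0, hXp, ← hC0, GU_inv_mulVec]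
      have hA1 : A.1.1 *ᵥ Pi.single 1 1 = Pi.single 1 1 := by
        rw [hA, GU_mul_mulVec, GU_mul_mulVec, hC1, hXp, ← hC1, GU_inv_mulVec]
      obtain ⟨B, hB⟩ := exists_embGU hF A hA0
      have hB0 : B.1.1 *ᵥ Pi.single 0 1 = Pi.single 0 1 := by
        have ht := tail_single_one (F := F) (r := r)
        have := congrArg Fin.tail hA1
        rwa [← hB, embGU_val, embMat_mulVec, Fin.tail_cons, ht] at this
      obtain ⟨D, hD⟩ := exists_embGU hF B hB0
      have hdet : D.1.1.det = 1 := by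
        have hdetA : A.1.1.det = 1 := by
          have hcc : (C⁻¹.1.1 : Matrix _ _ F).det * C.1.1.det = 1 := by
            rw [← Matrix.det_mul, ← Units.val_mul, ← Subgroup.coe_mul, inv_mul_cancel]; simp
          rw [hA]
          simp only [Subgroup.coe_mul, Units.val_mul, Matrix.det_mul, suToGU_val, X.1.2, mul_one]
          exact hcc
        rw [← hB, ← hD, embGU_det, embGU_det] at hdetA
        exact hdetA
      obtain ⟨D', hD'⟩ : D ∈ (suToGU r F q).range := by
        rw [suToGU_range]; exact MonoidHom.mem_ker.2 (Units.ext (by simpa using hdet))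
      refine ⟨D', ?_⟩
      show C * embGU hF (embGU hF (suToGU r F q D')) * C⁻¹ = _
      rw [hD', hD, hB, hA]
      group
    · rintro ⟨D, rfl⟩
      show C * embGU hF (embGU hF (suToGU r F q D)) * C⁻¹ ∈ _
      set E := C * embGU hF (embGU hF (suToGU r F q D)) * C⁻¹ with hE
      have hdet : E.1.1.det = 1 := by
        have hcc : C.1.1.det * (C⁻¹.1.1 : Matrix _ _ F).det = 1 := by
          rw [← Matrix.det_mul, ← Units.val_mul, ← Subgroup.coe_mul, mul_inv_cancel]; simp
        have hD : (embGU hF (embGU hF (suToGU r F q D))).1.1.det = 1 := by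
          rw [embGU_det, embGU_det, suToGU_val]; exact D.1.2
        simp only [hE, Subgroup.coe_mul, Units.val_mul, Matrix.det_mul, hD, mul_one]
        exact hcc
      obtain ⟨X, hX⟩ : E ∈ (suToGU (r + 2) F q).range := by
        rw [suToGU_range]; exact MonoidHom.mem_ker.2 (Units.ext (by simpa using hdet))
      refine ⟨X, ?_, hX⟩
      have := hfix E
        (by rw [hE, GU_mul_mulVec, GU_mul_mulVec, ← hC0, GU_inv_mulVec, embGU_fix])
        (by rw [hE, GU_mul_mulVec, GU_mul_mulVec, ← hC1, GU_inv_mulVec, hs1])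
      rw [← hX, suToGU_val] at this
      exact mem_LS.2 this
  refine ⟨φ, ?_, hrange, ?_⟩
  · exact (MulAut.conj C).injective.comp
      ((embGU_injective hF).comp ((embGU_injective hF).comp suToGU_injective))
  · rintro A ⟨v, c, hv, hc, hA⟩
    have h2 := (isTvAt_embGU hF (isTvAt_embGU hF hA)).conj C
    refine ⟨_, ?_, c, ?_, hc, h2⟩
    · set u0 : Fin (r + 2) → F := Fin.cons 0 (Fin.cons 0 v)
      show C.1.1 *ᵥ u0 ∈ perp q (Submodule.span F {e, f})
      rw [← hpspan]
      refine fun w hw => (mem_perp_span hF).2 ?_ w hw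
      rintro _ ⟨i, rfl⟩
      fin_cases i
      · show hermForm _ F q _ (p 0) = 0
        rw [← hC0, GU_herm, herm_single _ hF]; rfl
      · show hermForm _ F q _ (p 1) = 0
        rw [← hC1, GU_herm, herm_single _ hF]; rfl
    · rw [GU_herm, herm_succ, herm_succ]
      simp [zero_pow_q hF, hv]

theorem LS_perfect {r : ℕ} (hF : Fintype.card F = q ^ 2) (hr : 3 ≤ r) (h32 : ¬ (r = 3 ∧ q = 2))
    {e f : Fin (r + 2) → F} (h : Hyp q e f) : ⁅LS (q := q) e f, LS (q := q) e f⁆ = LS (q := q) e f := by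
  obtain ⟨φ, -, hrange, -⟩ := exists_LS_hom hF (by omega) h
  apply Subgroup.map_injective (f := suToGU (r + 2) F q) suToGU_injective
  rw [Subgroup.map_commutator, hrange, MonoidHom.range_eq_map, ← Subgroup.map_commutator,
    ← commutator_def, commutator_SU hF hr h32]

/-- A subgroup containing the transvection groups along the rest contains `LS e f`. -/
theorem LS_le_of_RS (hF : Fintype.card F = q ^ 2) (hn : 5 ≤ n) (h52 : ¬ (n = 5 ∧ q = 2))
    (h : Hyp q e f) {M : Subgroup (SU n F q)}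
    (hM : ∀ u ∈ rest q e f, u ≠ 0 → hermForm n F q u u = 0 → RS u ≤ M) : LS (q := q) e f ≤ M := by
  obtain ⟨r, rfl⟩ : ∃ r, n = r + 2 := ⟨n - 2, by omega⟩
  obtain ⟨φ, -, hrange, htv⟩ := exists_LS_hom hF (by omega) h
  intro X hX
  have hXφ : suToGU (r + 2) F q X ∈ φ.range := hrange ▸ Subgroup.mem_map_of_mem _ hX
  rw [MonoidHom.range_eq_map, ← suTransvections_closure hF (by omega)
    (fun h32 => h52 ⟨by omega, h32.2⟩), MonoidHom.map_closure] at hXφ
  have hle : Subgroup.closure (φ '' {A | IsTv (suToGU r F q A)}) ≤ M.map (suToGU (r + 2) F q) := by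
    refine (Subgroup.closure_le _).2 ?_
    rintro _ ⟨A, hA, rfl⟩
    obtain ⟨u, hu, c, huu, hc, hT⟩ := htv A hA
    by_cases hu0 : u = 0
    · refine ⟨1, M.one_mem, ?_⟩
      rw [map_one]
      exact GU_ext fun x => by rw [hT x, hu0, smul_zero, add_zero, GU_one_mulVec]
    obtain ⟨Y, hY⟩ := exists_SU_tv hF huu hc
    obtain ⟨w, hw⟩ := exists_hyp hF hu0 huu
    exact ⟨Y, hM u hu hu0 huu ((mem_RS_iff hF hw).2 ⟨c, hc, hY⟩), hY.unique hT⟩
  obtain ⟨Y, hY, hYX⟩ := hle hXφ
  rwa [← suToGU_injective hYX]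

theorem LS_perfect' (hF : Fintype.card F = q ^ 2) (hn : 5 ≤ n) (h52 : ¬ (n = 5 ∧ q = 2))
    (h : Hyp q e f) :
    ⁅LS (q := q) e f, LS (q := q) e f⁆ = LS (q := q) e f := by
  obtain ⟨r, rfl⟩ : ∃ r, n = r + 2 := ⟨n - 2, by omega⟩
  exact LS_perfect hF (by omega) (fun h32 => h52 ⟨by omega, h32.2⟩) h

/-! ### Elements of `(K ∩ NS e) QS e` -/

theorem exists_mul_of_mem_stabPart {K : Subgroup (SU n F q)} {s : SU n F q}
    (hs : s ∈ stabPart e K) : ∃ k, k ∈ K ∧ k ∈ NS e ∧ ∃ u ∈ QS e, s = k * u := by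
  let R : Subgroup (SU n F q) :=
    { carrier := {s | ∃ k, k ∈ K ∧ k ∈ NS e ∧ ∃ u ∈ QS e, s = k * u}
      one_mem' := ⟨1, one_mem _, one_mem _, 1, one_mem _, (one_mul 1).symm⟩
      mul_mem' := by
        rintro _ _ ⟨k, hk, hkN, u, hu, rfl⟩ ⟨k', hk', hkN', u', hu', rfl⟩
        refine ⟨k * k', mul_mem hk hk', mul_mem hkN hkN', k'⁻¹ * u * k'⁻¹⁻¹ * u',
          mul_mem (NS_conj_QS (inv_mem hkN') hu) hu', ?_⟩
        group
      inv_mem' := by
        rintro _ ⟨k, hk, hkN, u, hu, rfl⟩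
        exact ⟨k⁻¹, inv_mem hk, inv_mem hkN, k * u⁻¹ * k⁻¹, NS_conj_QS hkN (inv_mem hu), by group⟩ }
  have hle : stabPart e K ≤ R := sup_le
    (fun k hk => ⟨k, hk.1, hk.2, 1, one_mem _, (mul_one k).symm⟩)
    fun u hu => ⟨1, one_mem _, one_mem _, u, hu, (one_mul u).symm⟩
  exact hle hs

theorem exists_QS_zp (hF : Fintype.card F = q ^ 2) (h : Hyp q e f) {z : Fin n → F}
    (hz : z ∈ rest q e f) : ∃ X ∈ QS (q := q) e, zp e f X = z := by
  obtain ⟨d, hd⟩ := exists_eich_param hF z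
  have hze := ((mem_rest hF).1 hz).1
  obtain ⟨X, hX⟩ := exists_SU_eich hF h.1 hze hd
  exact ⟨X, mem_QS_of_eich hF h.1 hze hX, zp_of_eich hF h hz hX⟩

theorem commute_RS (hF : Fintype.card F = q ^ 2) (h : Hyp q e f) {g X : SU n F q}
    (hg : g.1.1 *ᵥ e = e) (hX : X ∈ RS e) : g * X * g⁻¹ = X := by
  have hg' : g.1.1 *ᵥ e = (1 : F) • e := by rw [one_smul]; exact hg
  have hXN : g * X * g⁻¹ ∈ RS e := NS_conj_RS ⟨1, one_ne_zero, hg'⟩ hX
  have h1 := (exists_tc hF h hXN).2
  rw [tc_conj hF h hg' hX, one_pow, one_mul] at h1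
  exact suToGU_injective (h1.unique (exists_tc hF h hX).2)

/-- Elements acting diagonally on the pair and trivially on the rest. -/
theorem exists_diag_pair' (hF : Fintype.card F = q ^ 2) (h : Hyp q e f) (μ : Fx F q) :
    ∃ T : SU n F q, T.1.1 *ᵥ e = μ.1 • e ∧ T.1.1 *ᵥ f = μ.1⁻¹ • f ∧
      ∀ w ∈ rest q e f, T.1.1 *ᵥ w = w := by
  obtain ⟨A, hdet, hAe, hAf, hAw⟩ := exists_GU_hyp_scale hF h μ.2.2
  rw [μ.2.1] at hdet hAf
  obtain ⟨T, hT⟩ := exists_SU_of_GU (hdet.trans (mul_inv_cancel₀ μ.2.2))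
  refine ⟨T, by rw [hT, hAe], by rw [hT, hAf], fun w hw => ?_⟩
  rw [hT, hAw w ((mem_rest hF).1 hw).1 ((mem_rest hF).1 hw).2]

theorem torus_commute_LS (hF : Fintype.card F = q ^ 2) (h : Hyp q e f) {T l : SU n F q} {a b : F}
    (hTe : T.1.1 *ᵥ e = a • e) (hTf : T.1.1 *ᵥ f = b • f)
    {α : F} (hTw : ∀ w ∈ rest q e f, T.1.1 *ᵥ w = α • w) (hl : l ∈ LS (q := q) e f) :
    T * l = l * T := by
  obtain ⟨hle, hlf⟩ := mem_LS.1 hl
  refine suToGU_injective (h.ext hF ?_ ?_ fun v hv1 hv2 => ?_)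
  · simp only [suToGU_val, SU_mul_mulVec, hle, hTe, Matrix.mulVec_smul]
  · simp only [suToGU_val, SU_mul_mulVec, hlf, hTf, Matrix.mulVec_smul]
  · have hv : v ∈ rest q e f := (mem_rest hF).2 ⟨hv1, hv2⟩
    simp only [suToGU_val, SU_mul_mulVec, hTw v hv, hTw _ (LS_rest hF hl hv), Matrix.mulVec_smul]

/-- With trivial rest part and `LS` inside `(K ∩ NS e) QS e`, and there an element acting by scalars
on `e`, `f` and the rest without fixing `rest ⊗ e`, a conjugate of `K` contains lifts of `LS` by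
elements of `RS e`. -/
theorem exists_conj_lifts (hF : Fintype.card F = q ^ 2) (h : Hyp q e f)
    {K : Subgroup (SU n F q)} (hK : ¬ RS e ≤ K) (hA : ∀ a ∈ restPart hF h K, a = 0)
    (hLS : LS (q := q) e f ≤ stabPart e K) {ζ α : F} (hζ0 : ζ ≠ 0) (hα0 : α ≠ 0)
    (hs1 : ζ ^ q * α ≠ 1) {T : SU n F q}
    (hTe : T.1.1 *ᵥ e = ζ • e) (hTf : T.1.1 *ᵥ f = (ζ ^ q)⁻¹ • f)
    (hTw : ∀ w ∈ rest q e f, T.1.1 *ᵥ w = α • w) (hTS : T ∈ stabPart e K) :
    ∃ K' : Subgroup (SU n F q), K'.index = K.index ∧ ¬ RS e ≤ K' ∧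
      (∀ a ∈ restPart hF h K', a = 0) ∧
      (∀ l ∈ LS (q := q) e f, ∃ r ∈ RS (q := q) e, l * r ∈ K') ∧
      ∃ z ∈ RS (q := q) e, T * z ∈ K' := by
  obtain ⟨k0, hk0, hk0N, u0, hu0, hTku⟩ := exists_mul_of_mem_stabPart hTS
  set u := u0⁻¹ with hu_def
  have hu : u ∈ QS e := inv_mem hu0
  have hk0' : k0 = T * u := by rw [hu_def, hTku]; group
  set s := ζ ^ q * α with hs
  have hs0 : s ≠ 0 := mul_ne_zero (pow_ne_zero q hζ0) hα0
  have hν' : (1 : F) - s⁻¹ ≠ 0 := by
    rw [sub_ne_zero]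
    intro h1
    exact hs1 (inv_eq_one.1 h1.symm)
  obtain ⟨v, hv, hzv⟩ := exists_QS_zp hF h
    ((rest q e f).smul_mem ((1 : F) - s⁻¹)⁻¹ (zp_mem hF h u))
  have hTN : T ∈ NS e := ⟨ζ, hζ0, hTe⟩
  have hTinv : T⁻¹.1.1 *ᵥ e = ζ⁻¹ • e := by
    have h2 := congrArg (fun x => T⁻¹.1.1 *ᵥ x) hTe
    simp only [SU_inv_mulVec, Matrix.mulVec_smul] at h2
    conv_rhs => rw [h2, smul_smul, inv_mul_cancel₀ hζ0, one_smul]
  have hTinvw : ∀ w ∈ rest q e f, T⁻¹.1.1 *ᵥ w = α⁻¹ • w := fun w hw => by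
    have h2 := congrArg (fun x => T⁻¹.1.1 *ᵥ x) (hTw w hw)
    simp only [SU_inv_mulVec, Matrix.mulVec_smul] at h2
    conv_rhs => rw [h2, smul_smul, inv_mul_cancel₀ hα0, one_smul]
  have hve : v.1.1 *ᵥ e = e := hv.1
  -- the conjugate
  set φ : SU n F q ≃* SU n F q := MulAut.conj v with hφ
  set K' := K.map φ.toMonoidHom with hK'
  have hmemK' : ∀ x, x ∈ K' ↔ v⁻¹ * x * v ∈ K := fun x => by
    constructor
    · rintro ⟨k, hk, rfl⟩
      show v⁻¹ * (v * k * v⁻¹) * v ∈ K
      rwa [show v⁻¹ * (v * k * v⁻¹) * v = k by group]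
    · intro hx
      exact ⟨_, hx, show v * (v⁻¹ * x * v) * v⁻¹ = x by group⟩
  have hvinve : (v⁻¹).1.1 *ᵥ e = e := ((QS e).inv_mem hv).1
  have hRS : ∀ X ∈ RS (q := q) e, v⁻¹ * X * v = X := fun X hX => by
    have := commute_RS hF h hvinve hX
    rwa [inv_inv] at this
  have hK'RS : ¬ RS e ≤ K' := fun hle => hK fun X hX => by
    have := (hmemK' X).1 (hle hX)
    rwa [hRS X hX] at this
  have hK'A : ∀ a ∈ restPart hF h K', a = 0 := by
    rintro _ ⟨X, hX, rfl⟩
    have hY : v⁻¹ * X * v ∈ K ⊓ QS e :=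
      ⟨(hmemK' X).1 hX.1, (QS e).mul_mem ((QS e).mul_mem ((QS e).inv_mem hv) hX.2) hv⟩
    have := hA _ ⟨_, hY, rfl⟩
    rw [zp_mul hF h (mul_mem (inv_mem hv) hX.2) hv, zp_mul hF h (inv_mem hv) hX.2,
      zp_inv hF h hv] at this
    rwa [show -zp e f v + zp e f X + zp e f v = zp e f X by abel] at this
  -- the torus element
  have hw : T⁻¹ * v * T⁻¹⁻¹ ∈ QS e := NS_conj_QS (inv_mem hTN) hv
  set z := T⁻¹ * v * T⁻¹⁻¹ * u * v⁻¹ with hz
  have hzQ : z ∈ QS e := mul_mem (mul_mem hw hu) (inv_mem hv)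
  have hzR : z ∈ RS e := by
    refine mem_RS_of_zp hF h hzQ ?_
    rw [hz, zp_mul hF h (mul_mem hw hu) (inv_mem hv), zp_mul hF h hw hu, zp_inv hF h hv,
      zp_conj hF h hTinv hv, inv_pow, hTinvw _ (zp_mem hF h v), proj_smul,
      proj_of_mem hF (zp_mem hF h v), smul_smul, ← mul_inv, ← hs, hzv, smul_smul]
    rw [show (s⁻¹ * (1 - s⁻¹)⁻¹) • zp e f u + zp e f u + -((1 - s⁻¹)⁻¹ • zp e f u) =
      ((s⁻¹ - 1) * (1 - s⁻¹)⁻¹ + 1) • zp e f u by module,
      show (s⁻¹ - 1) * (1 - s⁻¹)⁻¹ + 1 = 0 by rw [← neg_sub, neg_mul, mul_inv_cancel₀ hν', neg_add_cancel], zero_smul]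
  have hk : T * z ∈ K' := by
    rw [hmemK', hz, show v⁻¹ * (T * (T⁻¹ * v * T⁻¹⁻¹ * u * v⁻¹)) * v = T * u by group, ← hk0']
    exact hk0
  -- lifts of `LS`
  have hlift : ∀ l ∈ LS (q := q) e f, ∃ r ∈ RS (q := q) e, l * r ∈ K' := by
    intro l hl
    obtain ⟨hle, -⟩ := mem_LS.1 hl
    obtain ⟨k, hk', hkN, u1, hu1, hlku⟩ := exists_mul_of_mem_stabPart (hLS hl)
    have hwl : l⁻¹ * v * l⁻¹⁻¹ ∈ QS e := NS_conj_QS (inv_mem (PS_le_NS e hl.1)) hv
    refine ⟨l⁻¹ * v * l⁻¹⁻¹ * u1⁻¹ * v⁻¹, ?_, ?_⟩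
    swap
    · rw [hmemK', show v⁻¹ * (l * (l⁻¹ * v * l⁻¹⁻¹ * u1⁻¹ * v⁻¹)) * v = l * u1⁻¹ by group, hlku,
        mul_inv_cancel_right]
      exact hk'
    set r := l⁻¹ * v * l⁻¹⁻¹ * u1⁻¹ * v⁻¹ with hr
    have hrQ : r ∈ QS e := mul_mem (mul_mem hwl (inv_mem hu1)) (inv_mem hv)
    have hlr : l * r ∈ K' := by
      rw [hmemK', hr, show v⁻¹ * (l * (l⁻¹ * v * l⁻¹⁻¹ * u1⁻¹ * v⁻¹)) * v = l * u1⁻¹ by group, hlku,
        mul_inv_cancel_right]
      exact hk'
    have hkl : T * z * l * (T * z)⁻¹ = l := by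
      rw [show T * z * l * (T * z)⁻¹ = T * (z * l) * z⁻¹ * T⁻¹ by group,
        show z * l = l * z by
          have := commute_RS hF h hle hzR
          rw [mul_inv_eq_iff_eq_mul] at this
          exact this.symm]
      rw [show T * (l * z) * z⁻¹ * T⁻¹ = T * l * T⁻¹ by group,
        torus_commute_LS hF h hTe hTf hTw hl]
      group
    have hr' : T * z * r * (T * z)⁻¹ ∈ QS e :=
      NS_conj_QS (mul_mem hTN (QS_le_NS e hzQ)) hrQ
    have hmem : r⁻¹ * (T * z * r * (T * z)⁻¹) ∈ K' := by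
      have hc : (l * r)⁻¹ * (T * z * (l * r) * (T * z)⁻¹) ∈ K' :=
        mul_mem (inv_mem hlr) (mul_mem (mul_mem hk hlr) (inv_mem hk))
      rwa [show T * z * (l * r) * (T * z)⁻¹ =
        T * z * l * (T * z)⁻¹ * (T * z * r * (T * z)⁻¹) by group, hkl,
        show (l * r)⁻¹ * (l * (T * z * r * (T * z)⁻¹)) = r⁻¹ * (T * z * r * (T * z)⁻¹) by group]
        at hc
    refine mem_RS_of_zp hF h hrQ ?_
    have h0 : zp e f (r⁻¹ * (T * z * r * (T * z)⁻¹)) = 0 :=
      hK'A _ ⟨_, ⟨hmem, (QS e).mul_mem ((QS e).inv_mem hrQ) hr'⟩, rfl⟩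
    have hTz : (T * z).1.1 *ᵥ e = ζ • e := by rw [SU_mul_mulVec, hzQ.1, hTe]
    rw [zp_mul hF h (inv_mem hrQ) hr', zp_inv hF h hrQ, zp_conj hF h hTz hrQ] at h0
    obtain ⟨a, ha⟩ := hzQ.2 _ ((mem_rest hF).1 (zp_mem hF h r)).1
    rw [SU_mul_mulVec, ha, Matrix.mulVec_add, Matrix.mulVec_smul, hTe, hTw _ (zp_mem hF h r),
      proj_add, proj_smul, proj_smul, proj_smul, proj_of_mem hF (zp_mem hF h r),
      show proj q e f e = 0 by simpa using proj_plane hF h (1 : F) 0, smul_zero, smul_zero,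
      add_zero, smul_smul, ← hs] at h0
    rw [show -zp e f r + s • zp e f r = (s - 1) • zp e f r by module, smul_eq_zero] at h0
    exact h0.resolve_left (sub_ne_zero.2 hs1)
  exact ⟨K', Subgroup.index_map_of_bijective φ.bijective K, hK'RS, hK'A, hlift, z, hzR, hk⟩

/-- Lifts of a perfect `LS` by central elements generate it. -/
theorem LS_le_of_lifts (hF : Fintype.card F = q ^ 2) (hn : 5 ≤ n) (h52 : ¬ (n = 5 ∧ q = 2))
    (h : Hyp q e f) {K' : Subgroup (SU n F q)}
    (hlift : ∀ l ∈ LS (q := q) e f, ∃ r ∈ RS (q := q) e, l * r ∈ K') : LS (q := q) e f ≤ K' := by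
    rw [← LS_perfect' hF hn h52 h, Subgroup.commutator_le]
    intro l hl m hm
    obtain ⟨r, hr, hlr⟩ := hlift l hl
    obtain ⟨s, hs, hms⟩ := hlift m hm
    have c : ∀ {g X : SU n F q}, g.1.1 *ᵥ e = e → X ∈ RS e → g * X = X * g := fun hg hX => by
      have := commute_RS hF h hg hX
      rwa [mul_inv_eq_iff_eq_mul] at this
    have hre : r.1.1 *ᵥ e = e := hr e h.1
    have hse : s.1.1 *ᵥ e = e := hs e h.1
    obtain ⟨hle, -⟩ := mem_LS.1 hl
    obtain ⟨hme, -⟩ := mem_LS.1 hm
    have key : ⁅l, m⁆ = ⁅l * r, m * s⁆ := by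
      have hrs : r * s = s * r := c hre hs
      have hrm : m * r = r * m := c hme hr
      have hsl : l * s = s * l := c hle hs
      have e1 : l * r * (m * s) = l * m * (r * s) := by
        rw [mul_assoc, ← mul_assoc r m s, ← hrm]; group
      have e2 : m * s * (l * r) = m * l * (r * s) := by
        rw [mul_assoc, ← mul_assoc s l r, ← hsl, hrs]; group
      calc ⁅l, m⁆ = l * m * (m * l)⁻¹ := by rw [commutatorElement_def]; group
        _ = l * r * (m * s) * (m * s * (l * r))⁻¹ := by rw [e1, e2]; group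
        _ = ⁅l * r, m * s⁆ := by rw [commutatorElement_def]; group
    rw [key, commutatorElement_def]
    exact mul_mem (mul_mem (mul_mem hlr hms) (inv_mem hlr)) (inv_mem hms)

/-! ### Many data -/

theorem two_mul_card_tvPart (hF : Fintype.card F = q ^ 2) (h : Hyp q e f) {K : Subgroup (SU n F q)}
    (hK : ¬ RS e ≤ K) : 2 * Nat.card (tvPart hF h K) ≤ q := by
  obtain ⟨c, hc, hcB⟩ := exists_not_mem_tvPart hF h hK
  have hT : Nat.card (trHom hF).ker = q := by
    refine (Nat.card_congr (Equiv.subtypeEquivRight fun x => ?_)).trans (card_trace_zero hF)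
    rw [AddMonoidHom.mem_ker, trHom_apply]
  have hle : tvPart hF h K ≤ (trHom hF).ker := fun b hb => by
    rw [AddMonoidHom.mem_ker, trHom_apply]; exact tvPart_trace hF h K hb
  obtain ⟨k, hk⟩ := AddSubgroup.card_dvd_of_le hle
  rw [hT] at hk
  have h1q := one_lt_q hF
  have hk1 : k ≠ 1 := by
    intro h1
    rw [h1, mul_one] at hk
    refine hcB ?_
    rw [AddSubgroup.eq_of_le_of_card_ge hle (by rw [hT, ← hk]), AddMonoidHom.mem_ker, trHom_apply]
    exact hc
  have hk0 : k ≠ 0 := fun h0 => by rw [h0, mul_zero] at hk; omega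
  have : Nat.card (tvPart hF h K) * 2 ≤ Nat.card (tvPart hF h K) * k :=
    Nat.mul_le_mul_left _ (by omega)
  omega

theorem main_trivial (hF : Fintype.card F = q ^ 2) (h : Hyp q e f) {K : Subgroup (SU n F q)}
    (hA : ∀ a ∈ restPart hF h K, a = 0) :
    q ^ (2 * (n - 2)) * q * (stabPart e K).relIndex (NS e) ≤
      K.index * Nat.card (tvPart hF h K) := by
  have hAcard : Nat.card (restPart hF h K) = 1 := by
    have : Subsingleton (restPart hF h K) :=
      ⟨fun u v => Subtype.ext ((hA _ u.2).trans (hA _ v.2).symm)⟩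
    exact Nat.card_of_subsingleton (0 : restPart hF h K)
  have := Nat.mul_le_mul_right (Nat.card (tvPart hF h K)) (relIndex_mul_le_index e K)
  rw [← relIndex_QS_mul hF h K, hAcard, one_mul]
  linarith [this]

theorem countNull_sub_le (hF : Fintype.card F = q ^ 2) (hn : 1 ≤ n) :
    countNull F q n - 1 ≤ q ^ (2 * n - 1) + q ^ n := by
  obtain ⟨m, rfl⟩ : ∃ m, n = m + 1 := ⟨n - 1, by omega⟩
  rw [countNull_succ_eq hF, Nat.add_sub_cancel, show 2 * (m + 1) - 1 = m + 1 + m by omega, pow_add q (m + 1) m]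
  have h1 : q ^ m ≤ q ^ (m + 1) := Nat.pow_le_pow_right (by have := one_lt_q hF; omega) (Nat.le_succ m)
  split_ifs
  · calc (q ^ (m + 1) + 1) * (q ^ m - 1) ≤ (q ^ (m + 1) + 1) * q ^ m :=
          Nat.mul_le_mul_left _ (Nat.sub_le _ _)
      _ = q ^ (m + 1) * q ^ m + q ^ m := by ring
      _ ≤ _ := Nat.add_le_add_left h1 _
  · calc (q ^ (m + 1) - 1) * (q ^ m + 1) ≤ q ^ (m + 1) * (q ^ m + 1) :=
          Nat.mul_le_mul_right _ (Nat.sub_le _ _)
      _ = _ := by ring

theorem index_ge_of_not_LS_le (hF : Fintype.card F = q ^ 2) (hn : 4 ≤ n) (h : Hyp q e f)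
    {K : Subgroup (SU n F q)} (hK : ¬ RS e ≤ K) (hA : ∀ a ∈ restPart hF h K, a = 0)
    (hLS : ¬ LS (q := q) e f ≤ stabPart e K) :
    q ^ (2 * n - 1) + q ^ n ≤ K.index * (q ^ 2 - 1) := by
  classical
  have hB0 : 0 < Nat.card (tvPart hF h K) := Nat.card_pos
  have hmain := main_trivial hF h hA
  set P := NS (q := q) e
  set S := stabPart e K
  obtain ⟨l, hl, hlS⟩ := SetLike.not_le_iff_exists.1 hLS
  obtain ⟨c, hc, hcB⟩ := exists_not_mem_tvPart hF h hK
  have hy := card_le_card_scalings hF (tvPart hF h K) (fun b hb => tvPart_trace hF h K hb) hc hcB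
  set Y := Set.range fun μ : Fx F q => (fun x => μ.1 * x) '' (tvPart hF h K : Set F)
  have hrep : ∀ y : Y, ∃ g : SU n F q, ∃ ζ : F, ζ ≠ 0 ∧ g.1.1 *ᵥ e = ζ • e ∧
      y.1 = (fun x => ζ ^ (q + 1) * x) '' (tvPart hF h K : Set F) := by
    rintro ⟨_, μ, rfl⟩
    obtain ⟨ζ, hζ⟩ := norm_surj hF μ.2.1
    have hζ0 : ζ ≠ 0 := fun h0 => μ.2.2 (by rw [← hζ, h0, zero_mul])
    obtain ⟨g, hg, -, -⟩ := exists_torus hF h (by omega) hζ0
    exact ⟨g, ζ, hζ0, hg, by rw [pow_succ', hζ]⟩
  choose g ζ hζ0 hg hy' using hrep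
  obtain ⟨hle, -⟩ := mem_LS.1 hl
  let G : Y ⊕ Y → SU n F q := Sum.elim g fun y => g y * l
  let key : Y ⊕ Y → Set F := Sum.elim (fun y => y.1) fun y => y.1
  have hGe : ∀ a, (G a).1.1 *ᵥ e = ζ (Sum.elim id id a) • e := by
    rintro (y | y)
    · exact hg y
    · show (g y * l).1.1 *ᵥ e = _
      rw [SU_mul_mulVec, hle]; exact hg y
  have hGP : ∀ a, G a ∈ P := fun a => ⟨ζ (Sum.elim id id a), hζ0 _, hGe a⟩
  have hdata : ∀ a, (data e f K (G a)).1 = key a := by
    intro a
    have hk : key a = (fun x => ζ (Sum.elim id id a) ^ (q + 1) * x) '' (tvPart hF h K : Set F) := by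
      rcases a with y | y <;> exact hy' y
    rw [hk]
    show _ = _ '' (tc f '' _)
    rw [Set.image_image]
    exact Set.image_congr fun T hT => tc_conj hF h (hGe a) hT.2
  have hsame : ∀ a b, (G a)⁻¹ * G b ∈ S → key a = key b := fun a b hab => by
    have := congrArg Prod.fst (data_mul hF h K (hGP a) hab)
    rwa [mul_inv_cancel_left, hdata, hdata, eq_comm] at this
  have hinj : ∀ a b, (G a)⁻¹ * G b ∈ S → a = b := by
    rintro (y | y) (y' | y') hab <;> obtain rfl : y = y' := Subtype.ext (hsame _ _ hab)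
    · rfl
    · exact absurd (by simpa [G] using hab) hlS
    · exact absurd (by simpa [G] using hab) hlS
    · rfl
  have h2 : 2 * Nat.card (tvPart hF h K) ≤ S.relIndex P := by
    rw [Subgroup.relIndex, Subgroup.index]
    refine le_trans (le_trans (Nat.mul_le_mul_left 2 hy) (le_of_eq (show 2 * Y.ncard = Nat.card (Y ⊕ Y) by
      rw [Nat.card_sum, Nat.card_coe_set_eq, two_mul]))) ?_
    refine Nat.card_le_card_of_injective
      (fun a => (QuotientGroup.mk (⟨G a, hGP a⟩ : P) : P ⧸ S.subgroupOf P)) fun a b hab => hinj a b ?_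
    exact (QuotientGroup.eq (s := S.subgroupOf P) (a := ⟨G a, hGP a⟩) (b := ⟨G b, hGP b⟩)).1 hab
  refine arith_double (one_lt_q hF) hn (Nat.le_of_mul_le_mul_right ?_ hB0)
  calc 2 * (q ^ (2 * (n - 2)) * q) * Nat.card (tvPart hF h K)
      = q ^ (2 * (n - 2)) * q * (2 * Nat.card (tvPart hF h K)) := by ring
    _ ≤ q ^ (2 * (n - 2)) * q * S.relIndex P := Nat.mul_le_mul_left _ h2
    _ ≤ _ := hmain

theorem index_ge_or_conj (hF : Fintype.card F = q ^ 2) (hq : 3 ≤ q) (hn : 5 ≤ n) (h : Hyp q e f)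
    {K : Subgroup (SU n F q)} (hK : ¬ RS e ≤ K) (hA : ∀ a ∈ restPart hF h K, a = 0) :
    q ^ (2 * n - 1) + q ^ n ≤ K.index * (q ^ 2 - 1) ∨
      ∃ K' : Subgroup (SU n F q), K'.index = K.index ∧ ¬ RS e ≤ K' ∧
        (∀ a ∈ restPart hF h K', a = 0) ∧ LS (q := q) e f ≤ K' := by
  classical
  have hb2 := two_mul_card_tvPart hF h hK
  have hmain := main_trivial hF h hA
  set P := NS (q := q) e
  set S := stabPart e K
  by_cases hLS : LS (q := q) e f ≤ S
  swap
  · exact Or.inl (index_ge_of_not_LS_le hF (by omega) h hK hA hLS)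
  choose T hTe hTf hTw using exists_diag_pair' (n := n) (e := e) (f := f) hF h
  by_cases hT : ∃ ν : Fx F q, ν.1 ≠ 1 ∧ ∃ T' ∈ S, T'.1.1 *ᵥ e = ν.1 • e ∧
      T'.1.1 *ᵥ f = ν.1⁻¹ • f ∧ ∀ w ∈ rest q e f, T'.1.1 *ᵥ w = w
  · obtain ⟨ν, hν, T', hT', h1, h2, h3⟩ := hT
    obtain ⟨K', hidx, hK', hA', hlift, -⟩ := exists_conj_lifts hF h hK hA hLS (ζ := ν.1) (α := 1) ν.2.2
      one_ne_zero (by rw [mul_one, ν.2.1]; exact hν) h1 (by rw [ν.2.1]; exact h2)
      (fun w hw => by rw [one_smul]; exact h3 w hw) hT'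
    exact Or.inr ⟨K', hidx, hK', hA', LS_le_of_lifts hF hn (fun h52 => by omega) h hlift⟩
  left
  push Not at hT
  have hq1 : q - 1 ≤ S.relIndex P := by
    rw [Subgroup.relIndex, Subgroup.index, show q - 1 = Nat.card (Fx F q) by
      have := card_Fx (F := F) hF; omega]
    refine Nat.card_le_card_of_injective
      (fun μ => (QuotientGroup.mk (⟨T μ, μ.1, μ.2.2, hTe μ⟩ : P) : P ⧸ S.subgroupOf P))
      fun a b hab => ?_
    have hmem : (T a)⁻¹ * T b ∈ S :=
      (QuotientGroup.eq (s := S.subgroupOf P) (a := ⟨T a, a.1, a.2.2, hTe a⟩)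
        (b := ⟨T b, b.1, b.2.2, hTe b⟩)).1 hab
    by_contra hne
    have hinv : ∀ (x : Fin n → F) (c : F), c ≠ 0 → (T a).1.1 *ᵥ x = c • x →
        (T a)⁻¹.1.1 *ᵥ x = c⁻¹ • x := fun x c hc hx => by
      have h2 := congrArg (fun v => (T a)⁻¹.1.1 *ᵥ v) hx
      simp only [SU_inv_mulVec, Matrix.mulVec_smul] at h2
      conv_rhs => rw [h2, smul_smul, inv_mul_cancel₀ hc, one_smul]
    let ν : Fx F q := ⟨a.1⁻¹ * b.1, by rw [mul_pow, inv_pow, a.2.1, b.2.1],
      mul_ne_zero (inv_ne_zero a.2.2) b.2.2⟩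
    obtain ⟨w, hw, hwne⟩ := hT ν (fun h1 => hne (Subtype.ext (inv_mul_eq_one₀ a.2.2 |>.1 h1)))
      ((T a)⁻¹ * T b) hmem
      (by rw [SU_mul_mulVec, hTe b, Matrix.mulVec_smul, hinv e _ a.2.2 (hTe a), smul_smul, mul_comm])
      (by rw [SU_mul_mulVec, hTf b, Matrix.mulVec_smul,
        hinv f _ (inv_ne_zero a.2.2) (hTf a), smul_smul]; congr 1; simp [ν, mul_comm])
    refine hwne ?_
    rw [SU_mul_mulVec, hTw b w hw]
    conv_lhs => rw [← hTw a w hw]
    exact SU_inv_mulVec _ _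
  have h1 : 2 * (q ^ (2 * (n - 2)) * (q - 1)) ≤ K.index := by
    refine Nat.le_of_mul_le_mul_right ?_ (show 0 < q by omega)
    calc 2 * (q ^ (2 * (n - 2)) * (q - 1)) * q = 2 * (q ^ (2 * (n - 2)) * q * (q - 1)) := by ring
      _ ≤ 2 * (K.index * Nat.card (tvPart hF h K)) :=
          Nat.mul_le_mul_left 2 (le_trans (Nat.mul_le_mul_left _ hq1) hmain)
      _ = K.index * (2 * Nat.card (tvPart hF h K)) := by ring
      _ ≤ K.index * q := Nat.mul_le_mul_left _ hb2
  refine le_trans ?_ (Nat.mul_le_mul_right _ h1)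
  obtain ⟨r, rfl⟩ : ∃ r, n = r + 2 := ⟨n - 2, by omega⟩
  rw [Nat.add_sub_cancel, show 2 * (r + 2) - 1 = 2 * r + 3 by omega]
  have hp : q ^ (r + 2) ≤ q ^ (2 * r) := Nat.pow_le_pow_right (by omega) (by omega)
  have hqq : q ^ 3 + 1 ≤ 2 * (q - 1) * (q ^ 2 - 1) := by
    obtain ⟨t, rfl⟩ : ∃ t, q = t + 3 := ⟨q - 3, by omega⟩
    rw [show t + 3 - 1 = t + 2 by omega,
      show (t + 3) ^ 2 - 1 = t ^ 2 + 6 * t + 8 from Nat.sub_eq_of_eq_add (by ring)]
    nlinarith
  calc q ^ (2 * r + 3) + q ^ (r + 2) ≤ q ^ (2 * r) * (q ^ 3 + 1) := by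
        rw [mul_add, mul_one, ← pow_add]; exact Nat.add_le_add_left hp _
    _ ≤ q ^ (2 * r) * (2 * (q - 1) * (q ^ 2 - 1)) := Nat.mul_le_mul_left _ hqq
    _ = _ := by ring

/-! ### Indices of stabilisers -/

theorem index_le_relIndex_mul {G : Type*} [Group G] [Finite G] (K P : Subgroup G) :
    P.index ≤ P.relIndex K * K.index := by
  have h1 := Subgroup.relIndex_mul_index (inf_le_right : P ⊓ K ≤ K)
  rw [Subgroup.inf_relIndex_right] at h1
  have h2 := Subgroup.relIndex_mul_index (inf_le_left : P ⊓ K ≤ P)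
  rw [h1, ← h2]
  exact Nat.le_mul_of_pos_left _ (Nat.pos_of_ne_zero
    (fun h0 => Subgroup.index_ne_zero_of_finite (H := P ⊓ K) (by rw [← h2, h0, zero_mul])))

theorem index_NS_mul (hF : Fintype.card F = q ^ 2) (hn : 3 ≤ n) (h : Hyp q e f) :
    (NS (q := q) e).index * (q ^ 2 - 1) = countNull F q n - 1 := by
  classical
  rw [← index_PS hF hn h, ← Subgroup.relIndex_mul_index (PS_le_NS (q := q) e), mul_comm]
  congr 1
  have hg : ∀ ζ : Fˣ, ∃ g : SU n F q, g.1.1 *ᵥ e = (ζ : F) • e := fun ζ => by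
    obtain ⟨g, hg, -, -⟩ := exists_torus hF h hn ζ.ne_zero
    exact ⟨g, hg⟩
  choose g hg using hg
  have he := ne_zero_of_hyp h
  have hbij : Function.Bijective fun ζ : Fˣ =>
      (QuotientGroup.mk (⟨g ζ, ζ, ζ.ne_zero, hg ζ⟩ : NS e) :
        NS (q := q) e ⧸ (PS e).subgroupOf (NS e)) := by
    constructor
    · intro a b hab
      have h1 : ((g a)⁻¹ * g b).1.1 *ᵥ e = e := QuotientGroup.eq.1 hab
      have h2 := congrArg (fun v => (g a).1.1 *ᵥ v) h1
      simp only [SU_mul_mulVec, SU_mulVec_inv, hg] at h2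
      exact Units.ext (smul_left_injective F he h2).symm
    · intro x
      obtain ⟨⟨X, a, ha, hX⟩, rfl⟩ := QuotientGroup.mk_surjective x
      refine ⟨Units.mk0 a ha, QuotientGroup.eq.2 ?_⟩
      show ((g (Units.mk0 a ha))⁻¹ * X).1.1 *ᵥ e = e
      rw [SU_mul_mulVec, hX, show a • e = (g (Units.mk0 a ha)).1.1 *ᵥ e from (hg (Units.mk0 a ha)).symm, SU_inv_mulVec]
  rw [Subgroup.relIndex, Subgroup.index, ← Nat.card_eq_of_bijective _ hbij, Nat.card_units,
    Nat.card_eq_fintype_card, hF]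

theorem countUnit_le_index_PS (hF : Fintype.card F = q ^ 2) (hn : 2 ≤ n) {p : Fin n → F}
    (hp : hermForm n F q p p = 1) : countUnit F q n ≤ (PS (q := q) p).index := by
  classical
  have hg : ∀ v : {v : Fin n → F // hermForm n F q v v = 1}, ∃ X : SU n F q, X.1.1 *ᵥ p = v.1 := by
    rintro ⟨v, hv⟩
    obtain ⟨A, hA⟩ := exists_GU_norm_one hF hp hv
    have hd : finrank F (perp q (Submodule.span F {v})) + 1 = n := by
      have := finrank_perp hF (Submodule.span F ({v} : Set (Fin n → F)))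
      rwa [finrank_span_singleton (fun h0 : v = 0 => by simp [h0, herm_zero_left] at hv)] at this
    obtain ⟨z, hzW, hz⟩ := exists_norm_one_of_nondeg hF
      (nondeg_perp hF (not_isotropic_of_nondeg hF (hv ▸ one_ne_zero)))
      (fun hb => by rw [hb, finrank_bot] at hd; omega)
    obtain ⟨B, hBdet, -, hBfix⟩ := exists_GU_scale hF hz (inv_norm_one hF (det_norm_one hF A))
    have hdet : (B * A).1.1.det = 1 := by
      simp only [Subgroup.coe_mul, Units.val_mul, Matrix.det_mul, hBdet]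
      exact inv_mul_cancel₀ fun h0 => by simpa [h0] using det_norm_one hF A
    obtain ⟨X, hX⟩ := exists_SU_of_GU hdet
    exact ⟨X, by rw [hX, GU_mul_mulVec, hA,
      hBfix v (herm_eq_zero_symm hF (hzW v (Submodule.mem_span_singleton_self v)))]⟩
  choose g hg using hg
  rw [countUnit, Subgroup.index]
  refine Nat.card_le_card_of_injective (fun v => (QuotientGroup.mk (g v) : SU n F q ⧸ PS p))
    fun a b hab => Subtype.ext ?_
  have h1 : ((g a)⁻¹ * g b).1.1 *ᵥ p = p := QuotientGroup.eq.1 hab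
  have h2 := congrArg (fun v => (g a).1.1 *ᵥ v) h1
  simp only [SU_mul_mulVec, SU_mulVec_inv, hg] at h2
  exact h2.symm

theorem countNull_even (hF : Fintype.card F = q ^ 2) (hn : 1 ≤ n) (heven : Even n) :
    countNull F q n - 1 = (q ^ n - 1) * (q ^ (n - 1) + 1) := by
  obtain ⟨m, rfl⟩ : ∃ m, n = m + 1 := ⟨n - 1, by omega⟩
  rw [countNull_succ_eq hF, if_neg (fun hm => by rw [Nat.even_add_one] at heven; exact heven hm)]
  simp

/-- Vectors of given norm and product with `w`, off the line of `w`. -/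
theorem exists_second (hF : Fintype.card F = q ^ 2) {W : Submodule F (Fin n → F)} (hW : Nondeg q W)
    (hd : 3 ≤ finrank F W) {w : Fin n → F} (hwW : w ∈ W) (hw : w ≠ 0) {b c : F} (hc : c ^ q = c)
    (hne : ¬ (hermForm n F q w w = 0 ∧ b = 0 ∧ c = 0)) :
    ∃ y ∈ W, hermForm n F q y w = b ∧ hermForm n F q y y = c ∧ ∀ a : F, y ≠ a • w := by
  classical
  have hnz : ∀ {R : Submodule F (Fin n → F)}, Nondeg q R → 2 ≤ finrank F R → ∀ {d : F}, d ^ q = d →
      ∃ z ∈ R, z ≠ 0 ∧ hermForm n F q z z = d := by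
    intro R hR hR2 d hd'
    obtain ⟨⟨z, hz⟩⟩ := (Nat.card_pos_iff.1
      (lt_of_lt_of_le (vmin_pos hF hR2) (vmin_le_card hF hR hR2 hd'))).1
    exact ⟨z, hz⟩
  by_cases ha : hermForm n F q w w = 0
  · obtain ⟨t0, ht0, hwt⟩ : ∃ t ∈ W, hermForm n F q w t ≠ 0 := by
      by_contra hcon
      push Not at hcon
      exact hw (hW w hwW hcon)
    obtain ⟨k, hk⟩ := exists_isotropic_shift hF ha hwt
    have hwt' : hermForm n F q w (t0 + k • w) ≠ 0 := by
      rwa [herm_add_right _ _ _ hF, herm_smul_right, ha, mul_zero, add_zero]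
    have hyp := hyp_of_nonorth hF ha hk hwt'
    set t := ((hermForm n F q w (t0 + k • w)) ^ q)⁻¹ • (t0 + k • w)
    have htW : t ∈ W := W.smul_mem _ (W.add_mem ht0 (W.smul_mem _ hwW))
    by_cases hb : b = 0
    · have hc0 : c ≠ 0 := fun h0 => hne ⟨ha, hb, h0⟩
      have hPW : Submodule.span F ({w, t} : Set (Fin n → F)) ≤ W := Submodule.span_le.2 (by
        rintro v (rfl | rfl)
        exacts [hwW, htW])
      obtain ⟨hR, hRd⟩ := nondeg_inf_perp hF hW (hyp.nondeg hF) hPW
      rw [(hyp.finrank_span hF).2] at hRd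
      obtain ⟨z, hz, hz1⟩ := exists_norm_one_of_nondeg hF hR
        (fun h0 => by rw [h0, finrank_bot] at hRd; omega)
      obtain ⟨k', hk'⟩ := norm_surj hF hc
      have hzw : hermForm n F q z w = 0 := hz.2 w (Submodule.subset_span (by simp))
      refine ⟨k' • z, W.smul_mem _ hz.1, by rw [herm_smul_left, hzw, mul_zero, hb],
        by rw [herm_smul_left, herm_smul_right, hz1, mul_one, hk'], fun a h0 => hc0 ?_⟩
      have := congrArg (fun v => hermForm n F q v (k' • z)) h0
      rwa [herm_smul_left, herm_smul_right, hz1, mul_one, hk', herm_smul_left, herm_smul_right,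
        herm_eq_zero_symm hF hzw, mul_zero, mul_zero] at this
    · obtain ⟨s, hs⟩ := trace_surj hF hc
      refine ⟨(s / b ^ q) • w + b • t, W.add_mem (W.smul_mem _ hwW) (W.smul_mem _ htW), ?_, ?_,
        fun a h0 => hb ?_⟩
      · rw [herm_add_left, herm_smul_left, herm_smul_left, ha, hyp.symm' hF, mul_zero, mul_one,
          zero_add]
      · simp only [herm_add_left, herm_add_right _ _ _ hF, herm_smul_left, herm_smul_right, ha,
          hyp.2.1, hyp.2.2, hyp.symm' hF, mul_zero, mul_one, zero_add, add_zero]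
        rw [mul_comm (b ^ q), div_mul_cancel₀ _ (pow_ne_zero q hb), div_pow, pow_q_q hF, div_mul_cancel₀ _ hb, add_comm, hs]
      · calc b = hermForm n F q ((s / b ^ q) • w + b • t) w := by
              rw [herm_add_left, herm_smul_left, herm_smul_left, ha, hyp.symm' hF, mul_zero, mul_one,
                zero_add]
          _ = 0 := by rw [h0, herm_smul_left, ha, mul_zero]
  · obtain ⟨hR, hRd⟩ := nondeg_inf_perp hF hW (not_isotropic_of_nondeg hF ha)
      ((Submodule.span_singleton_le_iff_mem _ _).2 hwW)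
    rw [finrank_span_singleton hw] at hRd
    set k := b / hermForm n F q w w
    obtain ⟨z, hz, hz0, hzn⟩ := hnz hR (by omega)
      (show (c - k * (k ^ q * hermForm n F q w w)) ^ q = c - k * (k ^ q * hermForm n F q w w) by
        rw [sub_pow_q hF, hc, mul_pow, mul_pow, pow_q_q hF, herm_self_fixed w hF]; ring)
    have hzw : hermForm n F q z w = 0 := hz.2 w (Submodule.mem_span_singleton_self w)
    refine ⟨k • w + z, W.add_mem (W.smul_mem _ hwW) hz.1, ?_, ?_, fun a h0 => hz0 ?_⟩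
    · rw [herm_add_left, herm_smul_left, hzw, add_zero, div_mul_cancel₀ _ ha]
    · simp only [herm_add_left, herm_add_right _ _ _ hF, herm_smul_left, herm_smul_right, hzw,
        herm_eq_zero_symm hF hzw, mul_zero, add_zero, zero_add, hzn]
      ring
    · have := congrArg (fun v => hermForm n F q v w) h0
      rw [herm_add_left, herm_smul_left, herm_smul_left, hzw, add_zero] at this
      rw [mul_right_cancel₀ ha this] at h0
      exact left_eq_add.1 (h0.symm.trans (by abel))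

/-! ### Roots inside a subgroup containing `LS` -/

/-- The isotropic vectors whose root group lies in `K`. -/
def roots (K : Subgroup (SU n F q)) : Set (Fin n → F) :=
  {v | v ≠ 0 ∧ hermForm n F q v v = 0 ∧ RS v ≤ K}

theorem roots_map {K : Subgroup (SU n F q)} {X : SU n F q} (hX : X ∈ K) {v : Fin n → F}
    (hv : v ∈ roots K) : X.1.1 *ᵥ v ∈ roots K := by
  obtain ⟨h0, hiso, hle⟩ := hv
  refine ⟨fun h1 => h0 ?_, by rw [SU_herm, hiso], fun T hT => ?_⟩
  · rw [← SU_inv_mulVec X v, h1, Matrix.mulVec_zero]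
  · have h1 := RS_conj X⁻¹ hT
    rw [SU_inv_mulVec, inv_inv] at h1
    have h2 := K.mul_mem (K.mul_mem hX (hle h1)) (K.inv_mem hX)
    rwa [show X * (X⁻¹ * T * X) * X⁻¹ = T by group] at h2

theorem roots_step (hF : Fintype.card F = q ^ 2) {K : Subgroup (SU n F q)} {u x : Fin n → F}
    (hu : u ∈ roots K) (hx : x ∈ roots K) {c : F} (hc : c + c ^ q = 0) :
    x + (c * hermForm n F q x u) • u ∈ roots K := by
  obtain ⟨X, hX⟩ := exists_SU_tv hF hu.2.1 hc
  have hXR : X ∈ RS u := fun y hy => by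
    have := hX y
    rw [suToGU_val] at this
    rw [this, hy, mul_zero, zero_smul, add_zero]
  have h1 := roots_map (hu.2.2 hXR) hx
  have h2 := hX x
  rw [suToGU_val] at h2
  rwa [h2] at h1

theorem roots_smul {K : Subgroup (SU n F q)} {v : Fin n → F} (hv : v ∈ roots K) {t : F}
    (ht : t ≠ 0) : t • v ∈ roots K :=
  ⟨smul_ne_zero ht hv.1, by rw [herm_smul_left, herm_smul_right, hv.2.1, mul_zero, mul_zero],
    by rw [RS_smul ht]; exact hv.2.2⟩

theorem mem_span_pair_fix {l : SU n F q} (hl : l ∈ LS (q := q) e f) {p : Fin n → F}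
    (hp : p ∈ Submodule.span F ({e, f} : Set (Fin n → F))) : l.1.1 *ᵥ p = p := by
  obtain ⟨a, b, rfl⟩ := Submodule.mem_span_pair.1 hp
  rw [Matrix.mulVec_add, Matrix.mulVec_smul, Matrix.mulVec_smul, (mem_LS.1 hl).1, (mem_LS.1 hl).2]

theorem plane_part_mem (v : Fin n → F) :
    v - proj q e f v ∈ Submodule.span F ({e, f} : Set (Fin n → F)) :=
  Submodule.mem_span_pair.2 ⟨hermForm n F q v f, hermForm n F q v e, by simp only [proj]; abel⟩

/-- If the roots in a subgroup containing `LS` span everything, they include `e`. -/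
theorem mem_roots_of_span (hF : Fintype.card F = q ^ 2) (hn : 5 ≤ n) (h : Hyp q e f)
    {K : Subgroup (SU n F q)} (hLS : LS (q := q) e f ≤ K)
    (hspan : Submodule.span F (roots K) = ⊤) : e ∈ roots K := by
  classical
  set W := rest q e f
  set P := Submodule.span F ({e, f} : Set (Fin n → F))
  have hW : Nondeg q W := nondeg_rest hF h
  have hd : finrank F W = n - 2 := by have := finrank_rest hF h; show finrank F (rest q e f) = _; omega
  have horth : ∀ p ∈ P, ∀ w ∈ W, hermForm n F q w p = 0 ∧ hermForm n F q p w = 0 :=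
    fun p hp w hw => ⟨hw p hp, herm_eq_zero_symm hF (hw p hp)⟩
  have hnorm : ∀ p ∈ P, ∀ w ∈ W, ∀ p' ∈ P, ∀ w' ∈ W,
      hermForm n F q (p + w) (p' + w') = hermForm n F q p p' + hermForm n F q w w' := by
    intro p hp w hw p' hp' w' hw'
    rw [herm_add_left, herm_add_right _ _ _ hF, herm_add_right _ _ _ hF, (horth p hp w' hw').2,
      (horth p' hp' w hw).1]
    ring
  obtain ⟨w0, hw0W, hw0, hw0i⟩ : ∃ w ∈ W, w ≠ 0 ∧ hermForm n F q w w = 0 := by
    have := vmin_le_card hF hW (c := 0) (by omega) (zero_pow_q hF)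
    have hpos := vmin_pos hF (m := finrank F W) (by omega)
    obtain ⟨⟨w, hw⟩⟩ := (Nat.card_pos_iff.1 (lt_of_lt_of_le hpos this)).1
    exact ⟨w, hw⟩
  have hrest : ∀ w ∈ W, w ≠ 0 → hermForm n F q w w = 0 → w ∈ roots K := fun w hw hw' hi =>
    ⟨hw', hi, fun T hT => hLS ⟨hT e (rest_swap_herm hF hw).1, hT f (rest_swap_herm hF hw).2⟩⟩
  -- plane parts of roots with nonzero rest part
  let Mem : (Fin n → F) → Prop := fun p => p ∈ P ∧ ∃ w ∈ W, w ≠ 0 ∧ p + w ∈ roots K
  have hmove : ∀ {p}, Mem p → ∀ {w'}, w' ∈ W → w' ≠ 0 →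
      hermForm n F q p p + hermForm n F q w' w' = 0 → p + w' ∈ roots K := by
    rintro p ⟨hp, w, hw, hw', hmem⟩ w' hwW hw'' hn0
    have hwn : hermForm n F q w w = hermForm n F q w' w' := by
      have := hmem.2.1
      rw [hnorm p hp w hw p hp w hw] at this
      linear_combination this - hn0
    obtain ⟨l, hl, hlw⟩ := exists_LS_vec hF h (by omega) hw hwW hw' hw'' hwn
    have := roots_map (hLS hl) hmem
    rwa [Matrix.mulVec_add, mem_span_pair_fix hl hp, hlw] at this
  obtain ⟨c, hc0, hc⟩ := exists_trace_zero_ne_zero hF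
  have hstep : ∀ {p}, Mem p → ∀ {p'}, Mem p' → ∀ μ : F,
      (hermForm n F q p p = 0 → μ ≠ c * hermForm n F q p' p) → Mem (p' + μ • p) := by
    intro p hMp p' hMp' μ hμ
    obtain ⟨hp, w, hw, hw', hmem⟩ := hMp
    obtain ⟨hp', w1, hw1, hw1', hmem1⟩ := hMp'
    have hn0 := hmem.2.1
    rw [hnorm p hp w hw p hp w hw] at hn0
    obtain ⟨w2, hw2, hw2b, hw2c, hw2n⟩ := exists_second hF hW (by omega) hw hw'
      (b := μ / c - hermForm n F q p' p) (herm_self_fixed w1 hF) (by
        rintro ⟨ha0, hb0, -⟩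
        refine hμ (by rw [ha0, add_zero] at hn0; exact hn0) ?_
        rw [sub_eq_zero, div_eq_iff hc0] at hb0
        rw [hb0, mul_comm])
    have hw20 : w2 ≠ 0 := fun h0 => hw2n 0 (by rw [h0, zero_smul])
    have hn1 := hmem1.2.1
    rw [hnorm p' hp' w1 hw1 p' hp' w1 hw1] at hn1
    have hx := hmove ⟨hp', w1, hw1, hw1', hmem1⟩ hw2 hw20 (by rw [hw2c]; exact hn1)
    have h2 := roots_step hF hmem hx hc
    rw [hnorm p' hp' w2 hw2 p hp w hw, hw2b, add_sub_cancel, mul_div_cancel₀ μ hc0] at h2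
    refine ⟨P.add_mem hp' (P.smul_mem _ hp), w2 + μ • w, W.add_mem hw2 (W.smul_mem _ hw),
      fun h0 => hw2n (-μ) ?_, ?_⟩
    · rw [neg_smul]; exact eq_neg_of_add_eq_zero_left h0
    · rwa [show p' + μ • p + (w2 + μ • w) = p' + w2 + μ • (p + w) by module]
  have hshift : ∀ {p}, Mem p → ∀ {p'}, Mem p' → ∀ μ : F, Mem (p' + μ • p) := by
    intro p hMp p' hMp' μ
    set bad := c * hermForm n F q p' p
    obtain ⟨μ1, h1, h2⟩ : ∃ μ1 : F, μ1 ≠ bad ∧ μ1 ≠ μ - bad := by
      by_contra hcon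
      push Not at hcon
      have hsub : (Finset.univ : Finset F) ⊆ {bad, μ - bad} := fun x _ => by
        by_cases hx : x = bad
        · simp [hx]
        · simp [hcon x hx]
      have := (Finset.card_le_card hsub).trans Finset.card_le_two
      rw [Finset.card_univ, hF] at this
      have h22 : 2 ^ 2 ≤ q ^ 2 := Nat.pow_le_pow_left (one_lt_q hF) 2
      omega
    have hM := hstep hMp (hstep hMp hMp' μ1 (fun _ => h1)) (μ - μ1) (fun h0 hcon => h2 ?_)
    · rwa [add_assoc, ← add_smul, add_sub_cancel] at hM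
    · rw [herm_add_left, herm_smul_left, h0, mul_zero, add_zero] at hcon
      linear_combination -hcon
  have hfull : ∀ {p1 p2}, Mem p1 → Mem p2 → LinearIndependent F ![p1, p2] → ∀ p ∈ P, Mem p := by
    intro p1 p2 h1 h2 hli p hp
    have hP : Submodule.span F (Set.range ![p1, p2]) = P := by
      refine Submodule.eq_of_le_of_finrank_eq (Submodule.span_le.2 ?_) ?_
      · rintro _ ⟨i, rfl⟩
        fin_cases i
        exacts [h1.1, h2.1]
      · rw [finrank_span_eq_card hli, Fintype.card_fin]; exact (h.finrank_span hF).2.symm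
    rw [← hP] at hp
    obtain ⟨a, rfl⟩ := (Submodule.mem_span_range_iff_exists_fun F).1 hp
    have hM0 : Mem (0 : Fin n → F) := ⟨P.zero_mem, w0, hw0W, hw0, by rw [zero_add]; exact hrest w0 hw0W hw0 hw0i⟩
    have hb := hshift h1 (hshift h2 hM0 (a 1)) (a 0)
    simpa [Fin.sum_univ_two, add_comm] using hb
  have hdone : (∀ p ∈ P, Mem p) → e ∈ roots K := by
    intro hall
    have hfP : f ∈ P := Submodule.subset_span (by simp)
    have heP : e ∈ P := Submodule.subset_span (by simp)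
    have hu := hmove (hall f hfP) hw0W hw0 (by rw [h.2.1, hw0i, add_zero])
    have hvP : e - c • f ∈ P := P.sub_mem heP (P.smul_mem _ hfP)
    have hvn : hermForm n F q (e - c • f) (e - c • f) + hermForm n F q (-c • w0) (-c • w0) = 0 := by
      simp only [herm_sub_left, herm_sub_right _ _ _ hF, herm_smul_left, herm_smul_right, h.1, h.2.1,
        h.2.2, h.symm' hF, hw0i, mul_zero, mul_one, sub_zero, zero_sub, add_zero]
      linear_combination -hc
    have hv := hmove (hall _ hvP) (W.smul_mem (-c) hw0W) (smul_ne_zero (neg_ne_zero.2 hc0) hw0) hvn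
    have h2 := roots_step hF hu hv hc
    rw [hnorm _ hvP _ (W.smul_mem (-c) hw0W) _ hfP _ hw0W, herm_sub_left, herm_smul_left,
      herm_smul_left, h.2.1, h.2.2, hw0i, mul_zero, mul_zero, sub_zero, add_zero, mul_one] at h2
    rwa [show e - c • f + -c • w0 + c • (f + w0) = e by module] at h2
  have hpl : ∀ v, v = (v - proj q e f v) + proj q e f v := fun v => (sub_add_cancel _ _).symm
  by_cases hI : ∃ p, Mem p ∧ p ≠ 0
  · obtain ⟨p, hMp, hp0⟩ := hI
    obtain ⟨hp, w, hw, hw', hmem⟩ := hMp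
    obtain ⟨v, hv, hvp⟩ : ∃ v ∈ roots K, ∀ a : F, v - proj q e f v ≠ a • p := by
      by_contra hcon
      push Not at hcon
      have hle : Submodule.span F (roots K) ≤ W ⊔ Submodule.span F {p} := Submodule.span_le.2 fun v hv => by
        obtain ⟨a, ha⟩ := hcon v hv
        rw [hpl v, ha]
        exact Submodule.add_mem _ (Submodule.mem_sup_right (Submodule.mem_span_singleton.2 ⟨a, rfl⟩))
          (Submodule.mem_sup_left (proj_mem hF h v))
      rw [hspan] at hle
      have h1 := Submodule.finrank_mono hle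
      have h2 := Submodule.finrank_add_le_finrank_add_finrank W (Submodule.span F ({p} : Set (Fin n → F)))
      rw [finrank_top, finrank_fin_fun] at h1
      rw [finrank_span_singleton hp0, hd] at h2
      omega
    have hMp' : Mem p := ⟨hp, w, hw, hw', hmem⟩
    have hv1 : v - proj q e f v ∈ P := plane_part_mem v
    set p2 := v - proj q e f v with hp2
    by_cases hvw : proj q e f v = 0
    swap
    · exact hdone (hfull hMp' (p2 := p2) ⟨hv1, _, proj_mem hF h v, hvw, by rw [← hpl v]; exact hv⟩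
        (li_of_not_mul hp0 hvp))
    rw [hvw, sub_zero] at hp2
    have hv2 : p2 ∈ roots K := hp2 ▸ hv
    have hne : hermForm n F q p2 p ≠ 0 := fun h0 => by
      have hyp : ∀ y ∈ P, hermForm n F q p2 y = 0 := by
        have hP : Submodule.span F (Set.range ![p, p2]) = P := by
          refine Submodule.eq_of_le_of_finrank_eq (Submodule.span_le.2 ?_) ?_
          · rintro _ ⟨i, rfl⟩
            fin_cases i
            exacts [hp, hv1]
          · rw [finrank_span_eq_card (li_of_not_mul hp0 hvp), Fintype.card_fin]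
            exact (h.finrank_span hF).2.symm
        intro y hy
        rw [← hP] at hy
        refine (mem_perp_span hF).2 ?_ y hy
        rintro _ ⟨i, rfl⟩
        fin_cases i
        exacts [h0, hv2.2.1]
      exact hv2.1 (h.nondeg hF p2 hv1 hyp)
    have h3 := roots_step hF hmem hv2 hc
    rw [herm_add_right _ _ _ hF, (horth p2 hv1 w hw).2, add_zero] at h3
    set μ := c * hermForm n F q p2 p
    have hμ : μ ≠ 0 := mul_ne_zero hc0 hne
    have hM3 : Mem (p2 + μ • p) := ⟨P.add_mem hv1 (P.smul_mem _ hp), μ • w, W.smul_mem _ hw,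
      smul_ne_zero hμ hw', by rwa [show p2 + μ • p + μ • w = p2 + μ • (p + w) by module]⟩
    refine hdone (hfull hMp' hM3 (li_of_not_mul hp0 fun a ha => hvp (a - μ) ?_))
    rw [sub_smul, ← ha, add_sub_cancel_right]
  push Not at hI
  have hpure : ∀ v ∈ roots K, v - proj q e f v ≠ 0 → proj q e f v = 0 := fun v hv hne => by
    by_contra hw
    exact hne (hI _ ⟨plane_part_mem v, _, proj_mem hF h v, hw, by rw [← hpl v]; exact hv⟩)
  have hex : ∀ L : Submodule F (Fin n → F), L ≤ P → finrank F L ≤ 1 →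
      ∃ v ∈ roots K, v ∈ P ∧ v ∉ L := by
    intro L hL hL1
    by_contra hcon
    push Not at hcon
    have hle : Submodule.span F (roots K) ≤ W ⊔ L := Submodule.span_le.2 fun v hv => by
      by_cases h0 : v - proj q e f v = 0
      · rw [sub_eq_zero] at h0
        rw [h0]; exact Submodule.mem_sup_left (proj_mem hF h v)
      · have hv' := plane_part_mem (q := q) (e := e) (f := f) v
        rw [hpure v hv h0, sub_zero] at hv'
        exact Submodule.mem_sup_right (hcon v hv hv')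
    rw [hspan] at hle
    have h1 := Submodule.finrank_mono hle
    have h2 := Submodule.finrank_add_le_finrank_add_finrank W L
    rw [finrank_top, finrank_fin_fun] at h1
    rw [hd] at h2
    omega
  obtain ⟨p2, hp2, hp2P, -⟩ := hex ⊥ bot_le (by rw [finrank_bot]; omega)
  obtain ⟨p3, hp3, hp3P, hp3n⟩ := hex (Submodule.span F {p2})
    ((Submodule.span_singleton_le_iff_mem _ _).2 hp2P) (by rw [finrank_span_singleton hp2.1])
  have hli : LinearIndependent F ![p2, p3] := li_of_not_mul hp2.1 fun a ha =>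
    hp3n (Submodule.mem_span_singleton.2 ⟨a, ha.symm⟩)
  have hP : Submodule.span F (Set.range ![p2, p3]) = P := by
    refine Submodule.eq_of_le_of_finrank_eq (Submodule.span_le.2 ?_) ?_
    · rintro _ ⟨i, rfl⟩
      fin_cases i
      exacts [hp2P, hp3P]
    · rw [finrank_span_eq_card hli, Fintype.card_fin]; exact (h.finrank_span hF).2.symm
  have h23 : hermForm n F q p3 p2 ≠ 0 := fun h0 => hp2.1 (h.nondeg hF p2 hp2P fun y hy => by
    change y ∈ P at hy
    rw [← hP] at hy
    refine (mem_perp_span hF).2 ?_ y hy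
    rintro _ ⟨i, rfl⟩
    fin_cases i
    exacts [hp2.2.1, herm_eq_zero_symm hF h0])
  have heP : e ∈ P := Submodule.subset_span (by simp)
  rw [← hP] at heP
  obtain ⟨a, ha⟩ := (Submodule.mem_span_range_iff_exists_fun F).1 heP
  simp only [Fin.sum_univ_two, Matrix.cons_val_zero, Matrix.cons_val_one] at ha
  by_cases hb : a 1 = 0
  · rw [hb, zero_smul, add_zero] at ha
    rw [← ha]
    exact roots_smul hp2 fun h0 => ne_zero_of_hyp h (by rw [← ha, h0, zero_smul])
  · set lam := a 0 / a 1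
    have hiso : hermForm n F q (lam • p2 + p3) (lam • p2 + p3) = 0 := by
      have : lam • p2 + p3 = (a 1)⁻¹ • e := by
        rw [← ha, smul_add, smul_smul, smul_smul, inv_mul_cancel₀ hb, one_smul,
          mul_comm, ← div_eq_mul_inv]
      rw [this, herm_smul_left, herm_smul_right, h.1, mul_zero, mul_zero]
    simp only [herm_add_left, herm_add_right _ _ _ hF, herm_smul_left, herm_smul_right, hp2.2.1,
      hp3.2.1, mul_zero, add_zero, zero_add] at hiso
    set c' := lam / hermForm n F q p3 p2 with hc'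
    have hc'' : c' + c' ^ q = 0 := by
      have h32 : hermForm n F q p2 p3 ≠ 0 := fun h0 => h23 (herm_eq_zero_symm hF h0)
      rw [hc', div_pow, herm_conj p3 p2 hF, div_add_div _ _ h23 h32, div_eq_zero_iff]
      left
      linear_combination hiso
    have h4 := roots_smul (roots_step hF hp2 hp3 hc'') hb
    rwa [hc', div_mul_cancel₀ _ h23, smul_add, smul_smul, mul_div_cancel₀ _ hb, add_comm, ha] at h4

/-! ### The subgroup stabilises a plane or a line -/

theorem index_ge_of_LS (hF : Fintype.card F = q ^ 2) (hn : 5 ≤ n)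
    (h : Hyp q e f) {K : Subgroup (SU n F q)} (hK : ¬ RS e ≤ K)
    (hA : ∀ a ∈ restPart hF h K, a = 0) (hLS : LS (q := q) e f ≤ K) :
    countNull F q n - 1 ≤ K.index * (q ^ 2 - 1) ∨ countUnit F q n ≤ (q + 1) * K.index := by
  have h1q := one_lt_q hF
  classical
  set W := rest q e f
  set P := Submodule.span F ({e, f} : Set (Fin n → F))
  set U := Submodule.span F (roots K)
  have hUinv : ∀ X ∈ K, ∀ u ∈ U, X.1.1 *ᵥ u ∈ U := by
    intro X hX u hu
    have : U.map (Matrix.mulVecLin X.1.1) ≤ U := by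
      rw [Submodule.map_span]
      exact Submodule.span_le.2 (Set.image_subset_iff.2 fun v hv =>
        Submodule.subset_span (roots_map hX hv))
    exact this ⟨u, hu, rfl⟩
  have hUtop : U ≠ ⊤ := fun htop => hK (mem_roots_of_span hF hn h hLS htop).2.2
  have hWU : W ≤ U := by
    have hd : finrank F W = n - 2 := by have := finrank_rest hF h; show finrank F (rest q e f) = _; omega
    have hW : Nondeg q W := nondeg_rest hF h
    have hin : ∀ w ∈ W, hermForm n F q w w = 0 → w ∈ U := fun w hw hi => by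
      by_cases hw0 : w = 0
      · rw [hw0]; exact U.zero_mem
      · exact Submodule.subset_span
          ⟨hw0, hi, fun T hT => hLS ⟨hT e (rest_swap_herm hF hw).1, hT f (rest_swap_herm hF hw).2⟩⟩
    obtain ⟨a, ha, ha0, hai⟩ : ∃ w ∈ W, w ≠ 0 ∧ hermForm n F q w w = 0 := by
      have := vmin_le_card hF hW (c := 0) (by omega) (zero_pow_q hF)
      have hpos := vmin_pos hF (m := finrank F W) (by omega)
      obtain ⟨⟨w, hw⟩⟩ := (Nat.card_pos_iff.1 (lt_of_lt_of_le hpos this)).1
      exact ⟨w, hw⟩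
    have hstep : ∀ x ∈ W, hermForm n F q a x ≠ 0 → x ∈ U := fun x hx hne => by
      obtain ⟨t, ht⟩ := exists_isotropic_shift hF hai hne
      have := U.sub_mem (hin _ (W.add_mem hx (W.smul_mem t ha)) ht) (U.smul_mem t (hin a ha hai))
      rwa [add_sub_cancel_right] at this
    obtain ⟨b, hb, hab⟩ : ∃ b ∈ W, hermForm n F q a b ≠ 0 := by
      by_contra hcon
      push Not at hcon
      exact ha0 (hW a ha hcon)
    intro x hx
    by_cases hax : hermForm n F q a x = 0
    · have := U.sub_mem (hstep (x + b) (W.add_mem hx hb)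
        (by rw [herm_add_right _ _ _ hF, hax, zero_add]; exact hab)) (hstep b hb hab)
      rwa [add_sub_cancel_right] at this
    · exact hstep x hx hax
  set L := perp q U
  have hLP : L ≤ P := by
    rw [← perp_perp hF P]
    exact fun x hx w hw => hx w (hWU hw)
  have hLinv : ∀ X ∈ K, ∀ x ∈ L, X.1.1 *ᵥ x ∈ L := fun X hX x hx u hu => by
    rw [← SU_mulVec_inv X u, SU_herm]
    exact hx _ (hUinv _ (K.inv_mem hX) u hu)
  have hLd : 1 ≤ finrank F L := by
    have h1 := finrank_perp hF U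
    have h2 : finrank F U < n := by
      have := Submodule.finrank_lt hUtop
      rwa [finrank_fin_fun] at this
    show 1 ≤ finrank F (perp q U)
    omega
  have hLd2 : finrank F L ≤ 2 := le_trans (Submodule.finrank_mono hLP) (h.finrank_span hF).2.le
  rcases Nat.lt_or_ge (finrank F L) 2 with hL1 | hL2
  · -- a line
    obtain ⟨p, hpL, hp0⟩ := Submodule.exists_mem_ne_zero_of_ne_bot
      (show L ≠ ⊥ from fun hb => by rw [hb, finrank_bot] at hLd; omega)
    have hLp : L = Submodule.span F {p} := (Submodule.eq_of_le_of_finrank_eq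
      ((Submodule.span_singleton_le_iff_mem _ _).2 hpL)
      (by rw [finrank_span_singleton hp0]; omega)).symm
    have hline : ∀ X ∈ K, ∃ t : F, X.1.1 *ᵥ p = t • p := fun X hX => by
      have := hLinv X hX p hpL
      rw [hLp] at this
      obtain ⟨t, ht⟩ := Submodule.mem_span_singleton.1 this
      exact ⟨t, ht.symm⟩
    by_cases hiso : hermForm n F q p p = 0
    · left
      obtain ⟨p', hp'⟩ := exists_hyp hF hp0 hiso
      rw [← index_NS_mul hF (by omega) hp']
      refine Nat.mul_le_mul_right _ (Nat.le_of_dvd ?_ (Subgroup.index_dvd_of_le fun X hX => ?_))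
      · exact Nat.pos_of_ne_zero Subgroup.index_ne_zero_of_finite
      obtain ⟨t, ht⟩ := hline X hX
      refine ⟨t, fun h0 => hp0 ?_, ht⟩
      rw [← SU_inv_mulVec X p, ht, h0, zero_smul, Matrix.mulVec_zero]
    · right
      obtain ⟨s, hs⟩ := norm_surj hF (y := (hermForm n F q p p)⁻¹) (by
        rw [inv_pow, herm_self_fixed p hF])
      have hu : hermForm n F q (s • p) (s • p) = 1 := by
        rw [herm_smul_left, herm_smul_right, ← mul_assoc, hs, inv_mul_cancel₀ hiso]
      set u := s • p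
      have hu0 : u ≠ 0 := fun h0 => by simp [h0, herm_zero_left] at hu
      have hq1 : (PS (q := q) u).relIndex K ≤ q + 1 := by
        have hex : ∀ k : K, ∃ t : F, t * t ^ q = 1 ∧ k.1.1.1 *ᵥ u = t • u := fun k => by
          obtain ⟨t, ht⟩ := hline k.1 k.2
          have htu : k.1.1.1 *ᵥ u = t • u := by rw [Matrix.mulVec_smul, ht, smul_comm]
          refine ⟨t, ?_, htu⟩
          have h1 := SU_herm k.1 u u
          rw [htu, herm_smul_left, herm_smul_right, hu, mul_one] at h1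
          exact h1
        choose t ht1 ht2 using hex
        rw [← card_norm_one hF, Subgroup.relIndex, Subgroup.index]
        refine Nat.card_le_card_of_injective (fun x => ⟨t (Quotient.out x), by rw [pow_succ']; exact ht1 _⟩) fun x y hxy => ?_
        have h1 : t (Quotient.out x) = t (Quotient.out y) := congrArg Subtype.val hxy
        rw [← Quotient.out_eq x, ← Quotient.out_eq y]
        refine QuotientGroup.eq.2 ?_
        show ((Quotient.out x).1⁻¹ * (Quotient.out y).1).1.1 *ᵥ u = u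
        rw [SU_mul_mulVec, ht2 (Quotient.out y), ← h1, ← ht2 (Quotient.out x), SU_inv_mulVec]
      exact (countUnit_le_index_PS hF (by omega) hu).trans
          ((index_le_relIndex_mul K (PS u)).trans (Nat.mul_le_mul_right _ hq1))
  · -- the plane
    left
    have hLP' : L = P := Submodule.eq_of_le_of_finrank_eq hLP
      (by rw [(h.finrank_span hF).2]; omega)
    have hke : ∀ k : K, ∃ a : Fin 2 → F, k.1.1.1 *ᵥ e = a 0 • e + a 1 • f := fun k => by
      have := hLinv k.1 k.2 e (hLP' ▸ Submodule.subset_span (by simp))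
      rw [hLP'] at this
      obtain ⟨a, b, hab⟩ := Submodule.mem_span_pair.1 this
      exact ⟨![a, b], by simpa using hab.symm⟩
    choose a ha using hke
    have horb : (NS (q := q) e).relIndex K ≤ q ^ 2 + 1 := by
      have hopt : Nat.card (Option F) = q ^ 2 + 1 := by
        rw [Finite.card_option, Nat.card_eq_fintype_card, hF]
      rw [← hopt, Subgroup.relIndex, Subgroup.index]
      refine Nat.card_le_card_of_injective
        (fun x => if a (Quotient.out x) 1 = 0 then none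
          else some (a (Quotient.out x) 0 / a (Quotient.out x) 1)) fun x y hxy => ?_
      rw [← Quotient.out_eq x, ← Quotient.out_eq y]
      set g := Quotient.out x
      set g' := Quotient.out y
      refine QuotientGroup.eq.2 ?_
      obtain ⟨t, ht0, ht⟩ : ∃ t : F, t ≠ 0 ∧ g'.1.1.1 *ᵥ e = t • (g.1.1.1 *ᵥ e) := by
        have hge : g.1.1.1 *ᵥ e ≠ 0 := fun h0 => ne_zero_of_hyp h (by
          rw [← SU_inv_mulVec g.1 e, h0, Matrix.mulVec_zero])
        have hge' : g'.1.1.1 *ᵥ e ≠ 0 := fun h0 => ne_zero_of_hyp h (by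
          rw [← SU_inv_mulVec g'.1 e, h0, Matrix.mulVec_zero])
        simp only at hxy
        split_ifs at hxy with h1 h2 h2
        · have ha0 : a g 0 ≠ 0 := fun h0 => hge (by rw [ha g, h0, h1, zero_smul, zero_smul, add_zero])
          have ha0' : a g' 0 ≠ 0 := fun h0 => hge' (by rw [ha g', h0, h2, zero_smul, zero_smul, add_zero])
          refine ⟨a g' 0 / a g 0, div_ne_zero ha0' ha0, ?_⟩
          rw [ha g, ha g', h1, h2]
          simp [smul_smul, div_mul_cancel₀ _ ha0]
        · refine ⟨a g' 1 / a g 1, div_ne_zero h2 h1, ?_⟩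
          rw [ha g, ha g', smul_add, smul_smul, smul_smul, div_mul_cancel₀ _ h1]
          have := Option.some.inj hxy
          rw [div_eq_div_iff h1 h2] at this
          congr 2
          rw [div_mul_eq_mul_div, eq_div_iff h1]
          linear_combination -this
      refine ⟨t, ht0, ?_⟩
      show (g.1⁻¹ * g'.1).1.1 *ᵥ e = t • e
      rw [SU_mul_mulVec, ht, Matrix.mulVec_smul, SU_inv_mulVec]
    have hrel : 2 * q ^ (2 * (n - 2)) ≤ K.relIndex (NS e) := by
      haveI : ∀ H L : Subgroup (SU n F q), H.IsFiniteRelIndex L :=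
        fun H L => Subgroup.isFiniteRelIndex_of_finiteIndex
      refine le_trans ?_ (Subgroup.relIndex_le_of_le_right (QS_le_NS e) Subgroup.relIndex_ne_zero)
      have h1 := relIndex_QS_mul hF h K
      have hA1 : Nat.card (restPart hF h K) = 1 := by
        have : Subsingleton (restPart hF h K) :=
          ⟨fun u v => Subtype.ext ((hA _ u.2).trans (hA _ v.2).symm)⟩
        exact Nat.card_of_subsingleton (0 : restPart hF h K)
      rw [hA1, one_mul] at h1
      refine Nat.le_of_mul_le_mul_right ?_ (Nat.card_pos (α := tvPart hF h K))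
      calc 2 * q ^ (2 * (n - 2)) * Nat.card (tvPart hF h K)
          = q ^ (2 * (n - 2)) * (2 * Nat.card (tvPart hF h K)) := by ring
        _ ≤ q ^ (2 * (n - 2)) * q := Nat.mul_le_mul_left _ (two_mul_card_tvPart hF h hK)
        _ = _ := h1.symm
    have hkey : K.relIndex (NS e) * (NS (q := q) e).index = (NS (q := q) e).relIndex K * K.index := by
      rw [← Subgroup.inf_relIndex_right K (NS e),
        Subgroup.relIndex_mul_index (inf_le_right : K ⊓ NS e ≤ NS e),
        ← Subgroup.inf_relIndex_left K (NS e),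
        Subgroup.relIndex_mul_index (inf_le_left : K ⊓ NS e ≤ K)]
    rw [← index_NS_mul hF (by omega) h]
    refine Nat.mul_le_mul_right _ (Nat.le_of_mul_le_mul_left ?_ (show 0 < q ^ 2 + 1 by omega))
    calc (q ^ 2 + 1) * (NS (q := q) e).index ≤ K.relIndex (NS e) * (NS (q := q) e).index := by
          refine Nat.mul_le_mul_right _ (le_trans ?_ hrel)
          have h2 : q ^ 2 ≤ q ^ (2 * (n - 2)) := Nat.pow_le_pow_right (by omega) (by omega)
          have h3 : 1 ≤ q ^ 2 := Nat.one_le_pow _ _ (by omega)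
          omega
      _ = (NS (q := q) e).relIndex K * K.index := hkey
      _ ≤ (q ^ 2 + 1) * K.index := Nat.mul_le_mul_right _ horb

theorem countNull_le_countUnit_mul (hF : Fintype.card F = q ^ 2) (hn : 2 ≤ n)
    (hpar : Odd n ∨ 3 ≤ q) : countNull F q n - 1 ≤ countUnit F q n * (q - 1) := by
  obtain ⟨m, rfl⟩ : ∃ m, n = m + 1 := ⟨n - 1, by omega⟩
  have h1q := one_lt_q hF
  rw [countNull_succ_eq hF, countUnit_succ hF, Nat.add_sub_cancel]
  split_ifs with hm
  · calc (q ^ (m + 1) + 1) * (q ^ m - 1) ≤ (q ^ (m + 1) + 1) * (q ^ m * (q - 1)) := by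
          refine Nat.mul_le_mul_left _ ((Nat.sub_le _ _).trans ?_)
          exact Nat.le_mul_of_pos_right _ (by omega)
      _ = _ := by ring
  · have hq3 : 3 ≤ q := hpar.resolve_left fun ho => by
      rw [Nat.odd_add_one, Nat.not_odd_iff_even] at ho; exact hm ho
    calc (q ^ (m + 1) - 1) * (q ^ m + 1) ≤ (q ^ (m + 1) - 1) * (q ^ m * (q - 1)) := by
          refine Nat.mul_le_mul_left _ ?_
          have : q ^ m * 2 ≤ q ^ m * (q - 1) := Nat.mul_le_mul_left _ (by omega)
          have : 1 ≤ q ^ m := Nat.one_le_pow _ _ (by omega)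
          omega
      _ = _ := by ring

/-- With `LS` inside, the index is at least the number of isotropic points, outside `q = 2`, `n` even. -/
theorem index_ge_of_LS' (hF : Fintype.card F = q ^ 2) (hn : 5 ≤ n) (hpar : Odd n ∨ 3 ≤ q)
    (h : Hyp q e f) {K : Subgroup (SU n F q)} (hK : ¬ RS e ≤ K)
    (hA : ∀ a ∈ restPart hF h K, a = 0) (hLS : LS (q := q) e f ≤ K) :
    countNull F q n - 1 ≤ K.index * (q ^ 2 - 1) := by
  rcases index_ge_of_LS hF hn h hK hA hLS with hd | hd
  · exact hd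
  · refine (countNull_le_countUnit_mul hF (by omega) hpar).trans
      ((Nat.mul_le_mul_right _ hd).trans (le_of_eq ?_))
    rw [show q ^ 2 - 1 = (q + 1) * (q - 1) by rw [← Nat.sq_sub_sq, one_pow]]
    ring

/-- A subgroup of `SU n q` missing a root group has index at least the number of isotropic points. -/
theorem index_bound (hF : Fintype.card F = q ^ 2) (hq : 3 ≤ q) (hn : 6 ≤ n) (heven : Even n)
    (h : Hyp q e f) {K : Subgroup (SU n F q)} (hK : ¬ RS e ≤ K) :
    (q ^ n - 1) * (q ^ (n - 1) + 1) ≤ K.index * (q ^ 2 - 1) := by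
  rw [← countNull_even hF (by omega) heven]
  by_cases hA : ∀ a ∈ restPart hF h K, a = 0
  · rcases index_ge_or_conj hF hq (by omega) h hK hA with hd | ⟨K', hidx, hK', hA', hLS⟩
    · exact (countNull_sub_le hF (by omega)).trans hd
    · rw [← hidx]
      exact index_ge_of_LS' hF (by omega) (Or.inr hq) h hK' hA' hLS
  · push Not at hA
    obtain ⟨a, ha, ha0⟩ := hA
    exact (countNull_sub_le hF (by omega)).trans (index_ge_of_restPart hF h hq hn heven hK ha ha0)

end Cfsg.Agent.Lib.MinIndexPSU
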