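import Mathlib
import Cfsg.Agent.Lib.MinIndexPSU.Count

/-!
Lib/MinIndexPSU/LargeRest: the nontrivial rest part for `n ≥ 7`, any `q`.
-/

set_option autoImplicit false
set_option linter.unusedSectionVars false

namespace Cfsg.Agent.Lib.MinIndexPSU

open Matrix Module Cfsg.Agent.Lib.Unitary Cfsg.Agent.Lib.AutPSU

variable {F : Type*} [Field F] [Fintype F] {q : ℕ} {n : ℕ} {e f : Fin n → F}

theorem arith_large_line {q r : ℕ} (hq : 2 ≤ q) (hr : 5 ≤ r) : q ^ 6 ≤ vmin q r * (q ^ 2 - 1) := by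
  have h1 : q ^ 5 ≤ q ^ r := Nat.pow_le_pow_right (by omega) hr
  have h2 : q ^ 4 ≤ q ^ (r - 1) := Nat.pow_le_pow_right (by omega) (by omega)
  have h3 : q * 8 ≤ q ^ 4 := by
    rw [show q ^ 4 = q * q ^ 3 by ring]
    exact Nat.mul_le_mul_left _ (le_trans (by norm_num) (Nat.pow_le_pow_left hq 3))
  have h4 : 4 ≤ q ^ 2 := by nlinarith
  calc q ^ 6 = q ^ 5 * q * 1 := by ring
    _ ≤ q ^ r * (q ^ (r - 1) - 1) * (q ^ 2 - 1) :=
        Nat.mul_le_mul (Nat.mul_le_mul h1 (by omega)) (by omega)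
    _ = _ := rfl

theorem arith_large_pair {q r : ℕ} (hq : 2 ≤ q) (hr : 5 ≤ r) :
    q ^ 2 * (q ^ r) ^ 3 ≤ vmin q r * (q ^ 2 * vmin q (r - 2)) * (q ^ 2 - 1) := by
  obtain ⟨s, rfl⟩ : ∃ s, r = s + 5 := ⟨r - 5, by omega⟩
  simp only [vmin, show s + 5 - 1 = s + 4 by omega, show s + 5 - 2 = s + 3 by omega,
    show s + 3 - 1 = s + 2 by omega]
  have key : q ^ (s + 7) ≤ (q ^ (s + 4) - 1) * (q ^ (s + 2) - 1) * (q ^ 2 - 1) := by
    have a0 : 2 ^ 4 ≤ q ^ (s + 4) :=
      (Nat.pow_le_pow_left hq 4).trans (Nat.pow_le_pow_right (by omega) (by omega))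
    have b0 : 2 ^ 2 ≤ q ^ (s + 2) :=
      (Nat.pow_le_pow_left hq 2).trans (Nat.pow_le_pow_right (by omega) (by omega))
    have c0 : 4 ≤ q ^ 2 := by nlinarith
    have a1 : 15 * q ^ (s + 4) ≤ 16 * (q ^ (s + 4) - 1) := by omega
    have b1 : 3 * q ^ (s + 2) ≤ 4 * (q ^ (s + 2) - 1) := by omega
    have c1 : 3 * q ^ 2 ≤ 4 * (q ^ 2 - 1) := by omega
    have h1 := Nat.mul_le_mul (Nat.mul_le_mul a1 b1) c1
    have h2 : 256 * q ^ (s + 7) ≤ 135 * (q ^ (s + 4) * q ^ (s + 2) * q ^ 2) := by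
      have : 2 ≤ q ^ (s + 1) := le_trans hq (Nat.le_self_pow (by omega) q)
      calc 256 * q ^ (s + 7) ≤ 135 * q ^ (s + 1) * q ^ (s + 7) := Nat.mul_le_mul_right _ (by omega)
        _ = _ := by ring
    nlinarith
  calc q ^ 2 * (q ^ (s + 5)) ^ 3 = q ^ (s + 5) * q ^ 2 * q ^ (s + 3) * q ^ (s + 7) := by ring
    _ ≤ q ^ (s + 5) * q ^ 2 * q ^ (s + 3) *
        ((q ^ (s + 4) - 1) * (q ^ (s + 2) - 1) * (q ^ 2 - 1)) := Nat.mul_le_mul_left _ key
    _ = _ := by ring

/-- From `q ² |A| ≤ (q ² - 1) X` to the bound. -/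
theorem bound_of_orbit {q n d X a : ℕ} (hn : 2 ≤ n) (ha : 0 < a)
    (hmain : q ^ (2 * (n - 2)) * q * X ≤ d * a) (hX : q ^ 2 * a ≤ X * (q ^ 2 - 1)) :
    q ^ (2 * n - 1) ≤ d * (q ^ 2 - 1) := by
  refine Nat.le_of_mul_le_mul_right ?_ ha
  calc q ^ (2 * n - 1) * a = q ^ (2 * (n - 2)) * q * (q ^ 2 * a) := by
        rw [show 2 * n - 1 = 2 * (n - 2) + 1 + 2 by omega]; ring
    _ ≤ q ^ (2 * (n - 2)) * q * (X * (q ^ 2 - 1)) := Nat.mul_le_mul_left _ hX
    _ = q ^ (2 * (n - 2)) * q * X * (q ^ 2 - 1) := by ring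
    _ ≤ d * a * (q ^ 2 - 1) := Nat.mul_le_mul_right _ hmain
    _ = _ := by ring

theorem index_ge_of_restPart_large (hF : Fintype.card F = q ^ 2) (h : Hyp q e f) (hn : 7 ≤ n)
    {K : Subgroup (SU n F q)} (hK : ¬ RS e ≤ K) {a0 : Fin n → F} (ha0 : a0 ∈ restPart hF h K)
    (ha00 : a0 ≠ 0) : q ^ (2 * n - 1) ≤ K.index * (q ^ 2 - 1) := by
  classical
  have h1q := one_lt_q hF
  have hmain := main_ineq hF h (by omega) hK
  obtain ⟨c0, hc0, hc0B⟩ := exists_not_mem_tvPart hF h hK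
  have hAW : ∀ a ∈ restPart hF h K, a ∈ rest q e f := fun a ha => restPart_le hF h K ha
  have hcard : Nat.card (restPart hF h K) ≤ q ^ (n - 2) :=
    card_le_of_pairing hF h (restPart hF h K) hAW (tvPart hF h K)
      (fun a ha b hb => pairing_mem hF h ha hb) hc0 hc0B
  generalize restPart hF h K = A at *
  have hApos : 0 < Nat.card A := Nat.card_pos
  refine bound_of_orbit (by omega) hApos hmain ?_
  set X := (restOrbit q e f (A : Set (Fin n → F))).ncard
  by_cases hline : ∀ x ∈ A, ∀ y ∈ A, ¬ LinearIndependent F ![x, y]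
  · have hAle : Nat.card A ≤ q ^ 2 := by
      have hs := natCard_sub hF (Submodule.span F ({a0} : Set (Fin n → F)))
      rw [finrank_span_singleton ha00, mul_one] at hs
      refine le_trans (Nat.card_le_card_of_injective (fun u : A =>
        (⟨u.1, ?_⟩ : Submodule.span F ({a0} : Set (Fin n → F)))) fun u v huv => Subtype.ext ?_) hs.le
      · by_contra hun
        exact hline a0 ha0 u.1 u.2 (li_of_not_mul ha00 fun t ht =>
          hun (Submodule.mem_span_singleton.2 ⟨t, ht.symm⟩))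
      · exact congrArg (fun z : Submodule.span F ({a0} : Set (Fin n → F)) => z.1) huv
    let T : Set (Fin 1 → Fin n → F) := {v | v 0 ∈ rest q e f ∧ v 0 ≠ 0 ∧
      hermForm n F q (v 0) (v 0) = hermForm n F q a0 a0}
    have hT : vmin q (n - 2) ≤ T.ncard := by
      have hr := finrank_rest hF h
      have := vmin_le_card hF (nondeg_rest hF h) (c := hermForm n F q a0 a0) (by omega)
        (herm_self_fixed a0 hF)
      rw [show finrank F (rest q e f) = n - 2 by omega] at this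
      refine this.trans ?_
      rw [← Nat.card_coe_set_eq]
      exact Nat.card_le_card_of_injective (fun v => ⟨fun _ => v.1, v.2⟩)
        fun u v huv => Subtype.ext (congrFun (congrArg Subtype.val huv) 0)
    have hcov := card_targets_le (q := q) (e := e) (f := f) (A : Set (Fin n → F)) T fun v hv => by
      obtain ⟨l, hl, hlv⟩ := exists_LS_vec hF h (by omega) (hAW a0 ha0) hv.1 ha00 hv.2.1 hv.2.2.symm
      exact ⟨l, hl, fun i => ⟨a0, ha0, by rw [Subsingleton.elim i 0]; exact hlv⟩⟩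
    rw [pow_one] at hcov
    refine Nat.le_of_mul_le_mul_right ?_ hApos
    calc q ^ 2 * Nat.card A * Nat.card A ≤ q ^ 2 * q ^ 2 * q ^ 2 :=
          Nat.mul_le_mul (Nat.mul_le_mul_left _ hAle) hAle
      _ = q ^ 6 := by ring
      _ ≤ vmin q (n - 2) * (q ^ 2 - 1) := arith_large_line h1q (by omega)
      _ ≤ X * Nat.card A * (q ^ 2 - 1) := Nat.mul_le_mul_right _ (hT.trans hcov)
      _ = _ := by ring
  push Not at hline
  obtain ⟨x, hx, y, hy, hxy⟩ := hline
  have hcov := (le_card_pairs hF h (by omega) (herm_self_fixed x hF) (herm_self_fixed y hF)).trans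
    (card_targets_le (q := q) (e := e) (f := f) (A : Set (Fin n → F)) _
      (pairs_cover hF h (by omega) hAW hx hy hxy rfl rfl rfl (Or.inl (by omega))))
  refine Nat.le_of_mul_le_mul_right ?_ (pow_pos hApos 2)
  calc q ^ 2 * Nat.card A * Nat.card A ^ 2 = q ^ 2 * Nat.card A ^ 3 := by ring
    _ ≤ q ^ 2 * (q ^ (n - 2)) ^ 3 := Nat.mul_le_mul_left _ (Nat.pow_le_pow_left hcard 3)
    _ ≤ vmin q (n - 2) * (q ^ 2 * vmin q (n - 2 - 2)) * (q ^ 2 - 1) :=
        arith_large_pair h1q (by omega)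
    _ ≤ X * Nat.card A ^ 2 * (q ^ 2 - 1) := by
        rw [show n - 2 - 2 = n - 4 by omega]
        exact Nat.mul_le_mul_right _ hcov
    _ = _ := by ring

end Cfsg.Agent.Lib.MinIndexPSU
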