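import Mathlib
import Cfsg.Agent.Lib.MinIndexPSU.LargeRest

/-!
Lib/MinIndexPSU/FiveRest: the nontrivial rest part for `n = 5`.
-/

set_option autoImplicit false
set_option linter.unusedSectionVars false

namespace Cfsg.Agent.Lib.MinIndexPSU

open Matrix Module Cfsg.Agent.Lib.Unitary Cfsg.Agent.Lib.AutPSU

variable {F : Type*} [Field F] [Fintype F] {q : ℕ} {n : ℕ} {e f : Fin n → F}

/-- A nondegenerate `W` has at least `countUnit` vectors of each nonzero norm. -/
theorem countUnit_le_card (hF : Fintype.card F = q ^ 2) {W : Submodule F (Fin n → F)} (hW : Nondeg q W)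
    {c : F} (hc : c ^ q = c) (hc0 : c ≠ 0) :
    countUnit F q (finrank F W) ≤ Nat.card {v : Fin n → F // v ∈ W ∧ hermForm n F q v v = c} := by
  classical
  set m := finrank F W with hmdef
  obtain ⟨g, hg, hgW, -⟩ := exists_orthonormal_of_nondeg hF m W hmdef.symm hW
  obtain ⟨a, ha⟩ := norm_surj hF hc
  have ha0 : a ≠ 0 := fun h => hc0 (by rw [← ha, h, zero_mul])
  rw [countUnit]
  refine Nat.card_le_card_of_injective (fun x => ⟨a • ∑ i, x.1 i • g i,
    W.smul_mem _ (W.sum_mem fun i _ => W.smul_mem _ (hgW i)), ?_⟩) ?_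
  · rw [herm_smul_left, herm_smul_right, herm_sum_sum hF]
    simp only [hg _ _, mul_ite, mul_one, mul_zero, Finset.sum_ite_eq, Finset.mem_univ, if_true]
    rw [show (∑ i, x.1 i * x.1 i ^ q) = 1 from x.2, mul_one, ha]
  · intro x y hxy
    refine Subtype.ext (funext fun j => ?_)
    have h1 : (∑ i, x.1 i • g i) = ∑ i, y.1 i • g i :=
      smul_right_injective _ ha0 (congrArg Subtype.val hxy)
    rw [← orthonormal_coeff hg x.1 j, h1, orthonormal_coeff hg]

/-- Covering, counting only the tuples of `A` with the invariant property. -/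
theorem card_targets_le' {k : ℕ} (A : Set (Fin n → F)) (P : (Fin k → Fin n → F) → Prop)
    (hP : ∀ l ∈ LS (q := q) e f, ∀ s, P (fun i => l.1.1 *ᵥ s i) → P s)
    (T : Set (Fin k → Fin n → F)) (hTP : ∀ v ∈ T, P v)
    (hcov : ∀ v ∈ T, ∃ l ∈ LS (q := q) e f, ∀ i, ∃ a ∈ A, l.1.1 *ᵥ a = v i) :
    T.ncard ≤ (restOrbit q e f A).ncard * {s : Fin k → Fin n → F | (∀ i, s i ∈ A) ∧ P s}.ncard := by
  classical
  choose l hl a ha hla using fun v : T => hcov v.1 v.2
  let ι : T → restOrbit q e f A := fun v =>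
    ⟨(fun w => (l v).1.1 *ᵥ w) '' A, ⟨⟨l v, hl v⟩, rfl⟩⟩
  let rep : restOrbit q e f A → LS (q := q) e f := fun S => S.2.choose
  have hrep : ∀ S : restOrbit q e f A, (fun w => (rep S).1.1.1 *ᵥ w) '' A = S.1 := fun S =>
    S.2.choose_spec
  have hmem : ∀ (v : T) (i : Fin k), ∃ b ∈ A, (rep (ι v)).1.1.1 *ᵥ b = v.1 i := fun v i => by
    have : v.1 i ∈ (ι v).1 := ⟨a v i, ha v i, hla v i⟩
    rw [← hrep] at this
    exact this
  choose b hb hvb using hmem
  have hbP : ∀ v : T, (fun i => b v i) ∈ {s : Fin k → Fin n → F | (∀ i, s i ∈ A) ∧ P s} := fun v =>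
    ⟨hb v, hP _ (rep (ι v)).2 _ (by simp only [hvb v]; exact hTP v.1 v.2)⟩
  rw [← Nat.card_coe_set_eq, ← Nat.card_coe_set_eq, ← Nat.card_coe_set_eq, ← Nat.card_prod]
  refine Nat.card_le_card_of_injective (fun v => (ι v, (⟨fun i => b v i, hbP v⟩ :
    {s : Fin k → Fin n → F | (∀ i, s i ∈ A) ∧ P s}))) ?_
  intro v w hvw
  obtain ⟨h1, h2⟩ := Prod.mk.inj hvw
  refine Subtype.ext (funext fun i => ?_)
  have h3 : b v i = b w i := congrFun (congrArg Subtype.val h2) i
  rw [← hvb v i, ← hvb w i, h1, h3]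

/-- Each nonzero norm occurs on at most three quarters of `A`, on half of it if `h` is symmetric in
characteristic two. -/
theorem card_class_le (hF : Fintype.card F = q ^ 2) (A : AddSubgroup (Fin n → F)) {a : F} (ha : a ≠ 0) :
    4 * {u | u ∈ A ∧ hermForm n F q u u = a}.ncard ≤ 3 * Nat.card A ∧
      ((∀ u ∈ A, ∀ v ∈ A, hermForm n F q u v + hermForm n F q v u = 0) →
        2 * {u | u ∈ A ∧ hermForm n F q u u = a}.ncard ≤ Nat.card A) := by
  classical
  set S := {u | u ∈ A ∧ hermForm n F q u u = a}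
  rcases Set.eq_empty_or_nonempty S with h0 | ⟨x, hxA, hxa⟩
  · rw [h0, Set.ncard_empty]
    simp
  set S2 := {u | u ∈ S ∧ u + x ∈ S}
  have hA : ((A : Set (Fin n → F))).ncard = Nat.card A := (Nat.card_coe_set_eq _).symm
  have h1 : 2 * S.ncard ≤ Nat.card A + S2.ncard := by
    have hsub : S2 ⊆ S := fun u hu => hu.1
    have hd : (S \ S2).ncard ≤ ((A : Set (Fin n → F)) \ S).ncard := by
      refine Set.ncard_le_ncard_of_injOn (fun u => u + x) (fun u hu => ?_)
        (fun u _ v _ huv => add_right_cancel huv)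
      exact ⟨A.add_mem hu.1.1 hxA, fun hS => hu.2 ⟨hu.1, hS⟩⟩
    rw [Set.ncard_diff hsub, Set.ncard_diff (show S ⊆ (A : Set (Fin n → F)) from fun u hu => hu.1), hA] at hd
    have := Set.ncard_le_ncard hsub
    have h3 : S.ncard ≤ (A : Set (Fin n → F)).ncard :=
      Set.ncard_le_ncard fun u (hu : u ∈ S) => hu.1
    omega
  let φ : (Fin n → F) → F := fun u => hermForm n F q u x + hermForm n F q x u
  have hval : ∀ u ∈ S2, φ u = -a := fun u hu => by
    have h2 := hu.2.2
    rw [herm_add_left, herm_add_right _ _ _ hF, herm_add_right _ _ _ hF, hu.1.2, hxa] at h2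
    show hermForm n F q u x + hermForm n F q x u = -a
    linear_combination h2
  have hφ : ∀ u v, φ (u + v) = φ u + φ v := fun u v => by
    simp only [φ, herm_add_left, herm_add_right _ _ _ hF]; ring
  have hφsub : ∀ u v, φ (u - v) = φ u - φ v := fun u v => by
    have := hφ (u - v) v
    rw [sub_add_cancel] at this
    linear_combination -this
  refine ⟨?_, fun hsym => ?_⟩
  · rcases Set.eq_empty_or_nonempty S2 with h2 | ⟨u0, hu0⟩
    · rw [h2, Set.ncard_empty] at h1; omega
    let Kφ : Set (Fin n → F) := {u | u ∈ A ∧ φ u = 0}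
    have h2 : S2.ncard ≤ Kφ.ncard := by
      refine Set.ncard_le_ncard_of_injOn (fun u => u - u0) (fun u hu => ?_)
        (fun u _ v _ huv => sub_left_injective huv)
      exact ⟨A.sub_mem hu.1.1 hu0.1.1, by rw [hφsub, hval u hu, hval u0 hu0, sub_self]⟩
    have h3 : Kφ.ncard + Kφ.ncard ≤ Nat.card A := by
      have hinj : ((fun u => u + u0) '' Kφ).ncard = Kφ.ncard :=
        Set.ncard_image_of_injective _ (add_left_injective u0)
      have hdisj : Disjoint Kφ ((fun u => u + u0) '' Kφ) := Set.disjoint_left.2 fun u hu ⟨v, hv, hvu⟩ => by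
        have := hu.2
        rw [← hvu, hφ, hv.2, zero_add, hval u0 hu0, neg_eq_zero] at this
        exact ha this
      nth_rw 2 [← hinj]
      rw [← Set.ncard_union_eq hdisj, ← hA]
      refine Set.ncard_le_ncard (Set.union_subset (fun u hu => hu.1) ?_)
      rintro _ ⟨v, hv, rfl⟩
      exact A.add_mem hv.1 hu0.1.1
    omega
  · have h2 : S2 = ∅ := Set.eq_empty_iff_forall_notMem.2 fun u hu => ha (by
      have := hval u hu
      rw [show φ u = 0 from hsym u hu.1.1 x hxA] at this
      exact neg_eq_zero.1 this.symm)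
    rw [h2, Set.ncard_empty] at h1
    omega

/-- No two independent orthogonal isotropic vectors in a three-dimensional rest. -/
theorem mem_line_of_orth (hF : Fintype.card F = q ^ 2) (h : Hyp q e f) (hn : n = 5) {x u : Fin n → F}
    (hx : x ∈ rest q e f) (hu : u ∈ rest q e f) (hx0 : x ≠ 0) (hxx : hermForm n F q x x = 0)
    (huu : hermForm n F q u u = 0) (hux : hermForm n F q u x = 0) : ∃ t : F, u = t • x := by
  by_contra hcon
  push Not at hcon
  have hli := li_of_not_mul hx0 hcon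
  set S := Submodule.span F (Set.range ![x, u])
  set P := Submodule.span F ({e, f} : Set (Fin n → F))
  have hS : S ≤ rest q e f := Submodule.span_le.2 (by
    rintro _ ⟨i, rfl⟩
    fin_cases i
    exacts [hx, hu])
  have hdisj : S ⊓ P = ⊥ := by
    rw [eq_bot_iff]
    rintro v ⟨hvS, hvP⟩
    exact (Submodule.mem_bot F).2 (nondeg_rest hF h v (hS hvS) fun w hw =>
      herm_eq_zero_symm hF (hw v hvP))
  have hle : S ≤ perp q (S ⊔ P) := by
    refine Submodule.span_le.2 ?_
    rintro _ ⟨i, rfl⟩ w hw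
    obtain ⟨a, ha, b, hb, rfl⟩ := Submodule.mem_sup.1 hw
    have hmem : (![x, u] i) ∈ rest q e f := by fin_cases i; exacts [hx, hu]
    rw [herm_add_right _ _ _ hF, hmem b hb, add_zero]
    refine (mem_perp_span_range hF).2 (fun j => ?_) a ha
    fin_cases i <;> fin_cases j <;> simp [hxx, huu, hux, herm_eq_zero_symm hF hux]
  have h1 := Submodule.finrank_mono hle
  have h2 := finrank_perp hF (S ⊔ P)
  have h3 := Submodule.finrank_sup_add_finrank_inf_eq S P
  rw [finrank_span_eq_card hli, Fintype.card_fin] at h1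
  rw [hdisj, finrank_bot, (h.finrank_span hF).2, finrank_span_eq_card hli, Fintype.card_fin] at h3
  omega

theorem card_le_of_span_line (hF : Fintype.card F = q ^ 2) (A : AddSubgroup (Fin n → F)) {x : Fin n → F}
    (hx : x ≠ 0) (hA : ∀ u ∈ A, ∃ t : F, u = t • x) : Nat.card A ≤ q ^ 2 := by
  have hs := natCard_sub hF (Submodule.span F ({x} : Set (Fin n → F)))
  rw [finrank_span_singleton hx, mul_one] at hs
  refine le_trans (Nat.card_le_card_of_injective (fun u : A =>
    (⟨u.1, ?_⟩ : Submodule.span F ({x} : Set (Fin n → F)))) fun u v huv => Subtype.ext ?_) hs.le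
  · obtain ⟨t, ht⟩ := hA u.1 u.2
    exact Submodule.mem_span_singleton.2 ⟨t, ht.symm⟩
  · exact congrArg (fun z : Submodule.span F ({x} : Set (Fin n → F)) => z.1) huv

theorem card_le_of_isotropic (hF : Fintype.card F = q ^ 2) (h : Hyp q e f) (hn : n = 5)
    (A : AddSubgroup (Fin n → F)) (hA : ∀ a ∈ A, a ∈ rest q e f)
    (hiso : ∀ u ∈ A, hermForm n F q u u = 0) : Nat.card A ≤ q ^ 2 := by
  classical
  have htr : ∀ u ∈ A, ∀ v ∈ A, hermForm n F q u v + hermForm n F q u v ^ q = 0 := fun u hu v hv => by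
    have := hiso _ (A.add_mem hu hv)
    rw [herm_add_left, herm_add_right _ _ _ hF, herm_add_right _ _ _ hF, hiso u hu, hiso v hv,
      zero_add, add_zero] at this
    rw [herm_conj u v hF]
    exact this
  by_cases horth : ∀ u ∈ A, ∀ v ∈ A, hermForm n F q u v = 0
  · by_cases h0 : ∀ u ∈ A, u = 0
    · have : Subsingleton A := ⟨fun u v => Subtype.ext ((h0 u u.2).trans (h0 v v.2).symm)⟩
      rw [Nat.card_of_subsingleton (0 : A)]
      exact Nat.one_le_pow _ _ (by have := one_lt_q hF; omega)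
    push Not at h0
    obtain ⟨x, hx, hx0⟩ := h0
    exact card_le_of_span_line hF A hx0 fun u hu =>
      mem_line_of_orth hF h hn (hA x hx) (hA u hu) hx0 (hiso x hx) (hiso u hu) (horth u hu x hx)
  push Not at horth
  obtain ⟨x, hx, y, hy, hxy⟩ := horth
  let T := {c : F // c + c ^ q = 0}
  have hT : Nat.card (T × T) = q ^ 2 := by rw [Nat.card_prod, card_trace_zero hF, sq]
  rw [← hT]
  refine Nat.card_le_card_of_injective (fun u : A =>
    ((⟨hermForm n F q u.1 x, htr u.1 u.2 x hx⟩ : T), (⟨hermForm n F q u.1 y, htr u.1 u.2 y hy⟩ : T)))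
    fun u v huv => Subtype.ext ?_
  obtain ⟨h1, h2⟩ := Prod.mk.inj huv
  have hd := A.sub_mem u.2 v.2
  set w := u.1 - v.1 with hw
  have hwx : hermForm n F q w x = 0 := by
    rw [hw, herm_sub_left, sub_eq_zero]; exact congrArg Subtype.val h1
  have hwy : hermForm n F q w y = 0 := by
    rw [hw, herm_sub_left, sub_eq_zero]; exact congrArg Subtype.val h2
  have hx0 : x ≠ 0 := fun h0 => hxy (by rw [h0, herm_zero_left])
  obtain ⟨t, ht⟩ := mem_line_of_orth hF h hn (hA x hx) (hA w hd) hx0 (hiso x hx) (hiso w hd) hwx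
  rw [ht, herm_smul_left, mul_eq_zero] at hwy
  rw [← sub_eq_zero, ← hw, ht, hwy.resolve_right hxy, zero_smul]

theorem arith_five_small {q : ℕ} (hq : 2 ≤ q) : q ^ 3 ≤ (q ^ 2 - 1) * (q ^ 2 - 1) := by
  obtain ⟨t, rfl⟩ : ∃ t, q = t + 2 := ⟨q - 2, by omega⟩
  rw [show (t + 2) ^ 2 - 1 = t ^ 2 + 4 * t + 3 from Nat.sub_eq_of_eq_add (by ring)]
  nlinarith [sq_nonneg t, pow_nonneg (Nat.zero_le t) 3, pow_nonneg (Nat.zero_le t) 4]

theorem arith_five {q : ℕ} (hq : 3 ≤ q) :
    3 * q ^ 10 ≤ 4 * (q ^ 2 * (q ^ 3 + 1) * (q * (q ^ 2 - 1))) * (q ^ 2 - 1) := by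
  obtain ⟨t, rfl⟩ : ∃ t, q = t + 3 := ⟨q - 3, by omega⟩
  rw [show (t + 3) ^ 2 - 1 = t ^ 2 + 6 * t + 8 from Nat.sub_eq_of_eq_add (by ring)]
  have : 3 * (t + 3) ^ 7 ≤ 4 * (((t + 3) ^ 3 + 1) * (t ^ 2 + 6 * t + 8) * (t ^ 2 + 6 * t + 8)) := by
    ring_nf
    nlinarith [sq_nonneg t, pow_nonneg (Nat.zero_le t) 3, pow_nonneg (Nat.zero_le t) 4,
      pow_nonneg (Nat.zero_le t) 5, pow_nonneg (Nat.zero_le t) 6, pow_nonneg (Nat.zero_le t) 7]
  calc 3 * (t + 3) ^ 10 = (t + 3) ^ 3 * (3 * (t + 3) ^ 7) := by ring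
    _ ≤ (t + 3) ^ 3 * (4 * (((t + 3) ^ 3 + 1) * (t ^ 2 + 6 * t + 8) * (t ^ 2 + 6 * t + 8))) :=
        Nat.mul_le_mul_left _ this
    _ = _ := by ring

theorem countUnit_three (hF : Fintype.card F = q ^ 2) : countUnit F q 3 = q ^ 2 * (q ^ 3 + 1) := by
  rw [countUnit_succ hF, if_pos (by decide)]

theorem countUnit_two (hF : Fintype.card F = q ^ 2) : countUnit F q 2 = q * (q ^ 2 - 1) := by
  rw [countUnit_succ hF, if_neg (by decide), pow_one]

/-- Gram data invariant under `LS`. -/
theorem gram_invariant (l : SU n F q) (u v : Fin n → F) :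
    hermForm n F q (l.1.1 *ᵥ u) (l.1.1 *ᵥ v) = hermForm n F q u v := SU_herm l u v

/-- The count for a nondegenerate pair in `A`. -/
theorem five_pair (hF : Fintype.card F = q ^ 2) (h : Hyp q e f) (hn : n = 5)
    (A : AddSubgroup (Fin n → F)) (hA : ∀ a ∈ A, a ∈ rest q e f) {x y : Fin n → F} (hx : x ∈ A)
    (hy : y ∈ A) (ha : hermForm n F q x x ≠ 0)
    (hdet : hermForm n F q x x * hermForm n F q y y ≠
      hermForm n F q y x * hermForm n F q y x ^ q)
    (horth : ∀ s ∈ A, hermForm n F q s s ≠ 0 → Nat.card (orthPart q A s) ≤ q ^ 2) :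
    countUnit F q 3 * countUnit F q 2 ≤ (restOrbit q e f (A : Set (Fin n → F))).ncard *
      ({u | u ∈ A ∧ hermForm n F q u u = hermForm n F q x x}.ncard * q ^ 2) := by
  classical
  set a := hermForm n F q x x
  set b := hermForm n F q y x
  set c := hermForm n F q y y
  have hr := finrank_rest hF h
  have hW := nondeg_rest hF h
  have haq : a ^ q = a := herm_self_fixed x hF
  have hcq : c ^ q = c := herm_self_fixed y hF
  set d := c - b / a * ((b / a) ^ q * a) with hd
  have hdq : d ^ q = d := by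
    rw [hd, sub_pow_q hF, hcq, mul_pow, mul_pow, pow_q_q hF, haq]; ring
  have hd0 : d ≠ 0 := fun h0 => hdet (by
    rw [hd, sub_eq_zero, div_pow, haq] at h0
    rw [h0]; field_simp)
  let P : (Fin 2 → Fin n → F) → Prop := fun s => hermForm n F q (s 0) (s 0) = a ∧
    hermForm n F q (s 1) (s 0) = b ∧ hermForm n F q (s 1) (s 1) = c
  let T : Set (Fin 2 → Fin n → F) := {v | (∀ i, v i ∈ rest q e f) ∧ P v}
  have hdec : ∀ {x' y'}, hermForm n F q x' x' = a → hermForm n F q y' x' = b →
      hermForm n F q y' y' = c →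
      hermForm n F q (y' - (b / a) • x') x' = 0 ∧
        hermForm n F q (y' - (b / a) • x') (y' - (b / a) • x') = d := fun {x' y'} h1 h2 h3 => by
    have h0 : hermForm n F q (y' - (b / a) • x') x' = 0 := by
      rw [herm_sub_left, herm_smul_left, h1, h2, div_mul_cancel₀ _ ha, sub_self]
    refine ⟨h0, ?_⟩
    have h4 : hermForm n F q x' y' = b ^ q := by rw [← herm_conj y' x' hF, h2]
    rw [hd, herm_sub_left, herm_sub_right _ _ _ hF, herm_sub_right _ _ _ hF, herm_smul_left,
      herm_smul_left, herm_smul_right, herm_smul_right, h1, h2, h3, h4, div_pow, haq]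
    field_simp
    ring
  have hcov : ∀ v ∈ T, ∃ l ∈ LS (q := q) e f, ∀ i, ∃ z ∈ (A : Set (Fin n → F)), l.1.1 *ᵥ z = v i := by
    rintro v ⟨hvW, hva, hvb, hvc⟩
    have hli : ∀ {x' y'}, hermForm n F q x' x' = a → hermForm n F q y' x' = b →
        hermForm n F q y' y' = c → LinearIndependent F ![x', y'] := fun {x' y'} h1 h2 h3 => by
      refine li_of_not_mul (fun h0 => ha (by rw [← h1, h0, herm_zero_left])) fun t ht => hdet ?_
      rw [ht, herm_smul_left, h1] at h2
      rw [ht, herm_smul_left, herm_smul_right, h1] at h3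
      rw [← h2, ← h3, mul_pow, haq]; ring
    obtain ⟨G, hGe, hGf, hG⟩ := exists_GU_fix_pair hF h (b := ![x, y]) (v := ![v 0, v 1])
      (hli rfl rfl rfl) (hli hva hvb hvc)
      (fun i => by fin_cases i; exacts [hA x hx, hA y hy]) (fun i => by fin_cases i; exacts [hvW 0, hvW 1])
      (fun i j => by
        fin_cases i <;> fin_cases j
        · exact hva.symm
        · show hermForm n F q x y = hermForm n F q (v 0) (v 1)
          rw [← herm_conj y x hF, ← herm_conj (v 1) (v 0) hF, hvb]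
        · exact hvb.symm
        · exact hvc.symm)
    obtain ⟨hp0, hpd⟩ := hdec hva hvb hvc
    set π := v 1 - (b / a) • v 0
    have hv0 : v 0 ≠ 0 := fun h0 => ha (by rw [← hva, h0, herm_zero_left])
    have hπ0 : π ≠ 0 := fun h0 => hd0 (by rw [← hpd, h0, herm_zero_left])
    obtain ⟨hR1, hR1d⟩ := nondeg_inf_perp hF hW (not_isotropic_of_nondeg hF (hva ▸ ha))
      ((Submodule.span_singleton_le_iff_mem _ _).2 (hvW 0))
    rw [finrank_span_singleton hv0] at hR1d
    have hπR : π ∈ rest q e f ⊓ perp q (Submodule.span F {v 0}) :=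
      ⟨(rest q e f).sub_mem (hvW 1) ((rest q e f).smul_mem _ (hvW 0)),
        fun w hw => by
          obtain ⟨t, rfl⟩ := Submodule.mem_span_singleton.1 hw
          rw [herm_smul_right, hp0, mul_zero]⟩
    obtain ⟨hR2, hR2d⟩ := nondeg_inf_perp hF hR1 (not_isotropic_of_nondeg hF (hpd ▸ hd0))
      ((Submodule.span_singleton_le_iff_mem _ _).2 hπR)
    rw [finrank_span_singleton hπ0] at hR2d
    obtain ⟨z, hz, hz1⟩ := exists_norm_one_of_nondeg hF hR2
      (fun h0 => by rw [h0, finrank_bot] at hR2d; omega)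
    obtain ⟨l, hl, hlG⟩ := exists_LS_of_unit hF G hGe hGf hz1 hz.1.1
    have hz0 : hermForm n F q (v 0) z = 0 :=
      herm_eq_zero_symm hF (hz.1.2 _ (Submodule.mem_span_singleton_self _))
    have hzπ : hermForm n F q π z = 0 :=
      herm_eq_zero_symm hF (hz.2 _ (Submodule.mem_span_singleton_self _))
    have hz1' : hermForm n F q (v 1) z = 0 := by
      rw [herm_sub_left, herm_smul_left, hz0, mul_zero, sub_zero] at hzπ
      exact hzπ
    have h0' : G.1.1 *ᵥ x = v 0 := by simpa using hG 0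
    have h1' : G.1.1 *ᵥ y = v 1 := by simpa using hG 1
    refine ⟨l, hl, fun i => ?_⟩
    fin_cases i
    · exact ⟨x, hx, by rw [hlG x (by rw [h0']; exact hz0), h0']; rfl⟩
    · exact ⟨y, hy, by rw [hlG y (by rw [h1']; exact hz1'), h1']; rfl⟩
  have hTcard : countUnit F q 3 * countUnit F q 2 ≤ T.ncard := by
    have hX := countUnit_le_card hF hW haq ha
    rw [show finrank F (rest q e f) = 3 by omega] at hX
    have hY : ∀ x' : {v : Fin n → F // v ∈ rest q e f ∧ hermForm n F q v v = a},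
        countUnit F q 2 ≤ Nat.card {z : Fin n → F //
          z ∈ rest q e f ⊓ perp q (Submodule.span F {x'.1}) ∧ hermForm n F q z z = d} := fun x' => by
      have hx0 : x'.1 ≠ 0 := fun h0 => ha (by rw [← x'.2.2, h0, herm_zero_left])
      obtain ⟨hR, hRd⟩ := nondeg_inf_perp hF hW (not_isotropic_of_nondeg hF (by rw [x'.2.2]; exact ha))
        ((Submodule.span_singleton_le_iff_mem _ _).2 x'.2.1)
      rw [finrank_span_singleton hx0] at hRd
      have := countUnit_le_card hF hR hdq hd0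
      rwa [show finrank F (rest q e f ⊓ perp q (Submodule.span F {x'.1}) : Submodule F (Fin n → F)) = 2
        by omega] at this
    refine le_trans (Nat.mul_le_mul_right _ hX) (le_trans (le_of_eq ?_)
      (le_trans (Finset.sum_le_sum fun x' (_ : x' ∈ Finset.univ) => hY x') ?_))
    · rw [Finset.sum_const, Finset.card_univ, smul_eq_mul, Nat.card_eq_fintype_card]
    · rw [← Nat.card_sigma, ← Nat.card_coe_set_eq]
      refine Nat.card_le_card_of_injective (fun p =>
        ⟨![p.1.1, (b / a) • p.1.1 + p.2.1], fun i => ?_, p.1.2.2, ?_, ?_⟩) ?_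
      · fin_cases i
        · exact p.1.2.1
        · exact (rest q e f).add_mem ((rest q e f).smul_mem _ p.1.2.1) p.2.2.1.1
      · show hermForm n F q ((b / a) • p.1.1 + p.2.1) p.1.1 = b
        rw [herm_add_left, herm_smul_left, p.1.2.2,
          p.2.2.1.2 _ (Submodule.mem_span_singleton_self _), add_zero, div_mul_cancel₀ _ ha]
      · show hermForm n F q ((b / a) • p.1.1 + p.2.1) ((b / a) • p.1.1 + p.2.1) = c
        have h1 : hermForm n F q p.2.1 p.1.1 = 0 := p.2.2.1.2 _ (Submodule.mem_span_singleton_self _)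
        simp only [herm_add_left, herm_add_right _ _ _ hF, herm_smul_left, herm_smul_right, h1,
          herm_eq_zero_symm hF h1, p.1.2.2, p.2.2.2, mul_zero, add_zero, zero_add, d]
        ring
      · rintro ⟨x', z⟩ ⟨x'', z'⟩ hxz
        have h1 := congrArg Subtype.val hxz
        obtain rfl : x' = x'' := Subtype.ext (congrFun h1 0)
        exact Sigma.subtype_ext rfl (add_left_cancel (congrFun h1 1))
  refine hTcard.trans ((card_targets_le' (A : Set (Fin n → F)) P (fun l _ s hs => ?_) T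
    (fun v hv => hv.2) hcov).trans (Nat.mul_le_mul_left _ ?_))
  · simp only [P, gram_invariant] at hs
    exact hs
  · set S := {s : Fin 2 → Fin n → F | (∀ i, s i ∈ (A : Set (Fin n → F))) ∧ P s}
    set Sa := {u | u ∈ A ∧ hermForm n F q u u = a}
    rw [← Nat.card_coe_set_eq S, ← Nat.card_coe_set_eq Sa]
    let pr : S → Sa := fun s => ⟨s.1 0, s.2.1 0, s.2.2.1⟩
    rw [Nat.card_congr (Equiv.sigmaFiberEquiv pr).symm, Nat.card_sigma,
      Nat.card_eq_fintype_card (α := Sa), ← Finset.card_univ, ← smul_eq_mul]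
    refine Finset.sum_le_card_nsmul _ _ _ fun x' _ => ?_
    refine le_trans ?_ (horth x'.1 x'.2.1 (x'.2.2 ▸ ha))
    by_cases hne : Nonempty {s // pr s = x'}
    · obtain ⟨s0⟩ := hne
      have hfst : ∀ s : {s // pr s = x'}, s.1.1 0 = x'.1 := fun s => congrArg Subtype.val s.2
      refine Nat.card_le_card_of_injective (fun s => (⟨s.1.1 1 - s0.1.1 1,
        A.sub_mem (s.1.2.1 1) (s0.1.2.1 1), ?_⟩ : orthPart q A x'.1)) ?_
      · have e1 := s.1.2.2.2.1
        have e2 := s0.1.2.2.2.1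
        rw [hfst] at e1 e2
        rw [herm_sub_left, e1, e2, sub_self]
      · intro s t hst
        refine Subtype.ext (Subtype.ext (funext fun i => ?_))
        fin_cases i
        · exact (hfst s).trans (hfst t).symm
        · exact sub_left_injective (congrArg (fun z : orthPart q A x'.1 => z.1) hst)
    · rw [not_nonempty_iff] at hne
      simp

/-- If the orbit meets every isotropic direction `m` times over. -/
theorem five_line_count (hF : Fintype.card F = q ^ 2) (h : Hyp q e f) (hn : n = 5)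
    (A : Set (Fin n → F)) {w : Fin n → F} (hw : w ∈ rest q e f) (hw0 : w ≠ 0)
    (hww : hermForm n F q w w = 0) {ι : Type} [Finite ι] [Nonempty ι] (g : ι → SU n F q)
    (hg : ∀ i, g i ∈ LS (q := q) e f)
    (hrec : ∀ (i j : ι) (l l' : SU n F q), l ∈ LS (q := q) e f → l' ∈ LS (q := q) e f →
      (fun u => (l * g i).1.1 *ᵥ u) '' A = (fun u => (l' * g j).1.1 *ᵥ u) '' A →
        (∃ t : F, l'.1.1 *ᵥ w = t • (l.1.1 *ᵥ w)) ∧ (l = l' → i = j)) :
    q ^ 3 * (q ^ 2 - 1) * Nat.card ι ≤ (restOrbit q e f A).ncard * (q ^ 2 - 1) := by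
  classical
  have hr := finrank_rest hF h
  have hW := nondeg_rest hF h
  let V := {v : Fin n → F // v ∈ rest q e f ∧ v ≠ 0 ∧ hermForm n F q v v = 0}
  have hV : q ^ 3 * (q ^ 2 - 1) ≤ Nat.card V := by
    have := vmin_le_card hF hW (c := 0) (by omega) (zero_pow_q hF)
    rwa [show finrank F (rest q e f) = 3 by omega] at this
  have hl : ∀ v : V, ∃ l ∈ LS (q := q) e f, l.1.1 *ᵥ w = v.1 := fun v =>
    exists_LS_vec hF h (by omega) hw v.2.1 hw0 v.2.2.1 (hww.trans v.2.2.2.symm)
  choose l hl hlw using hl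
  let Φ : V × ι → restOrbit q e f A := fun p =>
    ⟨(fun u => (l p.1 * g p.2).1.1 *ᵥ u) '' A, ⟨⟨_, mul_mem (hl p.1) (hg p.2)⟩, rfl⟩⟩
  refine le_trans (Nat.mul_le_mul_right _ hV) ?_
  rw [← Nat.card_coe_set_eq, ← Nat.card_prod, Nat.card_congr (Equiv.sigmaFiberEquiv Φ).symm,
    Nat.card_sigma, Nat.card_eq_fintype_card (α := restOrbit q e f A), ← Finset.card_univ,
    ← smul_eq_mul]
  refine Finset.sum_le_card_nsmul _ _ _ fun S _ => ?_
  by_cases hne : Nonempty {p // Φ p = S}
  · obtain ⟨p0⟩ := hne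
    have hkey : ∀ p : {p // Φ p = S}, ∃ t : Fˣ, p.1.1.1 = (t : F) • p0.1.1.1 := fun p => by
      obtain ⟨t, ht⟩ := (hrec p0.1.2 p.1.2 _ _ (hl p0.1.1) (hl p.1.1)
        (congrArg Subtype.val (p0.2.trans p.2.symm))).1
      rw [hlw, hlw] at ht
      exact ⟨Units.mk0 t fun h0 => p.1.1.2.2.1 (by rw [ht, h0, zero_smul]), ht⟩
    choose t ht using hkey
    rw [show q ^ 2 - 1 = Nat.card Fˣ by rw [Nat.card_units, Nat.card_eq_fintype_card, hF]]
    refine Nat.card_le_card_of_injective t fun p p' hpp => ?_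
    have hv : p.1.1 = p'.1.1 := Subtype.ext (by rw [ht p, ht p', hpp])
    refine Subtype.ext (Prod.ext hv ?_)
    exact ((hrec p.1.2 p'.1.2 _ _ (hl p.1.1) (hl p'.1.1)
      (congrArg Subtype.val (p.2.trans p'.2.symm))).2 (by rw [hv]))
  · rw [not_nonempty_iff] at hne
    simp

/-- If `A` lies in a degenerate plane `⟨x, w⟩`. -/
theorem five_plane (hF : Fintype.card F = q ^ 2) (h : Hyp q e f) (hn : n = 5)
    (A : AddSubgroup (Fin n → F)) (hA : ∀ a ∈ A, a ∈ rest q e f) {B : AddSubgroup F}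
    (hAB : ∀ a ∈ A, ∀ b ∈ A, hermForm n F q a b - hermForm n F q b a ∈ B) {c0 : F}
    (hc0 : c0 + c0 ^ q = 0) (hc0B : c0 ∉ B) (hbig : q ^ 2 < Nat.card A) {x w : Fin n → F}
    (hxA : x ∈ A) (hxx : hermForm n F q x x ≠ 0) (hw : w ∈ rest q e f) (hw0 : w ≠ 0)
    (hww : hermForm n F q w w = 0) (hwx : hermForm n F q w x = 0)
    (hspan : ∀ u ∈ A, ∃ α β : F, u = α • x + β • w) :
    q ^ 2 * Nat.card A ≤ (restOrbit q e f (A : Set (Fin n → F))).ncard * (q ^ 2 - 1) := by
  classical
  have h1q := one_lt_q hF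
  have hxW := hA x hxA
  have hxw : hermForm n F q x w = 0 := herm_eq_zero_symm hF hwx
  have hcoef : ∀ α β : F, hermForm n F q (α • x + β • w) x = α * hermForm n F q x x := fun α β => by
    rw [herm_add_left, herm_smul_left, herm_smul_left, hwx, mul_zero, add_zero]
  have horthw : ∀ u ∈ A, hermForm n F q u w = 0 := fun u hu => by
    obtain ⟨α, β, rfl⟩ := hspan u hu
    rw [herm_add_left, herm_smul_left, herm_smul_left, hxw, hww, mul_zero, mul_zero, add_zero]
  have hrad : ∀ u ∈ A, hermForm n F q u x = 0 → ∃ t : F, u = t • w := fun u hu hux => by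
    obtain ⟨α, β, rfl⟩ := hspan u hu
    rw [hcoef, mul_eq_zero] at hux
    exact ⟨β, by rw [hux.resolve_right hxx, zero_smul, zero_add]⟩
  let W' := (Submodule.span F ({w} : Set (Fin n → F))).toAddSubgroup
  have hA' : ∀ u ∈ A ⊔ W', u ∈ rest q e f ∧ hermForm n F q u w = 0 ∧
      ∃ u0 ∈ A, ∃ t : F, u = u0 + t • w := by
    intro u hu
    obtain ⟨u0, hu0, v, hv, rfl⟩ := AddSubgroup.mem_sup.1 hu
    obtain ⟨t, rfl⟩ := Submodule.mem_span_singleton.1 ((Submodule.mem_toAddSubgroup _).1 hv)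
    exact ⟨(rest q e f).add_mem (hA u0 hu0) ((rest q e f).smul_mem _ hw),
      by rw [herm_add_left, herm_smul_left, hww, mul_zero, add_zero, horthw u0 hu0],
      u0, hu0, t, rfl⟩
  have hle : Nat.card (A ⊔ W' : AddSubgroup (Fin n → F)) ≤ q ^ 3 := by
    have := card_le_of_pairing hF h (A ⊔ W') (fun u hu => (hA' u hu).1) B (fun u hu v hv => by
      obtain ⟨-, huw, u0, hu0, t, rfl⟩ := hA' u hu
      obtain ⟨-, -, v0, hv0, s, rfl⟩ := hA' v hv
      convert hAB u0 hu0 v0 hv0 using 1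
      simp only [herm_add_left, herm_add_right _ _ _ hF, herm_smul_left, herm_smul_right, hww,
        horthw u0 hu0, horthw v0 hv0, herm_eq_zero_symm hF (horthw u0 hu0),
        herm_eq_zero_symm hF (horthw v0 hv0), mul_zero, add_zero]) hc0 hc0B
    rwa [show n - 2 = 3 by omega] at this
  obtain ⟨k, hk⟩ := AddSubgroup.card_dvd_of_le (le_sup_left : A ≤ A ⊔ W')
  have hArec : ∀ (i : Unit) (j : Unit) (l l' : SU n F q), l ∈ LS (q := q) e f → l' ∈ LS (q := q) e f →
      (fun u => (l * (1 : SU n F q)).1.1 *ᵥ u) '' (A : Set (Fin n → F)) =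
        (fun u => (l' * (1 : SU n F q)).1.1 *ᵥ u) '' A →
      (∃ t : F, l'.1.1 *ᵥ w = t • (l.1.1 *ᵥ w)) ∧ (l = l' → i = j) := by
    intro i j l l' _ _ heq
    simp only [mul_one] at heq
    refine ⟨?_, fun _ => rfl⟩
    obtain ⟨v0, hv0, hv0w⟩ : ∃ v ∈ A, ∃ t : F, t ≠ 0 ∧ v = t • w := by
      by_contra hcon
      push Not at hcon
      have hinj : Function.Injective fun u : A => hermForm n F q u.1 x := fun u v huv => by
        refine Subtype.ext ?_
        obtain ⟨t, ht⟩ := hrad _ (A.sub_mem u.2 v.2) (by rw [herm_sub_left, sub_eq_zero]; exact huv)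
        by_cases ht0 : t = 0
        · rwa [ht0, zero_smul, sub_eq_zero] at ht
        · exact absurd ht (hcon _ (A.sub_mem u.2 v.2) t ht0)
      have := Nat.card_le_card_of_injective _ hinj
      rw [Nat.card_eq_fintype_card (α := F), hF] at this
      omega
    obtain ⟨t0, ht0, rfl⟩ := hv0w
    have hmem : l'.1.1 *ᵥ (t0 • w) ∈ (fun u => l.1.1 *ᵥ u) '' (A : Set (Fin n → F)) := by
      rw [heq]; exact ⟨_, hv0, rfl⟩
    obtain ⟨u, hu, hlu⟩ := hmem
    have hux : hermForm n F q u x = 0 := by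
      have hmemx : l.1.1 *ᵥ x ∈ (fun u => l'.1.1 *ᵥ u) '' (A : Set (Fin n → F)) := by
        rw [← heq]; exact ⟨x, hxA, rfl⟩
      obtain ⟨u', hu', hlu'⟩ := hmemx
      simp only at hlu hlu'
      rw [← SU_herm l u x, hlu, ← hlu', SU_herm, herm_smul_left,
        herm_eq_zero_symm hF (horthw u' hu'), mul_zero]
    obtain ⟨t, ht⟩ := hrad u hu hux
    refine ⟨t0⁻¹ * t, ?_⟩
    simp only at hlu
    rw [ht, Matrix.mulVec_smul, Matrix.mulVec_smul] at hlu
    rw [← smul_smul, hlu, inv_smul_smul₀ ht0]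
  have hone : q ^ 3 * (q ^ 2 - 1) ≤ (restOrbit q e f (A : Set (Fin n → F))).ncard * (q ^ 2 - 1) := by
    have := five_line_count hF h hn (A : Set (Fin n → F)) hw hw0 hww (fun _ : Unit => (1 : SU n F q))
      (fun _ => one_mem _) hArec
    rwa [Nat.card_unique, mul_one] at this
  have hq4 : 4 ≤ q ^ 2 := by nlinarith
  rcases Nat.lt_or_ge k 2 with hk2 | hk2
  swap
  · have hA2 : Nat.card A * 2 ≤ q ^ 3 := le_trans (Nat.mul_le_mul_left _ hk2) (hk ▸ hle)
    refine le_trans ?_ hone
    obtain ⟨c, hc⟩ : ∃ c, q ^ 2 = c + 1 := ⟨q ^ 2 - 1, by omega⟩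
    rw [hc, Nat.add_sub_cancel]
    nlinarith
  have heq : A = A ⊔ W' := AddSubgroup.eq_of_le_of_card_ge le_sup_left (by
    rw [hk]
    calc Nat.card A * k ≤ Nat.card A * 1 := Nat.mul_le_mul_left _ (by omega)
      _ = Nat.card A := mul_one _)
  have hwA : ∀ t : F, t • w ∈ A := fun t => by
    rw [heq]
    exact AddSubgroup.mem_sup_right ((Submodule.mem_toAddSubgroup _).2 (Submodule.mem_span_singleton.2 ⟨t, rfl⟩))
  rw [← heq] at hle
  let C : Set F := {α | α • x ∈ A}
  have hCcard : C.ncard * q ^ 2 ≤ Nat.card A := by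
    rw [← Nat.card_coe_set_eq, ← hF, ← Nat.card_eq_fintype_card, ← Nat.card_prod]
    refine Nat.card_le_card_of_injective (fun p : C × F =>
      (⟨p.1.1 • x + p.2 • w, A.add_mem p.1.2 (hwA p.2)⟩ : A)) fun p p' hpp => ?_
    have h0 : p.1.1 • x + p.2 • w = p'.1.1 • x + p'.2 • w := congrArg (fun z : A => z.1) hpp
    have h1 := congrArg (fun v => hermForm n F q v x) h0
    simp only [hcoef] at h1
    have h1' : p.1.1 = p'.1.1 := mul_right_cancel₀ hxx h1
    rw [h1'] at h0
    exact Prod.ext (Subtype.ext h1') (smul_left_injective F hw0 (add_left_cancel h0))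
  have hC : C.ncard ≤ q :=
    Nat.le_of_mul_le_mul_right (le_trans hCcard (hle.trans (le_of_eq (by ring)))) (by omega)
  obtain ⟨ζ, hζ, hζC⟩ : ∃ ζ : F, ζ * ζ ^ q = 1 ∧ ζ ∉ C := by
    by_contra hcon
    push Not at hcon
    have h1 : Nat.card {ζ : F // ζ ^ (q + 1) = 1} ≤ C.ncard := by
      rw [← Nat.card_coe_set_eq]
      exact Nat.card_le_card_of_injective (fun ζ => (⟨ζ.1, hcon ζ.1 (by rw [← pow_succ']; exact ζ.2)⟩ : C))
        fun u v huv => Subtype.ext (congrArg (fun z : C => z.1) huv)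
    rw [card_norm_one hF] at h1
    omega
  obtain ⟨hR, hRd⟩ := nondeg_inf_perp hF (nondeg_rest hF h) (not_isotropic_of_nondeg hF hxx)
    ((Submodule.span_singleton_le_iff_mem _ _).2 hxW)
  have hwR : w ∈ rest q e f ⊓ perp q (Submodule.span F {x}) := ⟨hw, fun v hv => by
    obtain ⟨t, rfl⟩ := Submodule.mem_span_singleton.1 hv
    rw [herm_smul_right, hwx, mul_zero]⟩
  obtain ⟨t0, ht0, hwt⟩ : ∃ t ∈ rest q e f ⊓ perp q (Submodule.span F {x}), hermForm n F q w t ≠ 0 := by
    by_contra hcon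
    push Not at hcon
    exact hw0 (hR w hwR hcon)
  obtain ⟨j, hj⟩ := exists_isotropic_shift hF hww hwt
  have hwt' : hermForm n F q w (t0 + j • w) ≠ 0 := by
    rwa [herm_add_right _ _ _ hF, herm_smul_right, hww, mul_zero, add_zero]
  have hyp := hyp_of_nonorth hF hww hj hwt'
  set t := ((hermForm n F q w (t0 + j • w)) ^ q)⁻¹ • (t0 + j • w)
  have htR : t ∈ rest q e f ⊓ perp q (Submodule.span F {x}) :=
    Submodule.smul_mem _ _ (Submodule.add_mem _ ht0 (Submodule.smul_mem _ _ hwR))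
  have htx : hermForm n F q t x = 0 := htR.2 x (Submodule.mem_span_singleton_self x)
  obtain ⟨μ, hμ, hμ'⟩ := exists_div_conj hF (inv_norm_one hF hζ)
  obtain ⟨G1, hG1det, hG1w, -, hG1fix⟩ := exists_GU_hyp_scale hF hyp hμ
  obtain ⟨s, hs⟩ := norm_surj hF (y := (hermForm n F q x x)⁻¹) (by rw [inv_pow, herm_self_fixed x hF])
  have hs0 : s ≠ 0 := fun h0 => by
    rw [h0, zero_mul, eq_comm, inv_eq_zero] at hs; exact hxx hs
  have hx1 : hermForm n F q (s • x) (s • x) = 1 := by
    rw [herm_smul_left, herm_smul_right, ← mul_assoc, hs, inv_mul_cancel₀ hxx]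
  obtain ⟨G2, hG2det, hG2x, hG2fix⟩ := exists_GU_scale hF hx1 hζ
  have hG2fix' : ∀ v, hermForm n F q v x = 0 → G2.1.1 *ᵥ v = v := fun v hv =>
    hG2fix v (by rw [herm_smul_right, hv, mul_zero])
  obtain ⟨gz, hgz⟩ := exists_SU_of_GU (A := G2 * G1) (by
    simp only [Subgroup.coe_mul, Units.val_mul, Matrix.det_mul, hG1det, hG2det]
    have hμq : μ ^ q ≠ 0 := pow_ne_zero q hμ
    rw [show μ * (μ ^ q)⁻¹ = ζ⁻¹ by rw [eq_comm, eq_mul_inv_iff_mul_eq₀ hμq]; exact hμ'.symm]
    exact mul_inv_cancel₀ fun h0 => by simp [h0] at hζ)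
  obtain ⟨hwe, hwf⟩ := rest_swap_herm hF hw
  obtain ⟨hte, htf⟩ := rest_swap_herm hF htR.1
  obtain ⟨hxe, hxf⟩ := rest_swap_herm hF hxW
  have hgzL : gz ∈ LS (q := q) e f := by
    refine mem_LS.2 ⟨?_, ?_⟩
    · rw [hgz, GU_mul_mulVec, hG1fix e hwe hte, hG2fix' e hxe]
    · rw [hgz, GU_mul_mulVec, hG1fix f hwf htf, hG2fix' f hxf]
  have hgzw : gz.1.1 *ᵥ w = μ • w := by
    rw [hgz, GU_mul_mulVec, hG1w, Matrix.mulVec_smul, hG2fix' w hwx]
  have hgzx : gz.1.1 *ᵥ x = ζ • x := by
    rw [hgz, GU_mul_mulVec, hG1fix x hxw (herm_eq_zero_symm hF htx)]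
    have := hG2x
    rw [Matrix.mulVec_smul, smul_comm] at this
    exact smul_right_injective _ hs0 this
  let g : Bool → SU n F q := fun b => if b then gz else 1
  have htwo := five_line_count hF h hn (A : Set (Fin n → F)) hw hw0 hww g
    (fun b => by cases b <;> simp [g, hgzL]) (fun i j l l' hl hl' heq => by
      have hgw : ∀ b, ∃ r : F, r ≠ 0 ∧ (g b).1.1 *ᵥ w = r • w := fun b => by
        cases b
        · exact ⟨1, one_ne_zero, by simp [g]⟩
        · exact ⟨μ, hμ, by simpa [g] using hgzw⟩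
      constructor
      · obtain ⟨r, hr0, hr⟩ := hgw i
        obtain ⟨r', hr0', hr'⟩ := hgw j
        obtain ⟨t', ht'⟩ := (hArec () () (l * g i) (l' * g j) (mul_mem hl (by cases i <;> simp [g, hgzL]))
          (mul_mem hl' (by cases j <;> simp [g, hgzL])) (by simpa using heq)).1
        rw [SU_mul_mulVec, SU_mul_mulVec, hr, hr', Matrix.mulVec_smul, Matrix.mulVec_smul, smul_smul] at ht'
        exact ⟨r'⁻¹ * (t' * r), by rw [← smul_smul, ← ht', inv_smul_smul₀ hr0']⟩
      · rintro rfl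
        have hcancel : (fun u => (g i).1.1 *ᵥ u) '' (A : Set (Fin n → F)) =
            (fun u => (g j).1.1 *ᵥ u) '' A := by
          have := congrArg (fun S => (fun u => l⁻¹.1.1 *ᵥ u) '' S) heq
          simp only [Set.image_image, ← SU_mul_mulVec, inv_mul_cancel_left] at this
          exact this
        by_contra hij
        have hfix : (fun u => gz.1.1 *ᵥ u) '' (A : Set (Fin n → F)) = A := by
          cases i <;> cases j <;> simp [g] at hij hcancel
          · exact hcancel.symm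
          · exact hcancel
        apply hζC
        have : gz.1.1 *ᵥ x ∈ (A : Set (Fin n → F)) := hfix ▸ ⟨x, hxA, rfl⟩
        rw [hgzx] at this
        exact this)
  rw [Nat.card_eq_fintype_card (α := Bool), Fintype.card_bool] at htwo
  refine le_trans ?_ htwo
  obtain ⟨c, hc⟩ : ∃ c, q ^ 2 = c + 1 := ⟨q ^ 2 - 1, by omega⟩
  rw [hc, Nat.add_sub_cancel]
  nlinarith

/-- The nontrivial rest part, `n = 5`. -/
theorem index_ge_of_restPart_five (hF : Fintype.card F = q ^ 2) (h : Hyp q e f) (hn : n = 5)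
    {K : Subgroup (SU n F q)} (hK : ¬ RS e ≤ K) {a0 : Fin n → F} (ha0 : a0 ∈ restPart hF h K)
    (ha00 : a0 ≠ 0) : q ^ (2 * n - 1) ≤ K.index * (q ^ 2 - 1) := by
  classical
  have h1q := one_lt_q hF
  have hmain := main_ineq hF h (by omega) hK
  obtain ⟨c0, hc0, hc0B⟩ := exists_not_mem_tvPart hF h hK
  have hAW : ∀ a ∈ restPart hF h K, a ∈ rest q e f := fun a ha => restPart_le hF h K ha
  have hAB : ∀ a ∈ restPart hF h K, ∀ b ∈ restPart hF h K,
      hermForm n F q a b - hermForm n F q b a ∈ tvPart hF h K := fun a ha b hb => pairing_mem hF h ha hb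
  have hB1 : q = 2 → ∀ b ∈ tvPart hF h K, b = 0 := by
    intro hq2
    have hle : ∀ b ∈ tvPart hF h K, b + b ^ q = 0 := fun b hb => tvPart_trace hF h K hb
    intro b hb
    by_contra hb0
    apply hc0B
    have hT : Nat.card {c : F // c + c ^ q = 0} = 2 := (card_trace_zero hF).trans hq2
    rw [Nat.card_eq_two_iff' (⟨0, by simp [zero_pow_q hF]⟩ : {c : F // c + c ^ q = 0})] at hT
    obtain ⟨y, -, hy⟩ := hT
    have hc00 : c0 ≠ 0 := fun h0 => hc0B (by rw [h0]; exact (tvPart hF h K).zero_mem)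
    have e1 := hy ⟨b, hle b hb⟩ (fun h0 => hb0 (congrArg Subtype.val h0))
    have e2 := hy ⟨c0, hc0⟩ (fun h0 => hc00 (congrArg Subtype.val h0))
    have : b = c0 := congrArg Subtype.val (e1.trans e2.symm)
    exact this ▸ hb
  have hcard : Nat.card (restPart hF h K) ≤ q ^ 3 := by
    have := card_le_of_pairing hF h (restPart hF h K) hAW (tvPart hF h K) hAB hc0 hc0B
    rwa [show n - 2 = 3 by omega] at this
  generalize restPart hF h K = A at *
  generalize tvPart hF h K = B at *
  have hApos : 0 < Nat.card A := Nat.card_pos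
  refine bound_of_orbit (by omega) hApos hmain ?_
  set X := (restOrbit q e f (A : Set (Fin n → F))).ncard
  by_cases hsmall : Nat.card A ≤ q ^ 2
  · let T : Set (Fin 1 → Fin n → F) := {v | v 0 ∈ rest q e f ∧ v 0 ≠ 0 ∧
      hermForm n F q (v 0) (v 0) = hermForm n F q a0 a0}
    have hT : q ^ 3 * (q ^ 2 - 1) ≤ T.ncard := by
      have hr := finrank_rest hF h
      have := vmin_le_card hF (nondeg_rest hF h) (c := hermForm n F q a0 a0) (by omega)
        (herm_self_fixed a0 hF)
      rw [show finrank F (rest q e f) = 3 by omega] at this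
      refine this.trans ?_
      rw [← Nat.card_coe_set_eq]
      exact Nat.card_le_card_of_injective (fun v => ⟨fun _ => v.1, v.2⟩)
        fun u v huv => Subtype.ext (congrFun (congrArg Subtype.val huv) 0)
    have hcov := card_targets_le (q := q) (e := e) (f := f) (A : Set (Fin n → F)) T fun v hv => by
      obtain ⟨l, hl, hlv⟩ := exists_LS_vec hF h (by omega) (hAW a0 ha0) hv.1 ha00 hv.2.1 hv.2.2.symm
      exact ⟨l, hl, fun i => ⟨a0, ha0, by rw [Subsingleton.elim i 0]; exact hlv⟩⟩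
    rw [pow_one] at hcov
    refine Nat.le_of_mul_le_mul_right ?_ hApos
    calc q ^ 2 * Nat.card A * Nat.card A ≤ q ^ 2 * q ^ 2 * q ^ 2 :=
          Nat.mul_le_mul (Nat.mul_le_mul_left _ hsmall) hsmall
      _ = q ^ 3 * q ^ 3 := by ring
      _ ≤ q ^ 3 * ((q ^ 2 - 1) * (q ^ 2 - 1)) := Nat.mul_le_mul_left _ (arith_five_small h1q)
      _ = q ^ 3 * (q ^ 2 - 1) * (q ^ 2 - 1) := by ring
      _ ≤ X * Nat.card A * (q ^ 2 - 1) := Nat.mul_le_mul_right _ (hT.trans hcov)
      _ = _ := by ring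
  obtain ⟨x, hxA, hxx⟩ : ∃ x ∈ A, hermForm n F q x x ≠ 0 := by
    by_contra hcon
    push Not at hcon
    exact hsmall (card_le_of_isotropic hF h hn A hAW hcon)
  have hr := finrank_rest hF h
  have horth : ∀ s ∈ A, hermForm n F q s s ≠ 0 → Nat.card (orthPart q A s) ≤ q ^ 2 := by
    intro s hs hss
    have hs0 : s ≠ 0 := fun h0 => hss (by rw [h0, herm_zero_left])
    obtain ⟨hR, hRd⟩ := nondeg_inf_perp hF (nondeg_rest hF h) (not_isotropic_of_nondeg hF hss)
      ((Submodule.span_singleton_le_iff_mem _ _).2 (hAW s hs))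
    rw [finrank_span_singleton hs0] at hRd
    have := card_le_of_pairing_nondeg hF _ hR (orthPart q A s) (fun u hu => ⟨hAW u hu.1, fun v hv => by
        obtain ⟨t, rfl⟩ := Submodule.mem_span_singleton.1 hv
        rw [herm_smul_right, hu.2, mul_zero]⟩) B (fun u hu v hv => hAB u hu.1 v hv.1) hc0 hc0B
    rwa [show finrank F (rest q e f ⊓ perp q (Submodule.span F {s}) : Submodule F (Fin n → F)) = 2
      by omega] at this
  by_cases hpair : ∃ u ∈ A, ∃ v ∈ A, hermForm n F q u u ≠ 0 ∧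
      hermForm n F q u u * hermForm n F q v v ≠ hermForm n F q v u * hermForm n F q v u ^ q
  · obtain ⟨u, hu, v, hv, huu, hdet⟩ := hpair
    have hM := five_pair hF h hn A hAW hu hv huu hdet horth
    rw [countUnit_three hF, countUnit_two hF] at hM
    set S := {z | z ∈ A ∧ hermForm n F q z z = hermForm n F q u u}
    obtain ⟨h34, h12⟩ := card_class_le hF A huu
    refine Nat.le_of_mul_le_mul_right ?_ (show 0 < q ^ 2 * (4 * S.ncard) by
      have : 0 < S.ncard := (Set.ncard_pos (Set.toFinite _)).2 ⟨u, hu, rfl⟩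
      exact Nat.mul_pos (by nlinarith) (by omega))
    by_cases hq2 : q = 2
    · have hsym : ∀ u ∈ A, ∀ v ∈ A, hermForm n F q u v + hermForm n F q v u = 0 := fun u hu v hv => by
        have h0 := hB1 hq2 _ (hAB u hu v hv)
        have h2 : (2 : F) = 0 := by
          obtain ⟨p, k, hp, hchar, -, hqk⟩ := q_eq_primePow hF
          have hp2 : p = 2 := by
            have hd : p ∣ 2 ^ 1 := by
              rw [pow_one, ← hq2, hqk]
              exact dvd_pow_self p (by rintro rfl; simp [hq2] at hqk)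
            exact (Nat.prime_dvd_prime_iff_eq hp Nat.prime_two).1 (hp.dvd_of_dvd_pow hd)
          subst hp2
          exact_mod_cast CharP.cast_eq_zero F 2
        linear_combination h0 + hermForm n F q v u * h2
      have h2 := h12 hsym
      subst hq2
      have hA8 : Nat.card A ≤ 8 := hcard.trans (by norm_num)
      have h216 : 216 ≤ X * (S.ncard * 4) := le_trans (by norm_num) hM
      change 2 * S.ncard ≤ Nat.card A at h2
      calc 2 ^ 2 * Nat.card A * (2 ^ 2 * (4 * S.ncard)) = 64 * (Nat.card A * S.ncard) := by ring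
        _ ≤ 64 * (8 * 4) := Nat.mul_le_mul_left _ (Nat.mul_le_mul hA8 (by omega))
        _ ≤ 12 * (X * (S.ncard * 4)) := le_trans (by norm_num) (Nat.mul_le_mul_left 12 h216)
        _ = X * (2 ^ 2 - 1) * (2 ^ 2 * (4 * S.ncard)) := by
          rw [show (2 : ℕ) ^ 2 - 1 = 3 from rfl]; ring
    · calc q ^ 2 * Nat.card A * (q ^ 2 * (4 * S.ncard))
          ≤ q ^ 2 * Nat.card A * (q ^ 2 * (3 * Nat.card A)) := by gcongr
        _ ≤ q ^ 2 * q ^ 3 * (q ^ 2 * (3 * q ^ 3)) := by gcongr
        _ = 3 * q ^ 10 := by ring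
        _ ≤ 4 * (q ^ 2 * (q ^ 3 + 1) * (q * (q ^ 2 - 1))) * (q ^ 2 - 1) := arith_five (by omega)
        _ ≤ 4 * (X * (S.ncard * q ^ 2)) * (q ^ 2 - 1) := by gcongr
        _ = _ := by ring
  push Not at hpair
  -- all pairs with an anisotropic first member are degenerate
  set a := hermForm n F q x x with ha
  let co : (Fin n → F) → F := fun u => hermForm n F q u x / a
  let π : (Fin n → F) → Fin n → F := fun u => u - co u • x
  have haq : a ^ q = a := herm_self_fixed x hF
  have hπx : ∀ u, hermForm n F q (π u) x = 0 := fun u => by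
    simp only [π, co, herm_sub_left, herm_smul_left]
    rw [div_mul_cancel₀ _ hxx, sub_self]
  have hsplit : ∀ u v, hermForm n F q u v = co u * co v ^ q * a + hermForm n F q (π u) (π v) := fun u v => by
    have h1 : hermForm n F q (π u) x = 0 := hπx u
    have h2 : hermForm n F q x (π v) = 0 := herm_eq_zero_symm hF (hπx v)
    conv_lhs => rw [show u = co u • x + π u by simp [π], show v = co v • x + π v by simp [π]]
    simp only [herm_add_left, herm_add_right _ _ _ hF, herm_smul_left, herm_smul_right, h1, h2, ← ha]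
    ring
  have hπiso : ∀ u ∈ A, hermForm n F q (π u) (π u) = 0 := fun u hu => by
    have h1 := hpair x hxA u hu hxx
    rw [hsplit u u, ← ha, show hermForm n F q u x = co u * a from (div_mul_cancel₀ _ hxx).symm,
      mul_pow, haq] at h1
    exact (mul_eq_zero.1 (show a * hermForm n F q (π u) (π u) = 0 by linear_combination h1)).resolve_left hxx
  have hE : ∀ u ∈ A, ∀ v ∈ A, co u ≠ 0 ∨ co v ≠ 0 →
      a * (co u * co v ^ q * hermForm n F q (π u) (π v) ^ q +
        co u ^ q * co v * hermForm n F q (π u) (π v)) +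
      hermForm n F q (π u) (π v) * hermForm n F q (π u) (π v) ^ q = 0 := by
    intro u hu v hv hne
    have hnu : ∀ z ∈ A, co z ≠ 0 → hermForm n F q z z ≠ 0 := fun z hz hcz h0 => by
      rw [hsplit z z, hπiso z hz, add_zero, mul_eq_zero, mul_eq_zero] at h0
      rcases h0 with (h0 | h0) | h0
      exacts [hcz h0, pow_ne_zero q hcz h0, hxx h0]
    rcases hne with hne | hne
    · have h1 := hpair u hu v hv (hnu u hu hne)
      have hvu : hermForm n F q v u = co v * co u ^ q * a + hermForm n F q (π u) (π v) ^ q := by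
        rw [hsplit v u, herm_conj (π u) (π v) hF]
      rw [hsplit u u, hsplit v v, hπiso u hu, hπiso v hv, hvu, add_pow_q hF, mul_pow, mul_pow,
        pow_q_q hF, pow_q_q hF, haq] at h1
      linear_combination -h1
    · have h1 := hpair v hv u hu (hnu v hv hne)
      rw [hsplit u u, hsplit v v, hπiso u hu, hπiso v hv, hsplit u v, add_pow_q hF, mul_pow, mul_pow,
        pow_q_q hF, haq] at h1
      linear_combination -h1
  have hπadd : ∀ u, π (u + x) = π u ∧ co (u + x) = co u + 1 := fun u => by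
    have h1 : co (u + x) = co u + 1 := by
      simp only [co, herm_add_left, add_div, ← ha, div_self hxx]
    exact ⟨by simp only [π, h1, add_smul, one_smul]; abel, h1⟩
  have horth0 : ∀ u ∈ A, ∀ v ∈ A, hermForm n F q (π u) (π v) = 0 := by
    intro u hu v hv
    set t := hermForm n F q (π u) (π v) with ht
    by_contra ht0
    have hcontra : ∀ u' ∈ A, ∀ v' ∈ A, π u' = π u → π v' = π v → co u' = 1 → co v' = 0 → False := by
      intro u' hu' v' hv' e1 e2 e3 e4
      have := hE u' hu' v' hv' (Or.inl (by rw [e3]; exact one_ne_zero))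
      rw [e1, e2, ← ht, e3, e4, zero_pow_q hF] at this
      have : t * t ^ q = 0 := by linear_combination this
      rcases mul_eq_zero.1 this with h0 | h0
      exacts [ht0 h0, ht0 (eq_zero_of_pow_eq_zero h0)]
    obtain ⟨pu, cu⟩ := hπadd u
    obtain ⟨pv, cv⟩ := hπadd v
    by_cases h00 : co u = 0 ∧ co v = 0
    · exact hcontra _ (A.add_mem hu hxA) v hv pu rfl (by rw [cu, h00.1, zero_add]) h00.2
    by_cases h10 : co u + 1 = 0 ∧ co v = 0
    · obtain ⟨p2, c2⟩ := hπadd (u + x)
      exact hcontra _ (A.add_mem (A.add_mem hu hxA) hxA) v hv (p2.trans pu) rfl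
        (by rw [c2, cu, h10.1, zero_add]) h10.2
    by_cases h01 : co u = 0 ∧ co v + 1 = 0
    · exact hcontra _ (A.add_mem hu hxA) _ (A.add_mem hv hxA) pu pv (by rw [cu, h01.1, zero_add])
        (by rw [cv, h01.2])
    by_cases h11 : co u + 1 = 0 ∧ co v + 1 = 0
    · obtain ⟨p2, c2⟩ := hπadd (u + x)
      exact hcontra _ (A.add_mem (A.add_mem hu hxA) hxA) _ (A.add_mem hv hxA) (p2.trans pu) pv
        (by rw [c2, cu, h11.1, zero_add]) (by rw [cv, h11.2])
    have E00 := hE u hu v hv (by tauto)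
    have E10 := hE _ (A.add_mem hu hxA) v hv (by rw [cu]; tauto)
    have E01 := hE u hu _ (A.add_mem hv hxA) (by rw [cv]; tauto)
    have E11 := hE _ (A.add_mem hu hxA) _ (A.add_mem hv hxA) (by rw [cu, cv]; tauto)
    simp only [pu, pv, cu, cv, ← ht, add_pow_q hF, one_pow] at E00 E10 E01 E11
    have d1 : t ^ q + t = 0 := (mul_eq_zero.1 (show a * (t ^ q + t) = 0 by
      linear_combination E11 - E10 - E01 + E00)).resolve_left hxx
    have d2 : co v ^ q * t ^ q + co v * t = 0 := (mul_eq_zero.1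
      (show a * (co v ^ q * t ^ q + co v * t) = 0 by linear_combination E10 - E00)).resolve_left hxx
    have d3 : co u * t ^ q + co u ^ q * t = 0 := (mul_eq_zero.1
      (show a * (co u * t ^ q + co u ^ q * t) = 0 by linear_combination E01 - E00)).resolve_left hxx
    have hv' : co v ^ q = co v := mul_right_cancel₀ ht0
      (show co v ^ q * t = co v * t by linear_combination co v ^ q * d1 - d2)
    have hu' : co u ^ q = co u := mul_right_cancel₀ ht0
      (show co u ^ q * t = co u * t by linear_combination d3 - co u * d1)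
    rw [hv', hu'] at E00
    have : t * t ^ q = 0 := by linear_combination E00 - a * co u * co v * d1
    rcases mul_eq_zero.1 this with h0 | h0
    exacts [ht0 h0, ht0 (eq_zero_of_pow_eq_zero h0)]
  have hπW : ∀ u ∈ A, π u ∈ rest q e f := fun u hu =>
    (rest q e f).sub_mem (hAW u hu) ((rest q e f).smul_mem _ (hAW x hxA))
  obtain ⟨u0, hu0, hw0⟩ : ∃ u ∈ A, π u ≠ 0 := by
    by_contra hcon
    push Not at hcon
    exact hsmall (card_le_of_span_line hF A (fun h0 : x = 0 => hxx (by rw [ha, h0, herm_zero_left]))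
      fun u hu => ⟨co u, by rw [← sub_eq_zero]; exact hcon u hu⟩)
  refine five_plane hF h hn A hAW hAB hc0 hc0B (by omega) hxA hxx (hπW u0 hu0) hw0 (hπiso u0 hu0)
    (hπx u0) fun u hu => ?_
  obtain ⟨s, hs⟩ := mem_line_of_orth hF h hn (hπW u0 hu0) (hπW u hu) hw0 (hπiso u0 hu0) (hπiso u hu)
    (horth0 u hu u0 hu0)
  exact ⟨co u, s, by rw [← hs]; simp [π]⟩

end Cfsg.Agent.Lib.MinIndexPSU
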