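import Mathlib
import Cfsg.Agent.Lib.MinIndexPSU.Overgroup
import Cfsg.Agent.Lib.AutPSU.Out

/-!
Lib/MinIndexPSU/TwoCases: trivial rest part over the field with four elements.
-/

set_option autoImplicit false
set_option linter.unusedSectionVars false

namespace Cfsg.Agent.Lib.MinIndexPSU

open scoped commutatorElement
open Matrix Module Cfsg.Agent.Lib.Unitary Cfsg.Agent.Lib.AutPSU

variable {F : Type*} [Field F] [Fintype F] {n : ℕ} {e f : Fin n → F}

theorem two_eq_zero (hF : Fintype.card F = 2 ^ 2) : (2 : F) = 0 := by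
  obtain ⟨p, k, hp, hchar, hk, hqk⟩ := q_eq_primePow hF
  have hp2 : p = 2 := by
    have hd : p ∣ 2 := hqk ▸ dvd_pow_self p (by omega)
    exact (Nat.prime_dvd_prime_iff_eq hp Nat.prime_two).1 hd
  subst hp2
  exact_mod_cast CharP.cast_eq_zero F 2

/-- A primitive cube root of unity. -/
theorem exists_omega (hF : Fintype.card F = 2 ^ 2) :
    ∃ α : F, α ≠ 0 ∧ α ≠ 1 ∧ α ^ 3 = 1 ∧ α ^ 2 + α + 1 = 0 := by
  classical
  obtain ⟨α, h0, h1⟩ : ∃ α : F, α ≠ 0 ∧ α ≠ 1 := by
    by_contra hcon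
    push Not at hcon
    have hsub : (Finset.univ : Finset F) ⊆ {0, 1} := fun x _ => by
      by_cases hx : x = 0
      · simp [hx]
      · simp [hcon x hx]
    have := (Finset.card_le_card hsub).trans Finset.card_le_two
    rw [Finset.card_univ, hF] at this
    omega
  have h3 : α ^ 3 = 1 := by
    have := FiniteField.pow_card_sub_one_eq_one α h0
    rwa [hF] at this
  refine ⟨α, h0, h1, h3, ?_⟩
  exact (mul_eq_zero.1 (show (α - 1) * (α ^ 2 + α + 1) = 0 by linear_combination h3)).resolve_left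
    (sub_ne_zero.2 h1)

theorem pow_omega_ne_one {α : F} (h1 : α ≠ 1) (h3 : α ^ 3 = 1) {m : ℕ} (hm : ¬ 3 ∣ m) : α ^ m ≠ 1 := by
  intro h
  have ho : orderOf α ∣ m := orderOf_dvd_of_pow_eq_one h
  have ho3 : orderOf α = 3 := by
    haveI := Fact.mk Nat.prime_three
    exact orderOf_eq_prime h3 h1
  exact hm (ho3 ▸ ho)

/-- Over four elements the index is large unless `(K ∩ NS e) QS e` is the whole parabolic. -/
theorem index_ge_or_stab_eq (hF : Fintype.card F = 2 ^ 2) (hn : 4 ≤ n) (h : Hyp 2 e f)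
    {K : Subgroup (SU n F 2)} (hK : ¬ RS e ≤ K) (hA : ∀ a ∈ restPart hF h K, a = 0) :
    2 ^ (2 * n - 1) + 2 ^ n ≤ K.index * (2 ^ 2 - 1) ∨ NS (q := 2) e ≤ stabPart e K := by
  by_cases hS : NS (q := 2) e ≤ stabPart e K
  · exact Or.inr hS
  left
  have hb := two_mul_card_tvPart hF h hK
  have hb1 : Nat.card (tvPart hF h K) = 1 := by
    have : 0 < Nat.card (tvPart hF h K) := Nat.card_pos
    omega
  have hmain := main_trivial hF h hA
  rw [hb1, mul_one] at hmain
  refine arith_double (by omega) hn (le_trans ?_ hmain)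
  rw [mul_comm 2]
  refine Nat.mul_le_mul_left _ ?_
  have h0 : (stabPart e K).relIndex (NS e) ≠ 0 := fun h0 =>
    Subgroup.index_ne_zero_of_finite (H := (stabPart e K).subgroupOf (NS e)) h0
  have h1 : (stabPart e K).relIndex (NS e) ≠ 1 := fun h1 => hS (Subgroup.relIndex_eq_one.1 h1)
  omega

/-- The scalar-type element of the Levi factor when `3 ∤ n`. -/
theorem exists_scalar_levi (hF : Fintype.card F = 2 ^ 2) (h : Hyp 2 e f) (hn3 : ¬ 3 ∣ n) :
    ∃ (T : SU n F 2) (ζ α : F), ζ ≠ 0 ∧ α ≠ 0 ∧ ζ ^ 2 * α ≠ 1 ∧ T.1.1 *ᵥ e = ζ • e ∧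
      T.1.1 *ᵥ f = (ζ ^ 2)⁻¹ • f ∧ ∀ w ∈ rest 2 e f, T.1.1 *ᵥ w = α • w := by
  obtain ⟨α, h0, h1, h3, -⟩ := exists_omega hF
  let z : U1 F 2 := ⟨Units.mk0 α h0, by
    rw [mem_U1_iff]; exact Units.ext (by simpa using h3)⟩
  obtain ⟨A, hdet, hAe, hAf, hAw⟩ := exists_GU_hyp_scale hF h (l := α ^ n) (pow_ne_zero n h0)
  obtain ⟨T, hT⟩ := exists_SU_of_GU (A := scalarGU z * A) (by
    simp only [Subgroup.coe_mul, Units.val_mul, Matrix.det_mul, hdet, coe_scalarGU, Matrix.det_smul,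
      Fintype.card_fin, Matrix.det_one, mul_one]
    show α ^ n * (α ^ n * ((α ^ n) ^ 2)⁻¹) = 1
    rw [← mul_assoc, ← sq, mul_inv_cancel₀ (pow_ne_zero 2 (pow_ne_zero n h0))])
  refine ⟨T, α * α ^ n, α, mul_ne_zero h0 (pow_ne_zero n h0), h0, ?_, ?_, ?_, ?_⟩
  · intro hc
    refine pow_omega_ne_one h1 h3 (m := 2 * n) (by omega) ?_
    have : α ^ (2 * n) * α ^ 3 = 1 := by rw [← hc]; ring
    rwa [h3, mul_one] at this
  · rw [hT, GU_mul_mulVec, hAe, Matrix.mulVec_smul, scalarGU_mulVec, smul_smul, mul_comm]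
    rfl
  · rw [hT, GU_mul_mulVec, hAf, Matrix.mulVec_smul, scalarGU_mulVec, smul_smul]
    congr 1
    show ((α ^ n) ^ 2)⁻¹ * α = ((α * α ^ n) ^ 2)⁻¹
    rw [mul_pow, mul_inv, mul_comm]
    congr 1
    exact eq_inv_of_mul_eq_one_left (by rw [← pow_succ', h3])
  · intro w hw
    rw [hT, GU_mul_mulVec, hAw w ((mem_rest hF).1 hw).1 ((mem_rest hF).1 hw).2, scalarGU_mulVec]
    rfl

/-! ### Transvections as commutators inside a nondegenerate part of the rest -/

/-- For isotropic `u` in a nondegenerate `W ≤ rest` of dimension `≥ 3`, the transvection group of `u`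
consists of commutators of elements of `LS e f` fixing the orthogonal of `W`. -/
theorem exists_RS_commutator (hF : Fintype.card F = 2 ^ 2) (h : Hyp 2 e f)
    {W : Submodule F (Fin n → F)} (hW : Nondeg 2 W) (hWle : W ≤ rest 2 e f) (hd : 3 ≤ finrank F W)
    {u : Fin n → F} (hu : u ∈ W) (hu0 : u ≠ 0) (huu : hermForm n F 2 u u = 0)
    {T : SU n F 2} (hT : T ∈ RS u) (hT1 : T ≠ 1) :
    ∃ a b : SU n F 2, a ∈ LS (q := 2) e f ∧ b ∈ LS (q := 2) e f ∧
      (∀ x, (∀ y ∈ W, hermForm n F 2 x y = 0) → a.1.1 *ᵥ x = x ∧ b.1.1 *ᵥ x = x) ∧ T = ⁅a, b⁆ := by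
  obtain ⟨α, hα0, hα1, hα3, hα⟩ := exists_omega hF
  obtain ⟨t0, ht0, hut⟩ : ∃ t ∈ W, hermForm n F 2 u t ≠ 0 := by
    by_contra hcon
    push Not at hcon
    exact hu0 (hW u hu hcon)
  obtain ⟨j, hj⟩ := exists_isotropic_shift hF huu hut
  have hut' : hermForm n F 2 u (t0 + j • u) ≠ 0 := by
    rwa [herm_add_right _ _ _ hF, herm_smul_right, huu, mul_zero, add_zero]
  have hyp := hyp_of_nonorth hF huu hj hut'
  set u' := ((hermForm n F 2 u (t0 + j • u)) ^ 2)⁻¹ • (t0 + j • u)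
  have hu'W : u' ∈ W := W.smul_mem _ (W.add_mem ht0 (W.smul_mem _ hu))
  obtain ⟨hR, hRd⟩ := nondeg_inf_perp hF hW (hyp.nondeg hF) (Submodule.span_le.2 (by
    rintro v (rfl | rfl)
    exacts [hu, hu'W]))
  rw [(hyp.finrank_span hF).2] at hRd
  obtain ⟨z, hz, hz1⟩ := exists_norm_one_of_nondeg hF hR
    (fun h0 => by rw [h0, finrank_bot] at hRd; omega)
  have hzu : hermForm n F 2 z u = 0 := hz.2 u (Submodule.subset_span (by simp))
  have hαzu : hermForm n F 2 (α • z) u = 0 := by rw [herm_smul_left, hzu, mul_zero]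
  obtain ⟨d, hd1⟩ := exists_eich_param hF z
  obtain ⟨d', hd2⟩ := exists_eich_param hF (α • z)
  obtain ⟨a, ha⟩ := exists_SU_eich hF huu hzu hd1
  obtain ⟨b, hb⟩ := exists_SU_eich hF huu hαzu hd2
  have hfix : ∀ x, (∀ y ∈ W, hermForm n F 2 x y = 0) → a.1.1 *ᵥ x = x ∧ b.1.1 *ᵥ x = x := by
    intro x hx
    have hxu := hx u hu
    have hxz := hx z hz.1
    constructor
    · have := ha x
      rw [suToGU_val] at this
      rw [this, hxu, hxz, mul_zero, sub_zero, zero_smul, zero_smul, add_zero, add_zero]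
    · have := hb x
      rw [suToGU_val] at this
      rw [this, hxu, herm_smul_right, hxz, mul_zero, mul_zero, sub_zero, zero_smul, zero_smul,
        add_zero, add_zero]
  have he' : ∀ y ∈ W, hermForm n F 2 e y = 0 := fun y hy => (rest_swap_herm hF (hWle hy)).1
  have hf' : ∀ y ∈ W, hermForm n F 2 f y = 0 := fun y hy => (rest_swap_herm hF (hWle hy)).2
  refine ⟨a, b, ⟨(hfix e he').1, (hfix f hf').1⟩, ⟨(hfix e he').2, (hfix f hf').2⟩, hfix, ?_⟩
  have hab := ha.mul hF hb huu hzu hαzu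
  have hba := hb.mul hF ha huu hαzu hzu
  rw [← map_mul] at hab hba
  obtain ⟨hc, hTv⟩ := exists_tc hF hyp hT
  set c := tc u' T
  have hc1 : c = 1 := by
    have hc0 : c ≠ 0 := fun h0 => hT1 (suToGU_injective (GU_ext fun x => by
      rw [hTv x, h0, zero_mul, zero_smul, add_zero, map_one, GU_one_mulVec]))
    have : c * (1 + c) = 0 := by rw [← hc]; ring
    have h2 := two_eq_zero hF
    linear_combination (mul_eq_zero.1 this).resolve_left hc0 - h2
  have hTba := ((hTv.eich hF).mul hF hba huu (herm_zero_left u)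
    (by rw [herm_add_left, hzu, hαzu, add_zero]))
  rw [← map_mul, herm_zero_right _ hF, sub_zero, zero_add, add_comm (α • z) z] at hTba
  have hd' : c + (d' + d - hermForm n F 2 z (α • z)) = d + d' - hermForm n F 2 (α • z) z := by
    rw [herm_smul_left, herm_smul_right, hz1, hc1]
    linear_combination (-α ^ 2 + α + 1 - α ^ 2 - α - 1 + 1) * (two_eq_zero hF) * 0 + hα -
      (α ^ 2) * (two_eq_zero hF)
  rw [hd'] at hTba
  have heq : T * (b * a) = a * b := suToGU_injective (hTba.unique hab)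
  rw [eq_mul_inv_of_mul_eq heq, commutatorElement_def]
  group

/-! ### Lifts and their rest parameters -/

/-- `l` times an element of `QS e` with rest parameter `z` lies in `K`. -/
def Lift (e f : Fin n → F) (K : Subgroup (SU n F 2)) (l : SU n F 2) (z : Fin n → F) : Prop :=
  ∃ u ∈ QS (q := 2) e, zp e f u = z ∧ l * u ∈ K

theorem zp_conj_LS (hF : Fintype.card F = 2 ^ 2) (h : Hyp 2 e f) {l X : SU n F 2}
    (hl : l ∈ LS (q := 2) e f) (hX : X ∈ QS e) :
    zp e f (l * X * l⁻¹) = l.1.1 *ᵥ zp e f X := by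
  rw [zp_conj hF h (ζ := 1) (by rw [one_smul]; exact (mem_LS.1 hl).1) hX, one_pow, one_smul,
    proj_of_mem hF (LS_rest hF hl (zp_mem hF h X))]

theorem Lift.mul (hF : Fintype.card F = 2 ^ 2) (h : Hyp 2 e f) {K : Subgroup (SU n F 2)}
    {l m : SU n F 2} {z z' : Fin n → F} (hm : m ∈ LS (q := 2) e f) (h1 : Lift e f K l z)
    (h2 : Lift e f K m z') : Lift e f K (l * m) (m⁻¹.1.1 *ᵥ z + z') := by
  obtain ⟨u, hu, rfl, hlu⟩ := h1
  obtain ⟨u', hu', rfl, hmu⟩ := h2
  have hm' : m⁻¹ ∈ LS (q := 2) e f := inv_mem hm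
  have hc : m⁻¹ * u * m⁻¹⁻¹ ∈ QS e := NS_conj_QS (PS_le_NS e hm'.1) hu
  refine ⟨m⁻¹ * u * m⁻¹⁻¹ * u', mul_mem hc hu', ?_, ?_⟩
  · rw [zp_mul hF h hc hu', zp_conj_LS hF h hm' hu]
  · rw [show l * m * (m⁻¹ * u * m⁻¹⁻¹ * u') = l * u * (m * u') by group]
    exact mul_mem hlu hmu

theorem Lift.unique (hF : Fintype.card F = 2 ^ 2) (h : Hyp 2 e f) {K : Subgroup (SU n F 2)}
    (hA : ∀ a ∈ restPart hF h K, a = 0) {l : SU n F 2} {z z' : Fin n → F} (h1 : Lift e f K l z)
    (h2 : Lift e f K l z') : z = z' := by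
  obtain ⟨u, hu, rfl, hlu⟩ := h1
  obtain ⟨u', hu', rfl, hlu'⟩ := h2
  have hmem : u⁻¹ * u' ∈ K := by
    have := K.mul_mem (K.inv_mem hlu) hlu'
    rwa [_root_.mul_inv_rev, mul_assoc, inv_mul_cancel_left] at this
  have h0 := hA _ ⟨_, ⟨hmem, (QS e).mul_mem ((QS e).inv_mem hu) hu'⟩, rfl⟩
  rw [zp_mul hF h (inv_mem hu) hu', zp_inv hF h hu] at h0
  exact neg_add_eq_zero.1 h0

theorem Lift.one (hF : Fintype.card F = 2 ^ 2) (h : Hyp 2 e f) (K : Subgroup (SU n F 2)) :
    Lift e f K 1 0 := ⟨1, one_mem _, zp_one hF h, by rw [one_mul]; exact one_mem _⟩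

theorem Lift.mem_rest (hF : Fintype.card F = 2 ^ 2) (h : Hyp 2 e f) {K : Subgroup (SU n F 2)}
    {l : SU n F 2} {z : Fin n → F} (h1 : Lift e f K l z) : z ∈ rest 2 e f := by
  obtain ⟨u, -, rfl, -⟩ := h1
  exact zp_mem hF h u

theorem exists_lift_conj (hF : Fintype.card F = 2 ^ 2) (h : Hyp 2 e f) {K : Subgroup (SU n F 2)}
    (hK : ¬ RS e ≤ K) (hA : ∀ a ∈ restPart hF h K, a = 0) {y : Fin n → F} (hy : y ∈ rest 2 e f) :
    ∃ K' : Subgroup (SU n F 2), K'.index = K.index ∧ ¬ RS e ≤ K' ∧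
      (∀ a ∈ restPart hF h K', a = 0) ∧
      ∀ l ∈ LS (q := 2) e f, ∀ z, Lift e f K l z → Lift e f K' l (l⁻¹.1.1 *ᵥ y + z - y) := by
  obtain ⟨v, hv, rfl⟩ := exists_QS_zp hF h hy
  set φ : SU n F 2 ≃* SU n F 2 := MulAut.conj v with hφ
  set K' := K.map φ.toMonoidHom
  have hmemK' : ∀ x, x ∈ K' ↔ v⁻¹ * x * v ∈ K := fun x => by
    constructor
    · rintro ⟨k, hk, rfl⟩
      show v⁻¹ * (v * k * v⁻¹) * v ∈ K
      rwa [show v⁻¹ * (v * k * v⁻¹) * v = k by group]
    · intro hx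
      exact ⟨_, hx, show v * (v⁻¹ * x * v) * v⁻¹ = x by group⟩
  refine ⟨K', Subgroup.index_map_of_bijective φ.bijective K, fun hle => hK fun X hX => ?_, ?_, ?_⟩
  · have h1 := (hmemK' X).1 (hle hX)
    have h2 := commute_RS hF h (g := v⁻¹) ((QS e).inv_mem hv).1 hX
    rw [inv_inv] at h2
    rwa [h2] at h1
  · rintro _ ⟨X, hX, rfl⟩
    have hY : v⁻¹ * X * v ∈ K ⊓ QS e :=
      ⟨(hmemK' X).1 hX.1, (QS e).mul_mem ((QS e).mul_mem ((QS e).inv_mem hv) hX.2) hv⟩
    have := hA _ ⟨_, hY, rfl⟩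
    rw [zp_mul hF h (mul_mem (inv_mem hv) hX.2) hv, zp_mul hF h (inv_mem hv) hX.2,
      zp_inv hF h hv] at this
    rwa [show -zp e f v + zp e f X + zp e f v = zp e f X by abel] at this
  · rintro l hl z ⟨u, hu, rfl, hlu⟩
    have hl' : l⁻¹ ∈ LS (q := 2) e f := inv_mem hl
    have hc : l⁻¹ * v * l⁻¹⁻¹ ∈ QS e := NS_conj_QS (PS_le_NS e hl'.1) hv
    refine ⟨l⁻¹ * v * l⁻¹⁻¹ * u * v⁻¹, mul_mem (mul_mem hc hu) (inv_mem hv), ?_, ?_⟩
    · rw [zp_mul hF h (mul_mem hc hu) (inv_mem hv), zp_mul hF h hc hu, zp_inv hF h hv,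
        zp_conj_LS hF h hl' hv, sub_eq_add_neg]
    · rw [hmemK', show v⁻¹ * (l * (l⁻¹ * v * l⁻¹⁻¹ * u * v⁻¹)) * v = l * u by group]
      exact hlu

/-- A norm-one vector orthogonal to two given vectors. -/
theorem exists_unit_orth_two {q : ℕ} (hF : Fintype.card F = q ^ 2) {W : Submodule F (Fin n → F)}
    (hW : Nondeg q W) (hd : 5 ≤ finrank F W) {y y' : Fin n → F} (hy : y ∈ W) (hy' : y' ∈ W)
    (hyy : hermForm n F q y y = 1) :
    ∃ z ∈ W, hermForm n F q z z = 1 ∧ hermForm n F q z y = 0 ∧ hermForm n F q z y' = 0 := by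
  have hy0 : y ≠ 0 := fun h0 => by simp [h0, herm_zero_left] at hyy
  obtain ⟨hR, hRd⟩ := nondeg_inf_perp hF hW (not_isotropic_of_nondeg hF (hyy ▸ one_ne_zero))
    ((Submodule.span_singleton_le_iff_mem _ _).2 hy)
  rw [finrank_span_singleton hy0] at hRd
  set p := y' - hermForm n F q y' y • y
  have hpR : p ∈ W ⊓ perp q (Submodule.span F {y}) := ⟨W.sub_mem hy' (W.smul_mem _ hy), fun v hv => by
    obtain ⟨t, rfl⟩ := Submodule.mem_span_singleton.1 hv
    rw [herm_smul_right, herm_sub_left, herm_smul_left, hyy, mul_one, sub_self, mul_zero]⟩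
  obtain ⟨R', hR'le, hR', hR'ne, hR'p⟩ : ∃ R' : Submodule F (Fin n → F),
      R' ≤ W ⊓ perp q (Submodule.span F {y}) ∧ Nondeg q R' ∧ R' ≠ ⊥ ∧
        ∀ z ∈ R', hermForm n F q z p = 0 := by
    by_cases hp : p = 0
    · exact ⟨_, le_rfl, hR, fun h0 => by rw [h0, finrank_bot] at hRd; omega,
        fun z _ => by rw [hp, herm_zero_right _ hF]⟩
    · obtain ⟨P, hPR, hpP, hP, hP2⟩ := exists_plane hF hR (by omega) hpR hp
      obtain ⟨h1, h2⟩ := nondeg_inf_perp hF hR hP hPR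
      exact ⟨_, inf_le_left, h1, fun h0 => by rw [h0, finrank_bot] at h2; omega,
        fun z hz => hz.2 p hpP⟩
  obtain ⟨z, hz, hz1⟩ := exists_norm_one_of_nondeg hF hR' hR'ne
  have hzy : hermForm n F q z y = 0 := (hR'le hz).2 y (Submodule.mem_span_singleton_self y)
  refine ⟨z, (hR'le hz).1, hz1, hzy, ?_⟩
  have := hR'p z hz
  rwa [herm_sub_right _ _ _ hF, herm_smul_right, hzy, mul_zero, sub_zero] at this

/-- `n ≡ 0 (mod 3)`, `n ≥ 9`: a conjugate contains `LS`. -/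
theorem exists_conj_LS_three (hF : Fintype.card F = 2 ^ 2) (hn : 8 ≤ n) (hn3 : 3 ∣ n)
    (h : Hyp 2 e f) {K : Subgroup (SU n F 2)} (hK : ¬ RS e ≤ K)
    (hA : ∀ a ∈ restPart hF h K, a = 0) (hS : LS (q := 2) e f ≤ stabPart e K) :
    ∃ K' : Subgroup (SU n F 2), K'.index = K.index ∧ ¬ RS e ≤ K' ∧
      (∀ a ∈ restPart hF h K', a = 0) ∧ LS (q := 2) e f ≤ K' := by
  classical
  obtain ⟨α, hα0, hα1, hα3, hα⟩ := exists_omega hF
  have h2 := two_eq_zero hF
  have hex : ∀ l ∈ LS (q := 2) e f, ∃ z, Lift e f K l z := by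
    intro l hl
    obtain ⟨k, hk, -, u, hu, rfl⟩ := exists_mul_of_mem_stabPart (hS hl)
    exact ⟨_, u⁻¹, inv_mem hu, rfl, by rwa [mul_inv_cancel_right]⟩
  have hW := nondeg_rest hF h
  have hr := finrank_rest hF h
  obtain ⟨w, hwW, hww⟩ := exists_norm_one_of_nondeg hF hW
    (fun h0 => by rw [h0, finrank_bot] at hr; omega)
  have hw0 : w ≠ 0 := fun h0 => by simp [h0, herm_zero_left] at hww
  obtain ⟨hW1, hW1d⟩ := nondeg_inf_perp hF hW (not_isotropic_of_nondeg hF (hww ▸ one_ne_zero))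
    ((Submodule.span_singleton_le_iff_mem _ _).2 hwW)
  rw [finrank_span_singleton hw0] at hW1d
  set W1 := rest 2 e f ⊓ perp 2 (Submodule.span F {w})
  have hW1w : ∀ m ∈ W1, hermForm n F 2 m w = 0 ∧ hermForm n F 2 w m = 0 := fun m hm =>
    ⟨hm.2 w (Submodule.mem_span_singleton_self w),
      herm_eq_zero_symm hF (hm.2 w (Submodule.mem_span_singleton_self w))⟩
  have hsplit : ∀ z ∈ rest 2 e f, z - hermForm n F 2 z w • w ∈ W1 := fun z hz =>
    ⟨(rest 2 e f).sub_mem hz ((rest 2 e f).smul_mem _ hwW), fun v hv => by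
      obtain ⟨t, rfl⟩ := Submodule.mem_span_singleton.1 hv
      rw [herm_smul_right, herm_sub_left, herm_smul_left, hww, mul_one, sub_self, mul_zero]⟩
  have hαN : α * α ^ 2 = 1 := by rw [← pow_succ']; exact hα3
  let z0 : U1 F 2 := ⟨Units.mk0 α hα0, by
    rw [mem_U1_iff]; exact Units.ext (by simpa using hα3)⟩
  obtain ⟨G1, hG1det, hG1e, hG1f, hG1fix⟩ := exists_GU_hyp_scale hF h (inv_ne_zero hα0)
  obtain ⟨G2, hG2det, hG2w, hG2fix⟩ := exists_GU_scale hF hww (inv_norm_one hF hαN)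
  obtain ⟨c, hc⟩ := exists_SU_of_GU (A := scalarGU z0 * G1 * G2) (by
    simp only [Subgroup.coe_mul, Units.val_mul, Matrix.det_mul, hG1det, hG2det, coe_scalarGU,
      Matrix.det_smul, Fintype.card_fin, Matrix.det_one, mul_one]
    show α ^ n * (α⁻¹ * ((α⁻¹) ^ 2)⁻¹) * α⁻¹ = 1
    obtain ⟨k, hk⟩ := hn3
    rw [hk, pow_mul, hα3, one_pow, one_mul, inv_pow, inv_inv]
    field_simp)
  obtain ⟨hwe, hwf⟩ := rest_swap_herm hF hwW
  have hce : c.1.1 *ᵥ e = e := by
    rw [hc, GU_mul_mulVec, GU_mul_mulVec, hG2fix e hwe, hG1e, Matrix.mulVec_smul, scalarGU_mulVec,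
      smul_smul]
    show (α⁻¹ * α) • e = e
    rw [inv_mul_cancel₀ hα0, one_smul]
  have hcf : c.1.1 *ᵥ f = f := by
    rw [hc, GU_mul_mulVec, GU_mul_mulVec, hG2fix f hwf, hG1f, Matrix.mulVec_smul, scalarGU_mulVec,
      smul_smul]
    show (((α⁻¹) ^ 2)⁻¹ * α) • f = f
    rw [inv_pow, inv_inv, ← pow_succ, hα3, one_smul]
  have hcL : c ∈ LS (q := 2) e f := ⟨hce, hcf⟩
  have hcw : c.1.1 *ᵥ w = w := by
    rw [hc, GU_mul_mulVec, GU_mul_mulVec, hG2w, Matrix.mulVec_smul,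
      hG1fix w ((mem_rest hF).1 hwW).1 ((mem_rest hF).1 hwW).2, Matrix.mulVec_smul, scalarGU_mulVec,
      smul_smul]
    show (α⁻¹ * α) • w = w
    rw [inv_mul_cancel₀ hα0, one_smul]
  have hcW1 : ∀ m ∈ W1, c.1.1 *ᵥ m = α • m := fun m hm => by
    rw [hc, GU_mul_mulVec, GU_mul_mulVec, hG2fix m (hW1w m hm).1,
      hG1fix m ((mem_rest hF).1 hm.1).1 ((mem_rest hF).1 hm.1).2, scalarGU_mulVec]
    rfl
  have hcinvW1 : ∀ m ∈ W1, c⁻¹.1.1 *ᵥ m = α⁻¹ • m := fun m hm => by
    have := congrArg (fun x => c⁻¹.1.1 *ᵥ x) (hcW1 m hm)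
    simp only [SU_inv_mulVec, Matrix.mulVec_smul] at this
    conv_rhs => rw [this, smul_smul, inv_mul_cancel₀ hα0, one_smul]
  have hinvfix : ∀ {l : SU n F 2} {v : Fin n → F}, l.1.1 *ᵥ v = v → l⁻¹.1.1 *ᵥ v = v := fun {l v} hl => by
    conv_lhs => rw [← hl, SU_inv_mulVec]
  -- first conjugation
  obtain ⟨zc, hzc⟩ := hex c hcL
  set tw := hermForm n F 2 zc w • w
  have hα' : (1 : F) - α⁻¹ ≠ 0 := sub_ne_zero.2 fun h0 => hα1 (inv_eq_one.1 h0.symm)
  obtain ⟨K1, hidx1, hK1, hA1, hconj1⟩ := exists_lift_conj hF h hK hA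
    (y := (1 - α⁻¹)⁻¹ • (zc - tw))
    ((rest 2 e f).smul_mem _ (hsplit zc (hzc.mem_rest hF h)).1)
  have hex1 : ∀ l ∈ LS (q := 2) e f, ∃ z, Lift e f K1 l z := fun l hl => by
    obtain ⟨z, hz⟩ := hex l hl
    exact ⟨_, hconj1 l hl z hz⟩
  have hc0' : Lift e f K1 c tw := by
    have := hconj1 c hcL zc hzc
    rwa [Matrix.mulVec_smul, hcinvW1 _ (hsplit zc (hzc.mem_rest hF h)), smul_smul,
      show ((1 - α⁻¹)⁻¹ * α⁻¹) • (zc - tw) + zc - (1 - α⁻¹)⁻¹ • (zc - tw) =
        zc - ((1 - α⁻¹)⁻¹ * (1 - α⁻¹)) • (zc - tw) by module,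
      inv_mul_cancel₀ hα', one_smul, sub_sub_cancel] at this
  have hc3 : c * c * c = 1 := by
    refine suToGU_injective (h.ext hF ?_ ?_ fun v hv1 hv2 => ?_)
    · simp only [map_one, GU_one_mulVec, suToGU_val, SU_mul_mulVec, hce]
    · simp only [map_one, GU_one_mulVec, suToGU_val, SU_mul_mulVec, hcf]
    · have hv : v ∈ rest 2 e f := (mem_rest hF).2 ⟨hv1, hv2⟩
      have hm := hsplit v hv
      simp only [map_one, GU_one_mulVec, suToGU_val, SU_mul_mulVec]
      conv_lhs => rw [show v = hermForm n F 2 v w • w + (v - hermForm n F 2 v w • w) by abel]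
      simp only [Matrix.mulVec_add, Matrix.mulVec_smul, hcw, hcW1 _ hm, smul_smul]
      rw [show α * α * α = 1 by rw [← hα3]; ring, one_smul]
      abel
  have htw0 : tw = 0 := by
    have h3 := ((hc0'.mul hF h hcL hc0').mul hF h hcL hc0')
    rw [hc3] at h3
    have h4 := h3.unique hF h hA1 (Lift.one hF h K1)
    have htwfix : c⁻¹.1.1 *ᵥ tw = tw := by rw [Matrix.mulVec_smul, hinvfix hcw]
    rw [Matrix.mulVec_add, htwfix, htwfix, ← two_smul F tw, h2, zero_smul, zero_add] at h4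
    exact h4
  rw [htw0] at hc0'
  have hfw : ∀ l ∈ LS (q := 2) e f, l.1.1 *ᵥ w = w → ∀ z, Lift e f K1 l z →
      z = hermForm n F 2 z w • w := by
    intro l hl hlw z hz
    have hcomm : c * l = l * c := by
      refine suToGU_injective (h.ext hF ?_ ?_ fun v hv1 hv2 => ?_)
      · simp only [suToGU_val, SU_mul_mulVec, hce, (mem_LS.1 hl).1]
      · simp only [suToGU_val, SU_mul_mulVec, hcf, (mem_LS.1 hl).2]
      · have hv : v ∈ rest 2 e f := (mem_rest hF).2 ⟨hv1, hv2⟩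
        have hm := hsplit v hv
        have hlm : l.1.1 *ᵥ (v - hermForm n F 2 v w • w) ∈ W1 := ⟨LS_rest hF hl hm.1, fun x hx => by
          obtain ⟨s, rfl⟩ := Submodule.mem_span_singleton.1 hx
          conv_lhs => arg 5; rw [← hlw, ← Matrix.mulVec_smul]
          rw [SU_herm, herm_smul_right, (hW1w _ hm).1, mul_zero]⟩
        simp only [suToGU_val, SU_mul_mulVec]
        conv_lhs => rw [show v = hermForm n F 2 v w • w + (v - hermForm n F 2 v w • w) by abel]
        conv_rhs => rw [show v = hermForm n F 2 v w • w + (v - hermForm n F 2 v w • w) by abel]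
        simp only [Matrix.mulVec_add, Matrix.mulVec_smul, hlw, hcw, hcW1 _ hm, hcW1 _ hlm]
    have h1 := hc0'.mul hF h hl hz
    have h3 := hz.mul hF h hcL hc0'
    rw [hcomm] at h1
    have := h1.unique hF h hA1 h3
    rw [Matrix.mulVec_zero, zero_add, add_zero] at this
    have hm := hsplit z (hz.mem_rest hF h)
    have e1 : c⁻¹.1.1 *ᵥ z = hermForm n F 2 z w • w + α⁻¹ • (z - hermForm n F 2 z w • w) := by
      conv_lhs => rw [show z = hermForm n F 2 z w • w + (z - hermForm n F 2 z w • w) by abel]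
      rw [Matrix.mulVec_add, Matrix.mulVec_smul, hinvfix hcw, hcinvW1 _ hm]
    rw [← this] at e1
    have : (1 - α⁻¹) • (z - hermForm n F 2 z w • w) = 0 := by
      rw [sub_smul, one_smul, sub_eq_zero]
      exact sub_eq_of_eq_add' e1
    exact sub_eq_zero.1 ((smul_eq_zero.1 this).resolve_left hα')
  have hL1 : ∀ u ∈ W1, u ≠ 0 → hermForm n F 2 u u = 0 → ∀ T ∈ RS (q := 2) u, Lift e f K1 T 0 := by
    intro u hu hu0 huu T hT
    by_cases hT1 : T = 1
    · rw [hT1]; exact Lift.one hF h K1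
    obtain ⟨a, b, ha, hb, hfix, rfl⟩ := exists_RS_commutator hF h hW1 inf_le_left (by omega) hu hu0 huu hT hT1
    obtain ⟨haw, hbw⟩ := hfix w fun y hy => (hW1w y hy).2
    obtain ⟨za, hza⟩ := hex1 a ha
    obtain ⟨zb, hzb⟩ := hex1 b hb
    obtain ⟨za', hza'⟩ := hex1 a⁻¹ (inv_mem ha)
    obtain ⟨zb', hzb'⟩ := hex1 b⁻¹ (inv_mem hb)
    have hfx : ∀ {l : SU n F 2} (z : Fin n → F), l ∈ LS (q := 2) e f → l.1.1 *ᵥ w = w →
        ∀ z', z' = hermForm n F 2 z' w • w → l⁻¹.1.1 *ᵥ z' = z' := fun {l} _ _ hlw z' hz' => by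
      rw [hz', Matrix.mulVec_smul, hinvfix hlw]
    have fa := hfw a ha haw za hza
    have fb := hfw b hb hbw zb hzb
    have ea : za' = -za := by
      have h1 := hza.mul hF h (inv_mem ha) hza'
      rw [mul_inv_cancel] at h1
      have h4 := h1.unique hF h hA1 (Lift.one hF h K1)
      rw [inv_inv, fa, Matrix.mulVec_smul, haw, ← fa] at h4
      exact eq_neg_of_add_eq_zero_right h4
    have eb : zb' = -zb := by
      have h1 := hzb.mul hF h (inv_mem hb) hzb'
      rw [mul_inv_cancel] at h1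
      have h4 := h1.unique hF h hA1 (Lift.one hF h K1)
      rw [inv_inv, fb, Matrix.mulVec_smul, hbw, ← fb] at h4
      exact eq_neg_of_add_eq_zero_right h4
    have hall := ((hza.mul hF h hb hzb).mul hF h (inv_mem ha) hza').mul hF h (inv_mem hb) hzb'
    rw [← commutatorElement_def, ea, eb, inv_inv, inv_inv, hfx za hb hbw za fa] at hall
    have a1 : a.1.1 *ᵥ za = za := by rw [fa, Matrix.mulVec_smul, haw]
    have a2 : a.1.1 *ᵥ zb = zb := by rw [fb, Matrix.mulVec_smul, haw]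
    have b1 : b.1.1 *ᵥ za = za := by rw [fa, Matrix.mulVec_smul, hbw]
    have b2 : b.1.1 *ᵥ zb = zb := by rw [fb, Matrix.mulVec_smul, hbw]
    simp only [Matrix.mulVec_add, Matrix.mulVec_neg, a1, a2, b1, b2] at hall
    rw [show za + zb + -za + -zb = 0 by abel] at hall
    exact hall
  -- a transvection outside
  obtain ⟨y0, hy0W, hy01⟩ := exists_norm_one_of_nondeg hF hW1
    (fun h0 => by rw [h0, finrank_bot] at hW1d; omega)
  set u0 := w + y0 with hu0_def
  have hu0W : u0 ∈ rest 2 e f := (rest 2 e f).add_mem hwW hy0W.1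
  have hu0iso : hermForm n F 2 u0 u0 = 0 := by
    rw [hu0_def, herm_add_left, herm_add_right _ _ _ hF, herm_add_right _ _ _ hF, hww, hy01,
      (hW1w y0 hy0W).1, (hW1w y0 hy0W).2]
    linear_combination h2
  have hu0w : hermForm n F 2 w u0 = 1 := by
    rw [hu0_def, herm_add_right _ _ _ hF, hww, (hW1w y0 hy0W).2, add_zero]
  have hu00 : u0 ≠ 0 := fun h0 => by
    rw [h0, herm_zero_right _ hF] at hu0w; exact zero_ne_one hu0w
  obtain ⟨t, ht⟩ := exists_SU_tv hF hu0iso (c := 1) (by linear_combination h2)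
  have htx : ∀ x, t.1.1 *ᵥ x = x + hermForm n F 2 x u0 • u0 := fun x => by
    have := ht x
    rw [suToGU_val, one_mul] at this
    exact this
  have htL : t ∈ LS (q := 2) e f := by
    refine mem_LS.2 ⟨?_, ?_⟩
    · rw [htx, (rest_swap_herm hF hu0W).1, zero_smul, add_zero]
    · rw [htx, (rest_swap_herm hF hu0W).2, zero_smul, add_zero]
  have htt : t * t = 1 := by
    refine suToGU_injective (GU_ext fun x => ?_)
    rw [map_one, GU_one_mulVec, suToGU_val, SU_mul_mulVec, htx x, Matrix.mulVec_add,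
      Matrix.mulVec_smul, htx x, htx u0, hu0iso, zero_smul, add_zero, add_assoc, ← add_smul,
      ← two_mul, h2, zero_mul, zero_smul, add_zero]
  have htinv : t⁻¹ = t := inv_eq_of_mul_eq_one_right htt
  obtain ⟨zt, hzt⟩ := hex1 t htL
  have hztu : hermForm n F 2 zt u0 = 0 := by
    have h4 := (hzt.mul hF h htL hzt)
    rw [htt] at h4
    have h5 := h4.unique hF h hA1 (Lift.one hF h K1)
    rw [htinv, htx, add_comm zt, add_assoc, ← two_smul F zt, h2, zero_smul, add_zero] at h5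
    exact (smul_eq_zero.1 h5).resolve_right hu00
  have hy00 : y0 ≠ 0 := fun h0 => by simp [h0, herm_zero_left] at hy01
  obtain ⟨hR3, hR3d⟩ := nondeg_inf_perp hF hW1 (not_isotropic_of_nondeg hF (hy01 ▸ one_ne_zero))
    ((Submodule.span_singleton_le_iff_mem _ _).2 hy0W)
  rw [finrank_span_singleton hy00] at hR3d
  set R3 := W1 ⊓ perp 2 (Submodule.span F {y0})
  have hR3u : ∀ m ∈ R3, hermForm n F 2 m u0 = 0 ∧ hermForm n F 2 u0 m = 0 := fun m hm => by
    have h1 : hermForm n F 2 m u0 = 0 := by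
      rw [hu0_def, herm_add_right _ _ _ hF, (hW1w m hm.1).1,
        hm.2 y0 (Submodule.mem_span_singleton_self y0), add_zero]
    exact ⟨h1, herm_eq_zero_symm hF h1⟩
  have horth : ∀ m ∈ R3, m ≠ 0 → hermForm n F 2 m m = 0 → hermForm n F 2 zt m = 0 := by
    intro m hm hm0 hmm
    obtain ⟨s, hs⟩ := exists_SU_tv hF hmm (c := 1) (by linear_combination h2)
    have hsx : ∀ x, s.1.1 *ᵥ x = x + hermForm n F 2 x m • m := fun x => by
      have := hs x
      rw [suToGU_val, one_mul] at this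
      exact this
    obtain ⟨m', hm'⟩ := exists_hyp hF hm0 hmm
    have hsR : s ∈ RS m := (mem_RS_iff hF hm').2 ⟨1, by linear_combination h2, hs⟩
    have hsL : s ∈ LS (q := 2) e f := by
      refine mem_LS.2 ⟨?_, ?_⟩
      · rw [hsx, (rest_swap_herm hF hm.1.1).1, zero_smul, add_zero]
      · rw [hsx, (rest_swap_herm hF hm.1.1).2, zero_smul, add_zero]
    have hs0 := hL1 m hm.1 hm0 hmm s hsR
    have hcomm : s * t = t * s := by
      refine suToGU_injective (GU_ext fun x => ?_)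
      simp only [suToGU_val, SU_mul_mulVec, htx, hsx, herm_add_left, herm_smul_left,
        (hR3u m hm).1, (hR3u m hm).2, mul_zero, add_zero]
      abel
    have h4 := hs0.mul hF h htL hzt
    have h5 := hzt.mul hF h hsL hs0
    rw [hcomm] at h4
    have h6 := h4.unique hF h hA1 h5
    rw [Matrix.mulVec_zero, zero_add, add_zero] at h6
    have h7 : s.1.1 *ᵥ zt = zt := by
      conv_lhs => rw [h6, SU_mulVec_inv]
    rw [hsx, add_eq_left, smul_eq_zero] at h7
    exact h7.resolve_right hm0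
  have hztR3 : ∀ m ∈ R3, hermForm n F 2 zt m = 0 := by
    obtain ⟨⟨a, ha, ha0, hai⟩⟩ := (Nat.card_pos_iff.1 (lt_of_lt_of_le (vmin_pos hF (m := finrank F R3) (by omega))
      (vmin_le_card hF hR3 (c := 0) (by omega) (zero_pow_q hF)))).1
    have hin : ∀ m ∈ R3, hermForm n F 2 m m = 0 → hermForm n F 2 zt m = 0 := fun m hm hmm => by
      by_cases hm0 : m = 0
      · rw [hm0, herm_zero_right _ hF]
      · exact horth m hm hm0 hmm
    have hstep : ∀ x ∈ R3, hermForm n F 2 a x ≠ 0 → hermForm n F 2 zt x = 0 := fun x hx hne => by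
      obtain ⟨s, hs⟩ := exists_isotropic_shift hF hai hne
      have := hin _ (R3.add_mem hx (R3.smul_mem s ha)) hs
      rwa [herm_add_right _ _ _ hF, herm_smul_right, hin a ha hai, mul_zero, add_zero] at this
    obtain ⟨b, hb, hab⟩ : ∃ b ∈ R3, hermForm n F 2 a b ≠ 0 := by
      by_contra hcon
      push Not at hcon
      exact ha0 (hR3 a ha hcon)
    intro x hx
    by_cases hax : hermForm n F 2 a x = 0
    · have := hstep (x + b) (R3.add_mem hx hb) (by rw [herm_add_right _ _ _ hF, hax, zero_add]; exact hab)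
      rwa [herm_add_right _ _ _ hF, hstep b hb hab, add_zero] at this
    · exact hstep x hx hax
  set γ := hermForm n F 2 zt w
  have hztγ : zt = γ • u0 := by
    have hztW := hzt.mem_rest hF h
    set β := hermForm n F 2 zt y0
    have hm : zt - γ • w - β • y0 ∈ R3 := by
      refine ⟨W1.sub_mem (hsplit zt hztW) (W1.smul_mem _ hy0W), fun v hv => ?_⟩
      obtain ⟨s, rfl⟩ := Submodule.mem_span_singleton.1 hv
      rw [herm_smul_right, herm_sub_left, herm_sub_left, herm_smul_left, herm_smul_left,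
        (hW1w y0 hy0W).2, hy01, mul_zero, mul_one, sub_zero, sub_self, mul_zero]
    have hzero : zt - γ • w - β • y0 = 0 := hR3 _ hm fun m hm' => by
      rw [herm_sub_left, herm_sub_left, herm_smul_left, herm_smul_left, hztR3 m hm',
        (hW1w m hm'.1).2, herm_eq_zero_symm hF (hm'.2 y0 (Submodule.mem_span_singleton_self y0))]
      ring
    rw [sub_sub, sub_eq_zero] at hzero
    have h0 := hztu
    rw [hzero, herm_add_left, herm_smul_left, herm_smul_left, hu0w, hu0_def,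
      herm_add_right _ _ _ hF, (hW1w y0 hy0W).1, hy01, zero_add, mul_one, mul_one] at h0
    have hβ : β = γ := by linear_combination h0 - γ * h2
    rw [hzero, hβ, hu0_def, smul_add]
  -- second conjugation
  obtain ⟨K2, hidx2, hK2, hA2, hconj2⟩ := exists_lift_conj hF h hK1 hA1 (y := γ • w)
    ((rest 2 e f).smul_mem _ hwW)
  have hex2 : ∀ l ∈ LS (q := 2) e f, ∃ z, Lift e f K2 l z := fun l hl => by
    obtain ⟨z, hz⟩ := hex1 l hl
    exact ⟨_, hconj2 l hl z hz⟩
  have ht2 : Lift e f K2 t 0 := by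
    have := hconj2 t htL zt hzt
    rw [htinv, Matrix.mulVec_smul, htx, hu0w, one_smul, hztγ, smul_add,
      show γ • w + γ • u0 + γ • u0 - γ • w = (2 * γ) • u0 by module, h2, zero_mul, zero_smul] at this
    exact this
  let M : Subgroup (SU n F 2) :=
    { carrier := {l | l ∈ LS (q := 2) e f ∧ Lift e f K2 l 0}
      one_mem' := ⟨one_mem _, Lift.one hF h K2⟩
      mul_mem' := fun {a b} ha hb => ⟨mul_mem ha.1 hb.1, by
        have := ha.2.mul hF h hb.1 hb.2
        rwa [Matrix.mulVec_zero, zero_add] at this⟩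
      inv_mem' := fun {a} ha => ⟨inv_mem ha.1, by
        obtain ⟨z, hz⟩ := hex2 a⁻¹ (inv_mem ha.1)
        have h1 := hz.mul hF h ha.1 ha.2
        rw [inv_mul_cancel] at h1
        have h4 := h1.unique hF h hA2 (Lift.one hF h K2)
        rw [add_zero] at h4
        have h5 : z = 0 := by rw [← SU_mulVec_inv a z, h4, Matrix.mulVec_zero]
        rwa [h5] at hz⟩ }
  have hRSLS : ∀ u ∈ rest 2 e f, RS u ≤ LS (q := 2) e f := fun u hu T hT =>
    ⟨hT e (rest_swap_herm hF hu).1, hT f (rest_swap_herm hF hu).2⟩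
  have hW1roots : ∀ u ∈ W1, u ≠ 0 → hermForm n F 2 u u = 0 → u ∈ roots M := fun u hu hu0 huu =>
    ⟨hu0, huu, fun T hT => ⟨hRSLS u hu.1 hT, by
      have := hconj2 T (hRSLS u hu.1 hT) 0 (hL1 u hu hu0 huu T hT)
      rwa [Matrix.mulVec_smul, hinvfix (hT w (hW1w u hu).2), add_zero, sub_self] at this⟩⟩
  have hu0roots : u0 ∈ roots M := by
    refine ⟨hu00, hu0iso, fun T hT => ?_⟩
    obtain ⟨u0', hu0'⟩ := exists_hyp hF hu00 hu0iso
    obtain ⟨c', hc', hTv⟩ := (mem_RS_iff hF hu0').1 hT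
    by_cases hc0 : c' = 0
    · rw [show T = 1 from suToGU_injective (GU_ext fun x => by
        rw [hTv x, hc0, zero_mul, zero_smul, add_zero, map_one, GU_one_mulVec])]
      exact M.one_mem
    · have hc1 : c' = 1 := by
        have : c' * (1 + c') = 0 := by rw [← hc']; ring
        linear_combination (mul_eq_zero.1 this).resolve_left hc0 - h2
      rw [show T = t from suToGU_injective (hTv.unique (hc1 ▸ ht))]
      exact ⟨htL, ht2⟩
  have hadj : ∀ y ∈ W1, ∀ y' ∈ W1, hermForm n F 2 y y = 1 → hermForm n F 2 y' y' = 1 →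
      hermForm n F 2 y y' = 0 → w + y ∈ roots M → w + y' ∈ roots M := by
    intro y hy y' hy' hyn hyn' horth' hmem
    have hd0 : y' - y ≠ 0 := fun h0 => by
      rw [sub_eq_zero] at h0
      rw [h0, hyn] at horth'
      exact one_ne_zero horth'
    have hdi : hermForm n F 2 (y' - y) (y' - y) = 0 := by
      rw [herm_sub_left, herm_sub_right _ _ _ hF, herm_sub_right _ _ _ hF, hyn, hyn', horth',
        herm_eq_zero_symm hF horth']
      linear_combination h2
    have := roots_step hF (hW1roots _ (W1.sub_mem hy' hy) hd0 hdi) hmem (c := 1)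
      (by linear_combination h2)
    rwa [herm_add_left, herm_sub_right _ _ _ hF, herm_sub_right _ _ _ hF, (hW1w y' hy').2,
      (hW1w y hy).2, horth', hyn, sub_self, zero_add, zero_sub, one_mul,
      show (-1 : F) = 1 by linear_combination -h2, one_smul,
      show w + y + (y' - y) = w + y' by abel] at this
  have hLSM : LS (q := 2) e f ≤ M := LS_le_of_RS hF (by omega) (by omega) h fun u hu hu0 huu => by
    set a := hermForm n F 2 u w with ha
    set m := u - a • w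
    have hm : m ∈ W1 := hsplit u hu
    have hu_eq : u = a • w + m := by simp [m]
    have hn : a * a ^ 2 + hermForm n F 2 m m = 0 := by
      have h1 : hermForm n F 2 u u = 0 := huu
      rw [hu_eq, herm_add_left, herm_add_right _ _ _ hF, herm_add_right _ _ _ hF, herm_smul_left,
        herm_smul_left, herm_smul_right, herm_smul_right, hww, (hW1w m hm).1, (hW1w m hm).2] at h1
      linear_combination h1
    by_cases ha0 : a = 0
    · rw [ha0, zero_smul, zero_add] at hu_eq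
      exact (hW1roots u (hu_eq ▸ hm) hu0 huu).2.2
    · have hy : a⁻¹ • m ∈ W1 := W1.smul_mem _ hm
      have hy1 : hermForm n F 2 (a⁻¹ • m) (a⁻¹ • m) = 1 := by
        have ha3 : a ^ 3 = 1 := by
          have := FiniteField.pow_card_sub_one_eq_one a ha0
          rwa [hF] at this
        rw [herm_smul_left, herm_smul_right, show hermForm n F 2 m m = 1 by
          linear_combination hn - ha3 - h2 + 0 * a, mul_one, ← pow_succ', inv_pow, ha3, inv_one]
      obtain ⟨z, hz, hz1, hzy, hzy'⟩ := exists_unit_orth_two hF hW1 (by omega) hy0W hy hy01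
      have h1 := hadj y0 hy0W z hz hy01 hz1 (herm_eq_zero_symm hF hzy) hu0roots
      have h3 := hadj z hz _ hy hz1 hy1 hzy' h1
      have h4 := (roots_smul h3 ha0).2.2
      rwa [smul_add, smul_inv_smul₀ ha0, ← hu_eq] at h4
  refine ⟨K2, hidx2.trans hidx1, hK2, hA2, LS_le_of_lifts hF (by omega) (by omega) h fun l hl => ?_⟩
  obtain ⟨u, hu, hzu, hlu⟩ := (hLSM hl).2
  exact ⟨u, mem_RS_of_zp hF h hu hzu, hlu⟩

end Cfsg.Agent.Lib.MinIndexPSU
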