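import Mathlib
import Cfsg.Agent.Lib.MinIndexPSU.TwoCases
import Cfsg.Agent.Lib.MinIndexPSU.FiveRest

/-!
Lib/MinIndexPSU/FiveTwo: trivial rest part in `SU 5` over the field with four elements.
-/

set_option autoImplicit false
set_option linter.unusedSectionVars false

namespace Cfsg.Agent.Lib.MinIndexPSU

open scoped commutatorElement
open Matrix Module Cfsg.Agent.Lib.Unitary Cfsg.Agent.Lib.AutPSU

variable {F : Type*} [Field F] [Fintype F] {n : ℕ} {e f : Fin n → F}

/-- At least `countNull` isotropic vectors in a nondegenerate subspace. -/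
theorem countNull_le_card {q : ℕ} (hF : Fintype.card F = q ^ 2) {W : Submodule F (Fin n → F)}
    (hW : Nondeg q W) :
    countNull F q (finrank F W) ≤ Nat.card {v : Fin n → F // v ∈ W ∧ hermForm n F q v v = 0} := by
  classical
  set m := finrank F W with hmdef
  obtain ⟨g, hg, hgW, -⟩ := exists_orthonormal_of_nondeg hF m W hmdef.symm hW
  rw [countNull]
  refine Nat.card_le_card_of_injective (fun x => ⟨∑ i, x.1 i • g i,
    W.sum_mem fun i _ => W.smul_mem _ (hgW i), ?_⟩) ?_
  · rw [herm_sum_sum hF]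
    simp only [hg _ _, mul_ite, mul_one, mul_zero, Finset.sum_ite_eq, Finset.mem_univ, if_true]
    exact x.2
  · intro x y hxy
    refine Subtype.ext (funext fun j => ?_)
    rw [← orthonormal_coeff hg x.1 j, show (∑ i, x.1 i • g i) = ∑ i, y.1 i • g i from
      congrArg Subtype.val hxy, orthonormal_coeff hg]

/-- Nonzero vectors of each norm in the rest of `SU 5`. -/
theorem five_two_norm_card (hF : Fintype.card F = 2 ^ 2) (hn : n = 5) (h : Hyp 2 e f) {c : F}
    (hc : c ^ 2 = c) :
    25 ≤ Nat.card {v : Fin n → F // v ∈ rest 2 e f ∧ v ≠ 0 ∧ hermForm n F 2 v v = c} := by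
  classical
  have hr := finrank_rest hF h
  have hW := nondeg_rest hF h
  have hr3 : finrank F (rest 2 e f) = 3 := by omega
  by_cases hc0 : c = 0
  · subst hc0
    have h1 := countNull_le_card hF hW
    rw [hr3, countNull_succ_eq hF, if_pos (by decide),
      show (2 ^ (2 + 1) + 1) * (2 ^ 2 - 1) + 1 = 28 by norm_num] at h1
    have h2 : Nat.card {v : Fin n → F // v ∈ rest 2 e f ∧ hermForm n F 2 v v = 0} =
        Nat.card {v : Fin n → F // v ∈ rest 2 e f ∧ v ≠ 0 ∧ hermForm n F 2 v v = 0} + 1 := by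
      rw [Nat.card_eq_fintype_card, Nat.card_eq_fintype_card, Fintype.card_subtype,
        Fintype.card_subtype, ← Finset.card_erase_add_one (s := Finset.univ.filter fun v : Fin n → F =>
          v ∈ rest 2 e f ∧ hermForm n F 2 v v = 0) (a := 0) (by simp [herm_zero_left])]
      congr 1
      exact congrArg _ (by ext v; simp; tauto)
    omega
  · have h1 := countUnit_le_card hF hW hc hc0
    rw [hr3, countUnit_three hF, show 2 ^ 2 * (2 ^ 3 + 1) = 36 by norm_num] at h1
    refine le_trans (le_trans (by norm_num) h1) (Nat.card_le_card_of_injective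
      (fun v => ⟨v.1, v.2.1, fun h0 => hc0 (by rw [← v.2.2, h0, herm_zero_left]), v.2.2⟩)
      fun u v huv => Subtype.ext (congrArg (fun x => x.1) huv))

theorem card_LS_five (hF : Fintype.card F = 2 ^ 2) (hn : n = 5) (h : Hyp 2 e f) :
    Nat.card (LS (q := 2) e f) = 216 := by
  subst hn
  obtain ⟨φ, hinj, hrange, -⟩ := exists_LS_hom (r := 3) hF (by norm_num) h
  have h1 := card_SU (n := 3) hF (by norm_num)
  rw [card_GU hF 3] at h1
  simp only [Finset.prod_range_succ, Finset.prod_range_zero] at h1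
  norm_num [Nat.even_iff] at h1
  have h2 : Nat.card ((LS (q := 2) e f).map (suToGU (3 + 2) F 2)) = Nat.card (LS (q := 2) e f) :=
    Subgroup.card_map_of_injective suToGU_injective
  rw [hrange, Nat.card_congr (MonoidHom.ofInjective hinj).toEquiv.symm] at h2
  omega

/-- A vector of the rest has stabiliser of order at most 8 in `LS`. -/
theorem card_stab_LS_le (hF : Fintype.card F = 2 ^ 2) (hn : n = 5) (h : Hyp 2 e f) {w : Fin n → F}
    (hw : w ∈ rest 2 e f) (hw0 : w ≠ 0) {S : Subgroup (SU n F 2)} (hS : S ≤ LS e f)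
    (hfix : ∀ s ∈ S, s.1.1 *ᵥ w = w) : Nat.card S ≤ 8 := by
  classical
  have h25 := five_two_norm_card hF hn h (herm_self_fixed w hF)
  set T := {v : Fin n → F // v ∈ rest 2 e f ∧ v ≠ 0 ∧ hermForm n F 2 v v = hermForm n F 2 w w}
  choose g hgL hg using fun v : T => exists_LS_vec hF h (by omega) hw v.2.1 hw0 v.2.2.1 v.2.2.2.symm
  have hle : Nat.card (T × S) ≤ Nat.card (LS (q := 2) e f) := by
    refine Nat.card_le_card_of_injective (fun p => ⟨g p.1 * p.2.1, mul_mem (hgL p.1) (hS p.2.2)⟩) ?_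
    rintro ⟨v, s⟩ ⟨v', s'⟩ hvs
    have h1 : g v * s.1 = g v' * s'.1 := congrArg Subtype.val hvs
    have h2 := congrArg (fun X : SU n F 2 => X.1.1 *ᵥ w) h1
    simp only [SU_mul_mulVec, hfix _ s.2, hfix _ s'.2, hg] at h2
    obtain rfl : v = v' := Subtype.ext h2
    exact Prod.ext rfl (Subtype.ext (mul_left_cancel h1))
  rw [Nat.card_prod, card_LS_five hF hn h] at hle
  have := (Nat.mul_le_mul_right (Nat.card S) h25).trans hle
  omega

/-- Factors commuting with everything disappear from commutators. -/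
theorem commutator_mul_central {G : Type*} [Group G] {a b r s : G} (hrb : Commute r b)
    (hrs : Commute r s) (hsa : Commute s a) : ⁅a * r, b * s⁆ = ⁅a, b⁆ := by
  have e1 : a * r * (b * s) = a * b * (r * s) := by
    rw [mul_assoc, ← mul_assoc r b s, hrb.eq]; group
  have e2 : b * s * (a * r) = b * a * (r * s) := by
    rw [mul_assoc, ← mul_assoc s a r, hsa.eq, hrs.eq]; group
  calc ⁅a * r, b * s⁆ = a * r * (b * s) * (b * s * (a * r))⁻¹ := by
        rw [commutatorElement_def]; group
    _ = ⁅a, b⁆ := by rw [e1, e2, commutatorElement_def]; group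

theorem sq_of_mem_RS (hF : Fintype.card F = 2 ^ 2) (h : Hyp 2 e f) {r : SU n F 2} (hr : r ∈ RS e) :
    r ^ 2 = 1 := by
  obtain ⟨-, hT⟩ := exists_tc hF h hr
  have hre : r.1.1 *ᵥ e = e := hr e h.1
  have hx : ∀ x, r.1.1 *ᵥ x = x + (tc f r * hermForm n F 2 x e) • e := fun x => by
    have := hT x
    rwa [suToGU_val] at this
  refine suToGU_injective (GU_ext fun x => ?_)
  rw [pow_two, map_one, GU_one_mulVec, suToGU_val, SU_mul_mulVec, hx x, Matrix.mulVec_add,
    Matrix.mulVec_smul, hre, hx x, add_assoc, ← add_smul, ← two_mul, two_eq_zero hF, zero_mul,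
    zero_smul, add_zero]

/-- The intersection with the parabolic has index `128` there. -/
theorem relIndex_NS_five (hF : Fintype.card F = 2 ^ 2) (hn : n = 5) (h : Hyp 2 e f)
    {K : Subgroup (SU n F 2)} (hK : ¬ RS e ≤ K) (hA : ∀ a ∈ restPart hF h K, a = 0)
    (hS : NS (q := 2) e ≤ stabPart e K) : K.relIndex (NS e) = 128 := by
  classical
  have hB : Nat.card (tvPart hF h K) = 1 := by
    have := two_mul_card_tvPart hF h hK
    have : 0 < Nat.card (tvPart hF h K) := Nat.card_pos
    omega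
  have hAc : Nat.card (restPart hF h K) = 1 := by
    have : Subsingleton (restPart hF h K) :=
      ⟨fun u v => Subtype.ext ((hA _ u.2).trans (hA _ v.2).symm)⟩
    exact Nat.card_of_subsingleton (0 : restPart hF h K)
  have hQ := relIndex_QS_mul hF h K
  rw [hB, hAc, show n - 2 = 3 by omega] at hQ
  norm_num at hQ
  refine le_antisymm ?_ ?_
  · rw [← hQ, Subgroup.relIndex, Subgroup.relIndex, Subgroup.index, Subgroup.index]
    have hex : ∀ s : NS (q := 2) e, ∃ u : QS (q := 2) e, (u.1)⁻¹ * s.1 ∈ K := by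
      intro s
      obtain ⟨k, hk, hkN, u, hu, hs⟩ := exists_mul_of_mem_stabPart (hS (inv_mem s.2))
      refine ⟨⟨u⁻¹, inv_mem hu⟩, ?_⟩
      have hs' : s.1 = u⁻¹ * k⁻¹ := by rw [← _root_.mul_inv_rev, ← hs, inv_inv]
      show u⁻¹⁻¹ * s.1 ∈ K
      rw [hs', inv_inv, mul_inv_cancel_left]
      exact inv_mem hk
    refine Nat.card_le_card_of_surjective
      (Quotient.map' (fun u : QS (q := 2) e => (⟨u.1, QS_le_NS e u.2⟩ : NS (q := 2) e)) ?_) ?_
    · intro a b hab
      rw [QuotientGroup.leftRel_apply] at hab ⊢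
      exact hab
    · intro x
      obtain ⟨s, rfl⟩ := QuotientGroup.mk_surjective x
      obtain ⟨u, hu⟩ := hex s
      exact ⟨QuotientGroup.mk u, QuotientGroup.eq.2 hu⟩
  · rw [← hQ]
    exact Subgroup.relIndex_le_of_le_right (QS_le_NS e) fun h0 =>
      Subgroup.index_ne_zero_of_finite (H := K.subgroupOf (NS e)) h0

/-- The counting argument. -/
theorem index_ge_five_two_of_lifts (hF : Fintype.card F = 2 ^ 2) (hn : n = 5) (h : Hyp 2 e f)
    {K : Subgroup (SU n F 2)} (hK : ¬ RS e ≤ K) (hA : ∀ a ∈ restPart hF h K, a = 0)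
    (hS : NS (q := 2) e ≤ stabPart e K)
    (hlift : ∀ l ∈ LS (q := 2) e f, ∃ r ∈ RS (q := 2) e, l * r ∈ K) : 165 ≤ K.index := by
  classical
  by_contra hd
  push Not at hd
  set P := NS (q := 2) e
  have hP : P.index = 165 := by
    have h1 := index_NS_mul hF (by omega) h
    subst hn
    rw [countNull_succ_eq hF, if_pos (by decide)] at h1
    norm_num at h1
    exact Nat.eq_of_mul_eq_mul_right (by norm_num : 0 < 3) (h1.trans (by norm_num))
  -- commutation with the root group of `e`
  have hc : ∀ {g X : SU n F 2}, g.1.1 *ᵥ e = e → X ∈ RS e → Commute X g := fun hg hX => by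
    have := commute_RS hF h hg hX
    rw [mul_inv_eq_iff_eq_mul] at this
    exact this.symm
  -- root groups of the rest are inside
  have hroot : ∀ u ∈ rest 2 e f, u ≠ 0 → hermForm n F 2 u u = 0 → RS u ≤ K := by
    intro u hu hu0 huu T hT
    by_cases hT1 : T = 1
    · rw [hT1]; exact K.one_mem
    have hr := finrank_rest hF h
    obtain ⟨a, b, ha, hb, -, rfl⟩ :=
      exists_RS_commutator hF h (nondeg_rest hF h) le_rfl (by omega) hu hu0 huu hT hT1
    obtain ⟨r, hr', har⟩ := hlift a ha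
    obtain ⟨s, hs, hbs⟩ := hlift b hb
    rw [← commutator_mul_central (hc (mem_LS.1 hb).1 hr') (hc (hs e h.1) hr') (hc (mem_LS.1 ha).1 hs),
      commutatorElement_def]
    exact mul_mem (mul_mem (mul_mem har hbs) (inv_mem har)) (inv_mem hbs)
  have hpure : ∀ k ∈ K, k.1.1 *ᵥ e ∉ rest 2 e f := by
    intro k hk hke
    refine hK fun S hS' => ?_
    have hk0 : k.1.1 *ᵥ e ≠ 0 := fun h0 => ne_zero_of_hyp h (by
      rw [← SU_inv_mulVec k e, h0, Matrix.mulVec_zero])
    have h1 := hroot _ hke hk0 (by rw [SU_herm, h.1]) (RS_conj k hS')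
    have h2 := K.mul_mem (K.mul_mem (K.inv_mem hk) h1) hk
    rwa [show k⁻¹ * (k * S * k⁻¹) * k = S by group] at h2
  -- the three-group
  have hLS := card_LS_five hF hn h
  haveI : Fact (Nat.Prime 3) := ⟨Nat.prime_three⟩
  obtain ⟨R0, hR0⟩ := Sylow.exists_subgroup_card_pow_prime (G := LS (q := 2) e f) 3 (n := 3)
    (by rw [hLS]; norm_num)
  set R : Subgroup (SU n F 2) := R0.map (LS (q := 2) e f).subtype with hRdef
  have hRcard : Nat.card R = 27 := by
    rw [hRdef, Subgroup.card_map_of_injective (Subgroup.subtype_injective _), hR0]; norm_num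
  have hRL : R ≤ LS e f := Subgroup.map_subtype_le R0
  have hRK : R ≤ K := by
    intro x hx
    obtain ⟨r, hr, hxr⟩ := hlift x (hRL hx)
    have h27 : x ^ 27 = 1 := by
      have := congrArg Subtype.val (pow_card_eq_one' (x := (⟨x, hx⟩ : R)))
      rwa [hRcard] at this
    have := K.pow_mem hxr 28
    rwa [(hc (mem_LS.1 (hRL hx)).1 hr).symm.mul_pow, show (28 : ℕ) = 27 + 1 by rfl,
      pow_succ x, h27, one_mul, show (27 : ℕ) + 1 = 2 * 14 by rfl, pow_mul, sq_of_mem_RS hF h hr,
      one_pow, mul_one] at this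
  -- points
  let Q := SU n F 2 ⧸ P
  have : Fintype Q := Fintype.ofFinite _
  let v : Q → Fin n → F := fun X => X.out.1.1 *ᵥ e
  have hv : ∀ g : SU n F 2, ∃ μ : F, μ ≠ 0 ∧ g.1.1 *ᵥ e = μ • v (g : Q) := by
    intro g
    obtain ⟨μ, hμ, he⟩ := QuotientGroup.eq.1 (QuotientGroup.out_eq' (g : Q))
    refine ⟨μ, hμ, ?_⟩
    have := congrArg (fun x => (Quotient.out (g : Q)).1.1 *ᵥ x) he
    simpa only [SU_mul_mulVec, SU_mulVec_inv, Matrix.mulVec_smul] using this
  have hvact : ∀ (x : SU n F 2) (X : Q), ∃ μ : F, μ ≠ 0 ∧ x.1.1 *ᵥ v X = μ • v (x • X) := by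
    intro x X
    obtain ⟨μ, hμ, he⟩ := hv (x * X.out)
    refine ⟨μ, hμ, ?_⟩
    rw [SU_mul_mulVec] at he
    rw [he, show ((x * X.out : SU n F 2) : Q) = x • X by
      conv_rhs => rw [← QuotientGroup.out_eq' X]
      rfl]
  set Ω : Finset Q := Finset.univ.filter fun X => ∃ k ∈ K, ((k : SU n F 2) : Q) = X with hΩ
  have hΩinv : ∀ x ∈ R, ∀ X ∈ Ω, x • X ∈ Ω := fun x hx X hX => by
    obtain ⟨k, hk, rfl⟩ := (Finset.mem_filter.1 hX).2
    exact Finset.mem_filter.2 ⟨Finset.mem_univ _, x * k, mul_mem (hRK hx) hk, rfl⟩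
  have hΩv : ∀ X ∈ Ω, v X ∉ rest 2 e f := fun X hX hX' => by
    obtain ⟨k, hk, rfl⟩ := (Finset.mem_filter.1 hX).2
    obtain ⟨μ, -, he⟩ := hv k
    exact hpure k hk (he ▸ (rest 2 e f).smul_mem _ hX')
  -- size of the orbit
  have hcard : Ω.card * K.index = 21120 := by
    have hO : Ω.card = P.relIndex K := by
      rw [Subgroup.relIndex, show P.subgroupOf K = MulAction.stabilizer K ((1 : SU n F 2) : Q) by
        ext k
        rw [MulAction.mem_stabilizer_iff, Subgroup.mem_subgroupOf]
        show _ ↔ ((k.1 * 1 : SU n F 2) : Q) = _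
        rw [QuotientGroup.eq, mul_one, mul_one, inv_mem_iff],
        MulAction.index_stabilizer, ← Set.ncard_coe_finset]
      congr 1
      ext X
      rw [Finset.mem_coe, MulAction.mem_orbit_iff, hΩ, Finset.mem_filter]
      constructor
      · rintro ⟨-, k, hk, rfl⟩
        exact ⟨⟨k, hk⟩, by
          show ((k * 1 : SU n F 2) : Q) = _
          rw [mul_one]⟩
      · rintro ⟨⟨k, hk⟩, rfl⟩
        exact ⟨Finset.mem_univ _, k, hk, by
          show (k : Q) = ((k * 1 : SU n F 2) : Q)
          rw [mul_one]⟩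
    have h1 := Subgroup.relIndex_mul_index (inf_le_right : P ⊓ K ≤ K)
    have h2 := Subgroup.relIndex_mul_index (inf_le_left : P ⊓ K ≤ P)
    rw [Subgroup.inf_relIndex_right] at h1
    rw [Subgroup.inf_relIndex_left, relIndex_NS_five hF hn h hK hA hS, hP] at h2
    rw [hO, h1, ← h2]
  have hΩlt : Ω.card < 165 := by
    have hcu : Fintype.card Q = 165 := by
      rw [← Nat.card_eq_fintype_card]; exact hP
    rw [← hcu]
    have hr := finrank_rest hF h
    have hpos := lt_of_lt_of_le (vmin_pos hF (m := finrank F (rest 2 e f)) (by omega))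
      (vmin_le_card hF (nondeg_rest hF h) (c := 0) (by omega) (zero_pow_q hF))
    obtain ⟨⟨w, hw, hw0, hww⟩⟩ := (Nat.card_pos_iff.1 hpos).1
    obtain ⟨A, hdet, hAe⟩ := exists_SU_isotropic hF (by omega) (ne_zero_of_hyp h) h.1 hw0 hww
    obtain ⟨g, hg⟩ := exists_SU_of_GU hdet
    refine Finset.card_lt_univ_of_notMem (x := (g : Q)) fun hmem => hΩv _ hmem ?_
    obtain ⟨μ, hμ, he⟩ := hv g
    rw [show g.1.1 *ᵥ e = w by rw [← hAe, ← hg]] at he
    exact (Submodule.smul_mem_iff _ hμ).1 (he ▸ hw)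
  -- few plane points
  set Sm := Ω.filter fun X => proj 2 e f (v X) = 0 with hSm
  set Bg := Ω.filter fun X => proj 2 e f (v X) ≠ 0 with hBg
  have hsm : Sm.card ≤ 3 := by
    let p : Fin 3 → Fin n → F := ![e, f, e + f]
    have hp : ∀ X : Sm, ∃ i, ∃ μ : F, μ ≠ 0 ∧ v X.1 = μ • p i := by
      rintro ⟨X, hX⟩
      have hproj := (Finset.mem_filter.1 hX).2
      set a := hermForm n F 2 (v X) f
      set b := hermForm n F 2 (v X) e
      have hvab : v X = a • e + b • f := by
        have := eq_proj (q := 2) (e := e) (f := f) (v X)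
        rwa [hproj, add_zero] at this
      have hiso : hermForm n F 2 (v X) (v X) = 0 := by rw [SU_herm, h.1]
      rw [hvab] at hiso
      simp only [herm_add_left, herm_add_right _ _ _ hF, herm_smul_left, herm_smul_right, h.1,
        h.2.1, h.2.2, h.symm' hF] at hiso
      have hne : v X ≠ 0 := fun h0 => ne_zero_of_hyp h (by
        rw [← SU_inv_mulVec X.out e, show X.out.1.1 *ᵥ e = v X from rfl, h0, Matrix.mulVec_zero])
      have hab : a * b * (a + b) = 0 := by linear_combination hiso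
      rcases mul_eq_zero.1 hab with h1 | h1
      · rcases mul_eq_zero.1 h1 with h0 | h0
        · refine ⟨1, b, fun hb => hne ?_, ?_⟩
          · rw [hvab, h0, hb, zero_smul, zero_smul, add_zero]
          · rw [hvab, h0, zero_smul, zero_add]; rfl
        · refine ⟨0, a, fun ha => hne ?_, ?_⟩
          · rw [hvab, h0, ha, zero_smul, zero_smul, add_zero]
          · rw [hvab, h0, zero_smul, add_zero]; rfl
      · have hba : b = a := by linear_combination h1 - a * two_eq_zero hF
        refine ⟨2, a, fun ha => hne ?_, ?_⟩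
        · rw [hvab, hba, ha, zero_smul, zero_smul, add_zero]
        · rw [hvab, hba, ← smul_add]; rfl
    choose i μ hμ hvi using hp
    have : Nat.card Sm ≤ Nat.card (Fin 3) := by
      refine Nat.card_le_card_of_injective i fun X Y hXY => Subtype.ext ?_
      rw [← QuotientGroup.out_eq' X.1, ← QuotientGroup.out_eq' Y.1]
      refine QuotientGroup.eq.2 ⟨μ Y * (μ X)⁻¹, mul_ne_zero (hμ Y) (inv_ne_zero (hμ X)), ?_⟩
      rw [SU_mul_mulVec, show (Y.1.out).1.1 *ᵥ e = v Y.1 from rfl, hvi, ← hXY,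
        show p (i X) = (μ X)⁻¹ • v X.1 by rw [hvi, inv_smul_smul₀ (hμ X)],
        Matrix.mulVec_smul, Matrix.mulVec_smul, SU_inv_mulVec, smul_smul]
    simpa [Nat.card_eq_fintype_card] using this
  -- the others come in orbits divisible by nine
  have hproj_act : ∀ x ∈ R, ∀ X : Q, proj 2 e f (v X) ≠ 0 → proj 2 e f (v (x • X)) ≠ 0 := by
    intro x hx X hX h0
    obtain ⟨μ, hμ, he⟩ := hvact x X
    have hxL := hRL hx
    apply hX
    have h1 : proj 2 e f (x.1.1 *ᵥ v X) = 0 := by rw [he, proj_smul, h0, smul_zero]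
    rw [eq_proj (q := 2) (e := e) (f := f) (v X), Matrix.mulVec_add, Matrix.mulVec_add,
      Matrix.mulVec_smul, Matrix.mulVec_smul, (mem_LS.1 hxL).1, (mem_LS.1 hxL).2, proj_add,
      proj_plane hF h, zero_add, proj_of_mem hF (LS_rest hF hxL (proj_mem hF h _))] at h1
    rw [← SU_inv_mulVec x (proj 2 e f (v X)), h1, Matrix.mulVec_zero]
  have hBg9 : 9 ∣ Bg.card := by
    rw [Finset.card_eq_sum_card_fiberwise (f := fun X => MulAction.orbit R X)
      (t := Bg.image fun X => MulAction.orbit R X)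
      (fun X hX => Finset.mem_image_of_mem _ hX)]
    refine Finset.dvd_sum fun o ho => ?_
    obtain ⟨X, hX, rfl⟩ := Finset.mem_image.1 ho
    obtain ⟨hXΩ, hXp⟩ := Finset.mem_filter.1 hX
    have hfib : ((Bg.filter fun Y => MulAction.orbit R Y = MulAction.orbit R X : Finset Q) : Set Q) =
        MulAction.orbit R X := by
      ext Y
      simp only [Finset.coe_filter, Set.mem_setOf_eq]
      constructor
      · rintro ⟨-, hY⟩; exact hY ▸ MulAction.mem_orbit_self Y
      · intro hY
        refine ⟨?_, MulAction.orbit_eq_iff.2 hY⟩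
        obtain ⟨⟨x, hx⟩, rfl⟩ := hY
        exact Finset.mem_filter.2 ⟨hΩinv x hx X hXΩ, hproj_act x hx X hXp⟩
    rw [← Set.ncard_coe_finset, hfib, ← MulAction.index_stabilizer]
    set St := MulAction.stabilizer R X
    have h8 : Nat.card St ≤ 8 := by
      rw [← Subgroup.card_map_of_injective (K := St) (f := R.subtype) (Subgroup.subtype_injective R)]
      refine card_stab_LS_le hF hn h (proj_mem hF h (v X)) hXp
        ((Subgroup.map_subtype_le St).trans hRL) ?_
      rintro _ ⟨⟨x, hx⟩, hxs, rfl⟩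
      show x.1.1 *ᵥ _ = _
      obtain ⟨hxe, hxf⟩ := mem_LS.1 (hRL hx)
      obtain ⟨μ, hμ, he⟩ := hvact x X
      rw [show x • X = X from hxs] at he
      have hplane : ∀ p, x.1.1 *ᵥ p = p → hermForm n F 2 (v X) p = μ * hermForm n F 2 (v X) p :=
        fun p hp => by
          conv_lhs => rw [← SU_herm x, hp, he, herm_smul_left]
      have hμ1 : μ = 1 := by
        by_contra hne
        have hz : ∀ p, x.1.1 *ᵥ p = p → hermForm n F 2 (v X) p = 0 := fun p hp => by
          have : (μ - 1) * hermForm n F 2 (v X) p = 0 := by linear_combination -(hplane p hp)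
          exact (mul_eq_zero.1 this).resolve_left (sub_ne_zero.2 hne)
        exact hΩv X hXΩ ((mem_rest hF).2 ⟨hz e hxe, hz f hxf⟩)
      rw [hμ1, one_smul] at he
      simp only [proj, Matrix.mulVec_sub, Matrix.mulVec_smul, hxe, hxf, he]
    have hmul := St.card_mul_index
    rw [hRcard] at hmul
    have hdvd : Nat.card St ∣ 3 ^ 3 := ⟨St.index, by rw [hmul]; norm_num⟩
    obtain ⟨j, hj, hjc⟩ := (Nat.dvd_prime_pow Nat.prime_three).1 hdvd
    rw [hjc] at hmul h8
    interval_cases j <;> omega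
  have hsum : Sm.card + Bg.card = Ω.card := Finset.card_filter_add_card_filter_not _
  obtain ⟨k, hk⟩ := hBg9
  generalize Ω.card = O at *
  have hlow : 128 < O := by nlinarith
  interval_cases O <;> omega

/-- `SU 5` over four elements, trivial rest part. -/
theorem index_ge_five_two (hF : Fintype.card F = 2 ^ 2) (hn : n = 5) (h : Hyp 2 e f)
    {K : Subgroup (SU n F 2)} (hK : ¬ RS e ≤ K) (hA : ∀ a ∈ restPart hF h K, a = 0) :
    countNull F 2 n - 1 ≤ K.index * (2 ^ 2 - 1) := by
  have hcn : countNull F 2 n - 1 = 495 := by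
    subst hn
    rw [countNull_succ_eq hF, if_pos (by decide)]
    norm_num
  rw [hcn]
  rcases index_ge_or_stab_eq hF (by omega) h hK hA with hd | hS
  · rw [show 2 * n - 1 = 9 by omega, show 2 ^ n = 32 by rw [hn]; norm_num] at hd; omega
  obtain ⟨T, ζ, α, hζ, hα, hne, hTe, hTf, hTw⟩ := exists_scalar_levi hF h (by omega)
  obtain ⟨K', hidx, hK', hA', hlift, -⟩ := exists_conj_lifts hF h hK hA
    (fun l hl => hS (PS_le_NS e hl.1)) hζ hα hne hTe hTf hTw (hS ⟨ζ, hζ, hTe⟩)
  rcases index_ge_or_stab_eq hF (by omega) h hK' hA' with hd | hS'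
  · rw [show 2 * n - 1 = 9 by omega, show 2 ^ n = 32 by rw [hn]; norm_num, hidx] at hd; omega
  have := index_ge_five_two_of_lifts hF hn h hK' hA' hS' hlift
  omega

end Cfsg.Agent.Lib.MinIndexPSU
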