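import Mathlib
import Cfsg.Agent.Lib.MinIndexPSU.FiveTwo

/-!
Lib/MinIndexPSU/SixRest: nontrivial rest part in `SU 6` over the field with four elements.
-/

set_option autoImplicit false
set_option linter.unusedSectionVars false

namespace Cfsg.Agent.Lib.MinIndexPSU

open Matrix Module Cfsg.Agent.Lib.Unitary Cfsg.Agent.Lib.AutPSU

variable {F : Type*} [Field F] [Fintype F] {n : ℕ} {e f : Fin n → F}

/-- Each isotropic vector of a four-dimensional space has at least 32 hyperbolic partners. -/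
theorem partners_card (hF : Fintype.card F = 2 ^ 2) {W : Submodule F (Fin n → F)} (hW : Nondeg 2 W)
    (hd : finrank F W = 4) {x : Fin n → F} (hxW : x ∈ W) (hx0 : x ≠ 0)
    (hxx : hermForm n F 2 x x = 0) :
    32 ≤ Nat.card {y : Fin n → F // y ∈ W ∧ hermForm n F 2 y x = 1 ∧ hermForm n F 2 y y = 0} := by
  classical
  obtain ⟨y0, hy0W, hy0x, hy00, -⟩ := exists_second hF hW (by omega) hxW hx0 (b := 1) (c := 0)
    (zero_pow_q hF) (fun hh => one_ne_zero hh.2.1)
  have hxy0 : hermForm n F 2 x y0 = 1 := by rw [← herm_conj y0 x hF, hy0x, one_pow]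
  have hyp : Hyp 2 x y0 := ⟨hxx, hy00, hxy0⟩
  have hPW : Submodule.span F ({x, y0} : Set (Fin n → F)) ≤ W := Submodule.span_le.2 (by
    rintro v (rfl | rfl)
    exacts [hxW, hy0W])
  obtain ⟨hR, hRd⟩ := nondeg_inf_perp hF hW (hyp.nondeg hF) hPW
  rw [(hyp.finrank_span hF).2, hd] at hRd
  set R := W ⊓ perp 2 (Submodule.span F ({x, y0} : Set (Fin n → F)))
  have hR16 : Nat.card R = 16 := by
    rw [natCard_sub hF, show finrank F R = 2 by omega]; norm_num
  have hzx : ∀ z : R, hermForm n F 2 z.1 x = 0 ∧ hermForm n F 2 z.1 y0 = 0 := fun z =>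
    ⟨z.2.2 x (Submodule.subset_span (by simp)), z.2.2 y0 (Submodule.subset_span (by simp))⟩
  choose t0 ht0 using fun z : R => trace_surj hF (herm_self_fixed z.1 hF)
  let i0 : Fin 2 → F := ![0, 1]
  have hi0 : ∀ i, i0 i + i0 i ^ 2 = 0 := fun i => by
    fin_cases i
    · simp [i0]
    · show (1 : F) + 1 ^ 2 = 0
      linear_combination two_eq_zero hF
  rw [← show Nat.card (R × Fin 2) = 32 by rw [Nat.card_prod, hR16, Nat.card_fin]]
  refine Nat.card_le_card_of_injective (fun p => ⟨y0 + p.1.1 + (t0 p.1 + i0 p.2) • x,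
    W.add_mem (W.add_mem hy0W p.1.2.1) (W.smul_mem _ hxW), ?_, ?_⟩) ?_
  · rw [herm_add_left, herm_add_left, herm_smul_left, hy0x, (hzx p.1).1, hxx, mul_zero, add_zero,
      add_zero]
  · obtain ⟨h1, h2⟩ := hzx p.1
    simp only [herm_add_left, herm_add_right _ _ _ hF, herm_smul_left, herm_smul_right, hy0x, hxy0,
      hy00, hxx, h1, h2, herm_eq_zero_symm hF h1, herm_eq_zero_symm hF h2, mul_zero, mul_one,
      zero_add, add_zero, add_pow_q hF]
    linear_combination (ht0 p.1) + hi0 p.2 + hermForm n F 2 p.1.1 p.1.1 * two_eq_zero hF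
  · rintro ⟨z, i⟩ ⟨z', i'⟩ heq
    have h1 : y0 + z.1 + (t0 z + i0 i) • x = y0 + z'.1 + (t0 z' + i0 i') • x :=
      congrArg Subtype.val heq
    have h2 := congrArg (fun v => hermForm n F 2 v y0) h1
    simp only [herm_add_left, herm_smul_left, hy00, (hzx z).2, (hzx z').2, hxy0, mul_one, zero_add] at h2
    rw [h2] at h1
    obtain rfl : z = z' := Subtype.ext (add_left_cancel (add_right_cancel h1))
    have h3 := add_left_cancel h2
    refine Prod.ext rfl ?_
    fin_cases i <;> fin_cases i' <;> simp [i0] at h3 ⊢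

theorem le_card_hyp_pairs (hF : Fintype.card F = 2 ^ 2) (h : Hyp 2 e f) (hn : n = 6) :
    3584 ≤ (pairs 2 e f 0 1 0).ncard := by
  classical
  have hr := finrank_rest hF h
  have hd : finrank F (rest 2 e f) = 4 := by omega
  have hX := vmin_le_card hF (nondeg_rest hF h) (c := 0) (by omega) (zero_pow_q hF)
  rw [hd] at hX
  have h112 : 112 ≤ Nat.card {v : Fin n → F // v ∈ rest 2 e f ∧ v ≠ 0 ∧ hermForm n F 2 v v = 0} :=
    le_trans (by norm_num [vmin]) hX
  have hY := fun x : {v : Fin n → F // v ∈ rest 2 e f ∧ v ≠ 0 ∧ hermForm n F 2 v v = 0} =>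
    partners_card hF (nondeg_rest hF h) hd x.2.1 x.2.2.1 x.2.2.2
  refine le_trans (Nat.mul_le_mul_right 32 h112) (le_trans (le_of_eq ?_)
    (le_trans (Finset.sum_le_sum fun x (_ : x ∈ Finset.univ) => hY x) ?_))
  · rw [Finset.sum_const, Finset.card_univ, smul_eq_mul, Nat.card_eq_fintype_card]
  · rw [← Nat.card_sigma, ← Nat.card_coe_set_eq]
    refine Nat.card_le_card_of_injective (fun p =>
      ⟨![p.1.1, p.2.1], fun i => ?_, li_of_not_mul p.1.2.2.1 (fun a ha => ?_), p.1.2.2.2, p.2.2.2.1,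
        p.2.2.2.2⟩) ?_
    · fin_cases i
      · exact p.1.2.1
      · exact p.2.2.1
    · have h1 := p.2.2.2.1
      rw [ha, herm_smul_left, p.1.2.2.2, mul_zero] at h1
      exact zero_ne_one h1
    · rintro ⟨x, y⟩ ⟨x', y'⟩ hxy
      have h1 := congrArg Subtype.val hxy
      have hx : x = x' := Subtype.ext (congrFun h1 0)
      subst hx
      exact Sigma.subtype_ext rfl (congrFun h1 1)

/-- A nontrivial rest part gives index at least `672`. -/
theorem index_ge_restPart_six (hF : Fintype.card F = 2 ^ 2) (h : Hyp 2 e f) (hn : n = 6)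
    {K : Subgroup (SU n F 2)} (hK : ¬ RS e ≤ K) {a0 : Fin n → F} (ha0 : a0 ∈ restPart hF h K)
    (ha00 : a0 ≠ 0) : 672 ≤ K.index := by
  classical
  have hmain := main_ineq hF h (by omega) hK
  obtain ⟨c0, hc0, hc0B⟩ := exists_not_mem_tvPart hF h hK
  have hAW : ∀ a ∈ restPart hF h K, a ∈ rest 2 e f := fun a ha => restPart_le hF h K ha
  have hB : ∀ b ∈ tvPart hF h K, b = 0 := by
    have h1 := two_mul_card_tvPart hF h hK
    have h0 : 0 < Nat.card (tvPart hF h K) := Nat.card_pos
    have : Subsingleton (tvPart hF h K) := (Nat.card_eq_one_iff_unique.1 (by omega)).1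
    intro b hb
    exact congrArg Subtype.val (Subsingleton.elim (⟨b, hb⟩ : tvPart hF h K) 0)
  have hsym : ∀ a ∈ restPart hF h K, ∀ b ∈ restPart hF h K,
      hermForm n F 2 a b = hermForm n F 2 b a := fun a ha b hb =>
    sub_eq_zero.1 (hB _ (pairing_mem hF h ha hb))
  have hcard : Nat.card (restPart hF h K) ≤ 16 := by
    have := card_le_of_pairing hF h (restPart hF h K) hAW (tvPart hF h K)
      (fun a ha b hb => pairing_mem hF h ha hb) hc0 hc0B
    rwa [show n - 2 = 4 by omega, show (2 : ℕ) ^ 4 = 16 by norm_num] at this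
  rw [show n - 2 = 4 by omega, show (2 : ℕ) ^ (2 * 4) * 2 = 512 by norm_num] at hmain
  generalize restPart hF h K = A at *
  set X := (restOrbit 2 e f (A : Set (Fin n → F))).ncard
  have hr := finrank_rest hF h
  have hd : finrank F (rest 2 e f) = 4 := by omega
  by_cases h8 : Nat.card A ≤ 8
  · let T : Set (Fin 1 → Fin n → F) := {v | v 0 ∈ rest 2 e f ∧ v 0 ≠ 0 ∧
      hermForm n F 2 (v 0) (v 0) = hermForm n F 2 a0 a0}
    have hT : 112 ≤ T.ncard := by
      have := vmin_le_card hF (nondeg_rest hF h) (c := hermForm n F 2 a0 a0) (by omega)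
        (herm_self_fixed a0 hF)
      rw [hd] at this
      refine le_trans (le_trans (by norm_num [vmin]) this) ?_
      rw [← Nat.card_coe_set_eq]
      exact Nat.card_le_card_of_injective (fun v => ⟨fun _ => v.1, v.2⟩)
        fun u v huv => Subtype.ext (congrFun (congrArg Subtype.val huv) 0)
    have hcov := card_targets_le (q := 2) (e := e) (f := f) (A : Set (Fin n → F)) T fun v hv => by
      obtain ⟨l, hl, hlv⟩ := exists_LS_vec hF h (by omega) (hAW a0 ha0) hv.1 ha00 hv.2.1 hv.2.2.symm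
      exact ⟨l, hl, fun i => ⟨a0, ha0, by rw [Subsingleton.elim i 0]; exact hlv⟩⟩
    rw [pow_one] at hcov
    have h1 : 512 * 112 ≤ K.index * Nat.card A * Nat.card A := by
      calc 512 * 112 ≤ 512 * (X * Nat.card A) := Nat.mul_le_mul_left _ (hT.trans hcov)
        _ = 512 * X * Nat.card A := by ring
        _ ≤ _ := Nat.mul_le_mul_right _ hmain
    have h2 : K.index * Nat.card A * Nat.card A ≤ K.index * 8 * 8 :=
      Nat.mul_le_mul (Nat.mul_le_mul_left _ h8) h8
    omega
  suffices hX : 21 ≤ X by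
    have h1 := (Nat.mul_le_mul_left 512 hX).trans (hmain.trans (Nat.mul_le_mul_left _ hcard))
    omega
  -- halves
  have hhalf : ∀ (g : (Fin n → F) → F), (∀ a ∈ A, g a = 0 ∨ g a = 1) →
      (∀ a ∈ A, ∀ b ∈ A, g (a + b) = g a + g b) →
      Nat.card {a : A // g a.1 = 1} ≤ 8 ∧
        ((∃ u ∈ A, g u = 1) → Nat.card A ≤ 2 * Nat.card {a : A // g a.1 = 1}) := by
    intro g hg hadd
    have hsplit : Nat.card A = Nat.card {a : A // g a.1 = 1} + Nat.card {a : A // g a.1 ≠ 1} := by
      rw [← Nat.card_sum]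
      exact Nat.card_congr (Equiv.sumCompl _).symm
    by_cases hu : ∃ u ∈ A, g u = 1
    · obtain ⟨u, huA, hu1⟩ := hu
      have hone : (1 : F) + 1 = 0 := by linear_combination two_eq_zero hF
      have h1 : Nat.card {a : A // g a.1 = 1} ≤ Nat.card {a : A // g a.1 ≠ 1} :=
        Nat.card_le_card_of_injective (fun a => ⟨⟨a.1.1 + u, A.add_mem a.1.2 huA⟩, by
          rw [hadd _ a.1.2 _ huA, a.2, hu1, hone]; exact zero_ne_one⟩)
          fun a b hab => Subtype.ext (Subtype.ext (add_right_cancel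
            (congrArg (fun z => z.1.1) hab)))
      have h2 : Nat.card {a : A // g a.1 ≠ 1} ≤ Nat.card {a : A // g a.1 = 1} :=
        Nat.card_le_card_of_injective (fun a => ⟨⟨a.1.1 + u, A.add_mem a.1.2 huA⟩, by
          rw [hadd _ a.1.2 _ huA, (hg _ a.1.2).resolve_right a.2, hu1, zero_add]⟩)
          fun a b hab => Subtype.ext (Subtype.ext (add_right_cancel
            (congrArg (fun z => z.1.1) hab)))
      exact ⟨by omega, fun _ => by omega⟩
    · have : IsEmpty {a : A // g a.1 = 1} := ⟨fun a => hu ⟨a.1.1, a.1.2, a.2⟩⟩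
      exact ⟨by rw [Nat.card_of_isEmpty]; omega, fun h' => absurd h' hu⟩
  have hval : ∀ a ∈ A, ∀ b ∈ A, hermForm n F 2 a b = 0 ∨ hermForm n F 2 a b = 1 := fun a ha b hb => by
    have h1 : hermForm n F 2 a b ^ 2 = hermForm n F 2 a b := by
      rw [herm_conj a b hF]; exact (hsym a ha b hb).symm
    have h2 : hermForm n F 2 a b * (hermForm n F 2 a b - 1) = 0 := by linear_combination h1
    exact (mul_eq_zero.1 h2).imp id sub_eq_zero.1
  have hline : ∀ u : Fin n → F, u ≠ 0 → Nat.card (Submodule.span F ({u} : Set (Fin n → F))) = 4 :=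
    fun u hu => by
      rw [natCard_sub hF, finrank_span_singleton hu]; norm_num
  by_cases hQ : ∃ u ∈ A, hermForm n F 2 u u = 1
  · obtain ⟨u, hu, huu⟩ := hQ
    have hu0 : u ≠ 0 := fun h0 => by simp [h0, herm_zero_left] at huu
    obtain ⟨hone8, hone⟩ := hhalf (fun a => hermForm n F 2 a a) (fun a ha => hval a ha a ha)
      (fun a ha b hb => by
        rw [herm_add_left, herm_add_right _ _ _ hF, herm_add_right _ _ _ hF, hsym b hb a ha]
        linear_combination hermForm n F 2 a b * two_eq_zero hF)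
    obtain ⟨v, hv, hvv, hvu⟩ : ∃ v ∈ A, hermForm n F 2 v v = 1 ∧ ∀ t : F, v ≠ t • u := by
      by_contra hcon
      push Not at hcon
      have h1 : Nat.card {a : A // hermForm n F 2 a.1 a.1 = 1} ≤ 4 := by
        rw [← hline u hu0]
        refine Nat.card_le_card_of_injective (fun a => ⟨a.1.1, ?_⟩)
          fun a b hab => Subtype.ext (Subtype.ext (congrArg (fun z => z.1) hab))
        obtain ⟨t, ht⟩ := hcon a.1.1 a.1.2 a.2
        exact Submodule.mem_span_singleton.2 ⟨t, ht.symm⟩
      have := hone ⟨u, hu, huu⟩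
      omega
    have hcov := card_targets_le' (q := 2) (e := e) (f := f) (A : Set (Fin n → F))
      (fun s : Fin 2 → Fin n → F => hermForm n F 2 (s 0) (s 0) = 1 ∧ hermForm n F 2 (s 1) (s 1) = 1)
      (fun l _ s hs => by rwa [gram_invariant, gram_invariant] at hs)
      (pairs 2 e f 1 (hermForm n F 2 v u) 1) (fun w hw => ⟨hw.2.2.1, hw.2.2.2.2⟩)
      (pairs_cover hF h (by omega) hAW hu hv (li_of_not_mul hu0 hvu) huu rfl hvv (Or.inr (Or.inl one_ne_zero)))
    have hlow := le_card_pairs hF h (by omega) (a := 1) (b := hermForm n F 2 v u) (c := 1) (one_pow 2)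
      (one_pow 2)
    rw [show n - 2 = 4 by omega, show n - 4 = 2 by omega,
      show vmin 2 4 * (2 ^ 2 * vmin 2 2) = 1792 by norm_num [vmin]] at hlow
    have hup : {s : Fin 2 → Fin n → F | (∀ i, s i ∈ (A : Set (Fin n → F))) ∧
        (hermForm n F 2 (s 0) (s 0) = 1 ∧ hermForm n F 2 (s 1) (s 1) = 1)}.ncard ≤ 64 := by
      rw [← Nat.card_coe_set_eq]
      refine le_trans (Nat.card_le_card_of_injective (fun s =>
        ((⟨⟨s.1 0, s.2.1 0⟩, s.2.2.1⟩ : {a : A // hermForm n F 2 a.1 a.1 = 1}),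
          (⟨⟨s.1 1, s.2.1 1⟩, s.2.2.2⟩ : {a : A // hermForm n F 2 a.1 a.1 = 1}))) ?_) ?_
      · intro s s' hss
        obtain ⟨h1, h2⟩ := Prod.mk.inj hss
        refine Subtype.ext (funext fun i => ?_)
        fin_cases i
        · exact congrArg (fun z => z.1.1) h1
        · exact congrArg (fun z => z.1.1) h2
      · rw [Nat.card_prod]; exact Nat.mul_le_mul hone8 hone8
    have := hlow.trans (hcov.trans (Nat.mul_le_mul_left X hup))
    omega
  push Not at hQ
  have hiso : ∀ a ∈ A, hermForm n F 2 a a = 0 := fun a ha => (hval a ha a ha).resolve_right (hQ a ha)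
  by_cases hti : ∀ a ∈ A, ∀ b ∈ A, hermForm n F 2 a b = 0
  · obtain ⟨v, hv, hvu⟩ : ∃ v ∈ A, ∀ t : F, v ≠ t • a0 := by
      by_contra hcon
      push Not at hcon
      have : Nat.card A ≤ 4 := by
        rw [← hline a0 ha00]
        refine Nat.card_le_card_of_injective (fun a => ⟨a.1, ?_⟩)
          fun a b hab => Subtype.ext (congrArg (fun z => z.1) hab)
        obtain ⟨t, ht⟩ := hcon a.1 a.2
        exact Submodule.mem_span_singleton.2 ⟨t, ht.symm⟩
      omega
    have := (le_card_orbit_of_ti hF h hn A hAW hti ha0 hv (li_of_not_mul ha00 hvu)).1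
    norm_num at this
    omega
  push Not at hti
  obtain ⟨u, hu, v, hv, huv⟩ := hti
  have hvu : hermForm n F 2 v u = 1 := by
    rw [← hsym u hu v hv]; exact (hval u hu v hv).resolve_left huv
  have hu0 : u ≠ 0 := fun h0 => huv (by rw [h0, herm_zero_left])
  have hcov := card_targets_le' (q := 2) (e := e) (f := f) (A : Set (Fin n → F))
    (fun s : Fin 2 → Fin n → F => hermForm n F 2 (s 1) (s 0) = 1)
    (fun l _ s hs => by rwa [gram_invariant] at hs)
    (pairs 2 e f 0 1 0) (fun w hw => hw.2.2.2.1)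
    (pairs_cover hF h (by omega) hAW hu hv (li_of_not_mul hu0 fun t ht => by
      rw [ht, herm_smul_left, hiso u hu, mul_zero] at hvu; exact zero_ne_one hvu)
      (hiso u hu) hvu (hiso v hv) (Or.inr (Or.inr (Or.inl one_ne_zero))))
  have hlow := le_card_hyp_pairs hF h hn
  have hup : {s : Fin 2 → Fin n → F | (∀ i, s i ∈ (A : Set (Fin n → F))) ∧
      hermForm n F 2 (s 1) (s 0) = 1}.ncard ≤ 15 * 8 := by
    rw [← Nat.card_coe_set_eq]
    have : Fintype A := Fintype.ofFinite _
    refine le_trans (Nat.card_le_card_of_injective (β := Σ a : {a : A // a ≠ 0},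
        {b : A // hermForm n F 2 b.1 a.1.1 = 1}) (fun s => ⟨⟨⟨s.1 0, s.2.1 0⟩, fun h0 => ?_⟩,
          ⟨⟨s.1 1, s.2.1 1⟩, s.2.2⟩⟩) ?_) ?_
    · have h1 : hermForm n F 2 (s.1 1) (s.1 0) = 1 := s.2.2
      rw [show s.1 0 = 0 from congrArg (fun z : A => z.1) h0, herm_zero_right _ hF] at h1
      exact zero_ne_one h1
    · intro s s' hss
      refine Subtype.ext (funext fun i => ?_)
      fin_cases i
      · exact congrArg (fun z => z.1.1.1) hss
      · exact congrArg (fun z => z.2.1.1) hss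
    · rw [Nat.card_sigma]
      refine (Finset.sum_le_card_nsmul _ _ 8 fun a _ =>
        (hhalf (fun b => hermForm n F 2 b a.1.1) (fun b hb => hval b hb _ a.1.2)
          (fun b _ c _ => herm_add_left _ _ _)).1).trans ?_
      rw [smul_eq_mul, Finset.card_univ, Fintype.card_subtype_compl, Fintype.card_subtype_eq,
        ← Nat.card_eq_fintype_card]
      omega
  have := hlow.trans (hcov.trans (Nat.mul_le_mul_left X hup))
  omega

end Cfsg.Agent.Lib.MinIndexPSU
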