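import Mathlib
import Cfsg.Agent.Lib.MinIndexPSU.SixRest

/-!
Lib/MinIndexPSU/Six: the index bound in `SU 6` over the field with four elements.

If the index is small, the points `e` with `RS e ≤ K` are not all points, none of the others has
`K ∩ QS e ≠ 1`; a lifted transvection then gives a root `r ⊥ e` with `QS r ⊄ K`, and the two
orbits of `e` and `r` do not fit into the 693 isotropic points.
-/

set_option autoImplicit false
set_option linter.unusedSectionVars false

namespace Cfsg.Agent.Lib.MinIndexPSU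

open Matrix Module Cfsg.Agent.Lib.Unitary Cfsg.Agent.Lib.AutPSU

variable {F : Type*} [Field F] [Fintype F] {n : ℕ} {e f : Fin n → F}

theorem relIndex_mul_le_relIndex {q : ℕ} (e : Fin n → F) (K : Subgroup (SU n F q)) :
    K.relIndex (QS e) * (stabPart e K).relIndex (NS e) ≤ K.relIndex (NS e) := by
  haveI : ∀ H L : Subgroup (SU n F q), H.IsFiniteRelIndex L :=
    fun H L => Subgroup.isFiniteRelIndex_of_finiteIndex
  calc K.relIndex (QS e) * (stabPart e K).relIndex (NS e)
      ≤ (K ⊓ NS e).relIndex (stabPart e K) * (stabPart e K).relIndex (NS e) := by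
        refine Nat.mul_le_mul_right _ ?_
        refine le_trans (le_of_eq ?_)
          (Subgroup.relIndex_le_of_le_right le_sup_right Subgroup.relIndex_ne_zero)
        rw [← Subgroup.inf_relIndex_right K, ← Subgroup.inf_relIndex_right (K ⊓ NS e),
          inf_assoc, inf_eq_right.2 (QS_le_NS e)]
    _ = (K ⊓ NS e).relIndex (NS e) :=
        Subgroup.relIndex_mul_relIndex _ _ _ le_sup_left (stabPart_le e K)
    _ = K.relIndex (NS e) := Subgroup.inf_relIndex_right _ _

/-- The intersection with the parabolic has index `512` there. -/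
theorem relIndex_NS_six (hF : Fintype.card F = 2 ^ 2) (hn : n = 6) (h : Hyp 2 e f)
    {K : Subgroup (SU n F 2)} (hK : ¬ RS e ≤ K) (hA : ∀ a ∈ restPart hF h K, a = 0)
    (hS : NS (q := 2) e ≤ stabPart e K) : K.relIndex (NS e) = 512 := by
  classical
  have hB : Nat.card (tvPart hF h K) = 1 := by
    have := two_mul_card_tvPart hF h hK
    have : 0 < Nat.card (tvPart hF h K) := Nat.card_pos
    omega
  have hAc : Nat.card (restPart hF h K) = 1 := by
    have : Subsingleton (restPart hF h K) :=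
      ⟨fun u v => Subtype.ext ((hA _ u.2).trans (hA _ v.2).symm)⟩
    exact Nat.card_of_subsingleton (0 : restPart hF h K)
  have hQ := relIndex_QS_mul hF h K
  rw [hB, hAc, show n - 2 = 4 by omega] at hQ
  norm_num at hQ
  refine le_antisymm ?_ ?_
  · rw [← hQ, Subgroup.relIndex, Subgroup.relIndex, Subgroup.index, Subgroup.index]
    have hex : ∀ s : NS (q := 2) e, ∃ u : QS (q := 2) e, (u.1)⁻¹ * s.1 ∈ K := by
      intro s
      obtain ⟨k, hk, hkN, u, hu, hs⟩ := exists_mul_of_mem_stabPart (hS (inv_mem s.2))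
      refine ⟨⟨u⁻¹, inv_mem hu⟩, ?_⟩
      have hs' : s.1 = u⁻¹ * k⁻¹ := by rw [← _root_.mul_inv_rev, ← hs, inv_inv]
      show u⁻¹⁻¹ * s.1 ∈ K
      rw [hs', inv_inv, mul_inv_cancel_left]
      exact inv_mem hk
    refine Nat.card_le_card_of_surjective
      (Quotient.map' (fun u : QS (q := 2) e => (⟨u.1, QS_le_NS e u.2⟩ : NS (q := 2) e)) ?_) ?_
    · intro a b hab
      rw [QuotientGroup.leftRel_apply] at hab ⊢
      exact hab
    · intro x
      obtain ⟨s, rfl⟩ := QuotientGroup.mk_surjective x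
      obtain ⟨u, hu⟩ := hex s
      exact ⟨QuotientGroup.mk u, QuotientGroup.eq.2 hu⟩
  · rw [← hQ]
    exact Subgroup.relIndex_le_of_le_right (QS_le_NS e) fun h0 =>
      Subgroup.index_ne_zero_of_finite (H := K.subgroupOf (NS e)) h0

theorem index_mul_relIndex {G : Type*} [Group G] (K P : Subgroup G) :
    P.relIndex K * K.index = K.relIndex P * P.index := by
  have h1 := Subgroup.relIndex_mul_index (inf_le_right : P ⊓ K ≤ K)
  have h2 := Subgroup.relIndex_mul_index (inf_le_left : P ⊓ K ≤ P)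
  rw [Subgroup.inf_relIndex_right] at h1
  rw [Subgroup.inf_relIndex_left] at h2
  rw [h1, h2]

/-- Two orbits on the points. -/
theorem relIndex_add_le {r : Fin n → F} {K : Subgroup (SU n F 2)} {g : SU n F 2}
    (hg : g.1.1 *ᵥ e = r) (hdisj : ∀ k ∈ K, ∀ t : F, k.1.1 *ᵥ e ≠ t • r) :
    (NS (q := 2) r).relIndex K + (NS (q := 2) e).relIndex K ≤ (NS (q := 2) e).index := by
  classical
  set P := NS (q := 2) e
  let Q := SU n F 2 ⧸ P
  have hs : ∀ (g' : SU n F 2) (p : Fin n → F), g'.1.1 *ᵥ e = p →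
      (NS (q := 2) p).relIndex K = (MulAction.orbit K (g' : Q)).ncard := by
    intro g' p hp
    rw [← MulAction.index_stabilizer, Subgroup.relIndex]
    congr 1
    ext k
    rw [MulAction.mem_stabilizer_iff, Subgroup.mem_subgroupOf]
    show _ ↔ ((k.1 * g' : SU n F 2) : Q) = _
    rw [eq_comm, QuotientGroup.eq]
    show _ ↔ ∃ a : F, a ≠ 0 ∧ (g'⁻¹ * (k.1 * g')).1.1 *ᵥ e = a • e
    constructor
    · rintro ⟨a, ha, hk⟩
      exact ⟨a, ha, by
        rw [SU_mul_mulVec, SU_mul_mulVec, hp, hk, Matrix.mulVec_smul, ← hp, SU_inv_mulVec]⟩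
    · rintro ⟨a, ha, hk⟩
      refine ⟨a, ha, ?_⟩
      have h2 := congrArg (fun v => g'.1.1 *ᵥ v) hk
      simp only [SU_mul_mulVec, SU_mulVec_inv, Matrix.mulVec_smul, hp] at h2
      exact h2
  rw [hs g r hg, hs 1 e (by simp), ← Set.ncard_union_eq, Subgroup.index]
  · rw [← Nat.card_coe_set_eq]
    exact Nat.card_le_card_of_injective _ Subtype.val_injective
  · refine Set.disjoint_left.2 fun X hX hX' => ?_
    obtain ⟨⟨k, hk⟩, rfl⟩ := hX
    obtain ⟨⟨k', hk'⟩, heq⟩ := hX'
    have h1 : ((k' * 1 : SU n F 2) : Q) = ((k * g : SU n F 2) : Q) := heq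
    rw [mul_one, QuotientGroup.eq] at h1
    obtain ⟨a, ha, he⟩ := h1
    refine hdisj (k⁻¹ * k') (mul_mem (inv_mem hk) hk') a⁻¹ ?_
    have h2 := congrArg (fun v => (k⁻¹ * k').1.1 *ᵥ v) he
    simp only [SU_mul_mulVec, SU_mulVec_inv, SU_inv_mulVec, Matrix.mulVec_smul, hg] at h2 ⊢
    rw [h2, inv_smul_smul₀ ha]

/-- A vector orthogonal to all isotropic vectors of `R` is orthogonal to `R`. -/
theorem perp_of_isotropic_perp {q : ℕ} (hF : Fintype.card F = q ^ 2)
    {R : Submodule F (Fin n → F)} (hR : Nondeg q R) (hd : 2 ≤ finrank F R) {z : Fin n → F}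
    (hz : ∀ m ∈ R, m ≠ 0 → hermForm n F q m m = 0 → hermForm n F q z m = 0) :
    ∀ x ∈ R, hermForm n F q z x = 0 := by
  classical
  obtain ⟨⟨a, ha, ha0, hai⟩⟩ := (Nat.card_pos_iff.1 (lt_of_lt_of_le
    (vmin_pos hF (m := finrank F R) hd) (vmin_le_card hF hR (c := 0) hd (zero_pow_q hF)))).1
  have hin : ∀ m ∈ R, hermForm n F q m m = 0 → hermForm n F q z m = 0 := fun m hm hmm => by
    by_cases hm0 : m = 0
    · rw [hm0, herm_zero_right _ hF]
    · exact hz m hm hm0 hmm
  have hstep : ∀ x ∈ R, hermForm n F q a x ≠ 0 → hermForm n F q z x = 0 := fun x hx hne => by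
    obtain ⟨s, hs⟩ := exists_isotropic_shift hF hai hne
    have := hin _ (R.add_mem hx (R.smul_mem s ha)) hs
    rwa [herm_add_right _ _ _ hF, herm_smul_right, hin a ha hai, mul_zero, add_zero] at this
  obtain ⟨b, hb, hab⟩ : ∃ b ∈ R, hermForm n F q a b ≠ 0 := by
    by_contra hcon
    push Not at hcon
    exact ha0 (hR a ha hcon)
  intro x hx
  by_cases hax : hermForm n F q a x = 0
  · have := hstep (x + b) (R.add_mem hx hb)
      (by rw [herm_add_right _ _ _ hF, hax, zero_add]; exact hab)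
    rwa [herm_add_right _ _ _ hF, hstep b hb hab, add_zero] at this
  · exact hstep x hx hax

/-- If no point outside the roots meets `K` in its unipotent radical, there is a root orthogonal
to `e`. -/
theorem exists_root_perp (hF : Fintype.card F = 2 ^ 2) (hn : n = 6) (h : Hyp 2 e f)
    {K : Subgroup (SU n F 2)} (hA : ∀ a ∈ restPart hF h K, a = 0)
    (hS : NS (q := 2) e ≤ stabPart e K)
    (hnr : ∀ p : Fin n → F, p ≠ 0 → hermForm n F 2 p p = 0 → ¬ RS p ≤ K →
      ∀ X ∈ K, X ∈ QS p → X = 1) :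
    ∃ r : Fin n → F, r ≠ 0 ∧ hermForm n F 2 r r = 0 ∧ hermForm n F 2 r e = 0 ∧ RS r ≤ K := by
  classical
  obtain ⟨α, hα0, hα1, hα3, hα⟩ := exists_omega hF
  have h2 := two_eq_zero hF
  have hcube : ∀ a : F, a ≠ 0 → a ^ 3 = 1 := fun a ha => by
    have := FiniteField.pow_card_sub_one_eq_one a ha
    rwa [hF] at this
  have hr := finrank_rest hF h
  have hW := nondeg_rest hF h
  have hd : finrank F (rest 2 e f) = 4 := by omega
  obtain ⟨⟨u, huW, hu0, huu⟩⟩ := (Nat.card_pos_iff.1 (lt_of_lt_of_le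
    (vmin_pos hF (m := finrank F (rest 2 e f)) (by omega))
    (vmin_le_card hF hW (c := 0) (by omega) (zero_pow_q hF)))).1
  obtain ⟨u', hu'W, hu'u, hu'u', -⟩ := exists_second hF hW (by omega) huW hu0 (b := 1) (c := 0)
    (zero_pow_q hF) (fun hh => one_ne_zero hh.2.1)
  have huu1 : hermForm n F 2 u u' = 1 := by rw [← herm_conj u' u hF, hu'u, one_pow]
  have hyp : Hyp 2 u u' := ⟨huu, hu'u', huu1⟩
  have hPW : Submodule.span F ({u, u'} : Set (Fin n → F)) ≤ rest 2 e f := Submodule.span_le.2 (by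
    rintro v (rfl | rfl)
    exacts [huW, hu'W])
  obtain ⟨hR, hRd⟩ := nondeg_inf_perp hF hW (hyp.nondeg hF) hPW
  rw [(hyp.finrank_span hF).2, hd] at hRd
  set R := rest 2 e f ⊓ perp 2 (Submodule.span F ({u, u'} : Set (Fin n → F)))
  have hRu : ∀ m ∈ R, hermForm n F 2 m u = 0 ∧ hermForm n F 2 m u' = 0 := fun m hm =>
    ⟨hm.2 u (Submodule.subset_span (by simp)), hm.2 u' (Submodule.subset_span (by simp))⟩
  -- transvections of the rest
  have htv : ∀ m ∈ rest 2 e f, hermForm n F 2 m m = 0 → ∃ s : SU n F 2, s ∈ LS e f ∧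
      (∀ y, s.1.1 *ᵥ y = y + hermForm n F 2 y m • m) ∧ s * s = 1 := by
    intro m hm hmm
    obtain ⟨s, hs⟩ := exists_SU_tv hF hmm (c := 1) (by linear_combination h2)
    have hsx : ∀ x, s.1.1 *ᵥ x = x + hermForm n F 2 x m • m := fun x => by
      have := hs x
      rw [suToGU_val, one_mul] at this
      exact this
    refine ⟨s, mem_LS.2 ⟨?_, ?_⟩, hsx, SU_ext fun x => ?_⟩
    · rw [hsx, (rest_swap_herm hF hm).1, zero_smul, add_zero]
    · rw [hsx, (rest_swap_herm hF hm).2, zero_smul, add_zero]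
    · rw [SU_mul_mulVec, hsx x, hsx, herm_add_left, herm_smul_left, hmm, mul_zero, add_zero,
        add_assoc, ← add_smul, ← two_mul, h2, zero_mul, zero_smul, add_zero]
      simp
  have hex : ∀ l ∈ LS (q := 2) e f, ∃ z, Lift e f K l z := by
    intro l hl
    obtain ⟨k, hk, -, v, hv, rfl⟩ := exists_mul_of_mem_stabPart (hS (PS_le_NS e hl.1))
    exact ⟨_, v⁻¹, inv_mem hv, rfl, by rwa [mul_inv_cancel_right]⟩
  obtain ⟨t, htL, htx, htt⟩ := htv u huW huu
  obtain ⟨z, hz⟩ := hex t htL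
  have hzW := hz.mem_rest hF h
  have hzu : hermForm n F 2 z u = 0 := by
    have h4 := hz.mul hF h htL hz
    rw [htt] at h4
    have h5 := h4.unique hF h hA (Lift.one hF h K)
    rw [inv_eq_of_mul_eq_one_right htt, htx, add_comm z, add_assoc, ← two_smul F z, h2, zero_smul,
      add_zero] at h5
    exact (smul_eq_zero.1 h5).resolve_right hu0
  have hzR : ∀ x ∈ R, hermForm n F 2 z x = 0 := by
    refine perp_of_isotropic_perp hF hR (by omega) fun m hm hm0 hmm => ?_
    obtain ⟨s, hsL, hsx, hss⟩ := htv m hm.1 hmm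
    obtain ⟨zs, hzs⟩ := hex s hsL
    have hcomm : s * t = t * s := SU_ext fun y => by
      simp only [SU_mul_mulVec, htx, hsx, herm_add_left, herm_smul_left, (hRu m hm).1,
        herm_eq_zero_symm hF (hRu m hm).1, mul_zero, add_zero]
      abel
    have h4 := hzs.mul hF h htL hz
    have h5 := hz.mul hF h hsL hzs
    rw [hcomm] at h4
    have h6 := h4.unique hF h hA h5
    rw [inv_eq_of_mul_eq_one_right htt, inv_eq_of_mul_eq_one_right hss, htx, hsx] at h6
    have h7 : hermForm n F 2 zs u • u = hermForm n F 2 z m • m :=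
      add_left_cancel (a := zs + z) (by
        rw [show zs + z + hermForm n F 2 zs u • u = zs + hermForm n F 2 zs u • u + z by abel, h6]
        abel)
    have h8 := congrArg (fun v => hermForm n F 2 v u') h7
    simp only [herm_smul_left, huu1, (hRu m hm).2, mul_one, mul_zero] at h8
    rw [h8, zero_smul] at h7
    exact (smul_eq_zero.1 h7.symm).resolve_right hm0
  set c := hermForm n F 2 z u' with hc
  have hzc : z = c • u := by
    refine sub_eq_zero.1 (hR _ ⟨(rest 2 e f).sub_mem hzW ((rest 2 e f).smul_mem _ huW),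
      fun v hv => (mem_perp_span hF).2 ?_ v hv⟩ fun m hm => ?_)
    · rintro v (rfl | rfl)
      · rw [herm_sub_left, herm_smul_left, hzu, huu, mul_zero, sub_zero]
      · rw [herm_sub_left, herm_smul_left, huu1, mul_one, sub_self]
    · rw [herm_sub_left, herm_smul_left, hzR m hm,
        herm_eq_zero_symm hF (hRu m hm).1, mul_zero, sub_zero]
  -- the lifted involution
  obtain ⟨v, hv, hvz, htv'⟩ := hz
  obtain ⟨d, hd1, hd2⟩ := exists_param hF h hv
  rw [hvz, hzc, herm_smul_left, herm_smul_right, huu, mul_zero, mul_zero, add_zero] at hd1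
  rw [hvz, hzc] at hd2
  obtain ⟨hue, huf⟩ := (mem_rest hF).1 huW
  obtain ⟨heu, -⟩ := rest_swap_herm hF huW
  have hx : ∀ y, (t * v).1.1 *ᵥ y = y + (hermForm n F 2 y u + hermForm n F 2 y e * c) • u +
      (d * hermForm n F 2 y e + c ^ 2 * hermForm n F 2 y u) • e := by
    intro y
    have hvy := hd2 y
    rw [suToGU_val] at hvy
    rw [SU_mul_mulVec, hvy, htx]
    simp only [herm_add_left, herm_smul_left, herm_smul_right, huu, heu, mul_zero, add_zero]
    rw [show d * hermForm n F 2 y e - c ^ 2 * hermForm n F 2 y u =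
      d * hermForm n F 2 y e + c ^ 2 * hermForm n F 2 y u by
        linear_combination -(c ^ 2 * hermForm n F 2 y u) * h2, smul_smul]
    module
  have hxne : t * v ≠ 1 := fun h1 => by
    have h3 := hx u'
    rw [h1, hu'u, ((mem_rest hF).1 hu'W).1] at h3
    simp only [OneMemClass.coe_one, Matrix.SpecialLinearGroup.coe_one, Matrix.one_mulVec, mul_one,
      mul_zero, zero_mul, zero_add, add_zero, one_smul] at h3
    rw [add_assoc, left_eq_add, add_comm] at h3
    exact hu0 (eq_zero_of_mem_rest hF h (a := c ^ 2) (b := 0) huW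
      (by rw [zero_smul, add_zero]; exact h3)).2.2
  have hd01 : d = 0 ∨ d = 1 := by
    have h3 : d * (d - 1) = 0 := by linear_combination hd1 - d * h2
    exact (mul_eq_zero.1 h3).imp id sub_eq_zero.1
  -- a point whose unipotent radical contains it
  suffices hp : ∃ p : Fin n → F, p ≠ 0 ∧ hermForm n F 2 p p = 0 ∧ hermForm n F 2 p e = 0 ∧
      t * v ∈ QS (q := 2) p by
    obtain ⟨p, hp0, hpp, hpe, hxp⟩ := hp
    exact ⟨p, hp0, hpp, hpe, by_contra fun hno => hxne (hnr p hp0 hpp hno _ htv' hxp)⟩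
  by_cases hcase : c = 0 ∧ d = 0
  · refine ⟨u, hu0, huu, hue, ?_, fun y hy => ⟨0, ?_⟩⟩
    · rw [hx, huu, hue, hcase.2]
      simp
    · rw [hx, hy, hcase.1, hcase.2]
      simp
  obtain ⟨ν, hν⟩ : ∃ ν : F, ν ^ 3 = 1 ∧ d + 1 + c * ν ^ 2 + c ^ 2 * ν = 0 := by
    rcases hd01 with rfl | rfl
    · have hc0 : c ≠ 0 := fun h0 => hcase ⟨h0, rfl⟩
      exact ⟨α * c, by rw [mul_pow, hα3, hcube c hc0, one_mul],
        by linear_combination hα + (α ^ 2 + α) * hcube c hc0⟩
    · by_cases hc0 : c = 0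
      · exact ⟨1, one_pow 3, by rw [hc0]; linear_combination h2⟩
      · exact ⟨c, hcube c hc0, by linear_combination (1 + c ^ 3) * h2⟩
  obtain ⟨hν3, hνe⟩ := hν
  set p := e + ν • u with hp_def
  have hpe : hermForm n F 2 p e = 0 := by
    rw [hp_def, herm_add_left, herm_smul_left, h.1, hue, mul_zero, add_zero]
  have hpu : hermForm n F 2 p u = 0 := by
    rw [hp_def, herm_add_left, herm_smul_left, heu, huu, mul_zero, add_zero]
  refine ⟨p, fun h0 => one_ne_zero (eq_zero_of_mem_rest hF h (a := 1) (b := 0)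
      ((rest 2 e f).smul_mem ν huW) (by rw [one_smul, zero_smul, add_zero]; exact h0)).1,
    ?_, hpe, ?_, fun y hy => ?_⟩
  · rw [hp_def, herm_add_left, herm_smul_left, ← hp_def, ← herm_conj p e hF,
      ← herm_conj p u hF, hpe, hpu, zero_pow_q hF, mul_zero, add_zero]
  · rw [hx, hpe, hpu]
    simp
  · refine ⟨hermForm n F 2 y u * (d * ν ^ 2 + c ^ 2), ?_⟩
    rw [hp_def, herm_add_right _ _ _ hF, herm_smul_right] at hy
    have he : hermForm n F 2 y e = ν ^ 2 * hermForm n F 2 y u := by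
      linear_combination hy - ν ^ 2 * hermForm n F 2 y u * h2
    have e1 : hermForm n F 2 y u + ν ^ 2 * hermForm n F 2 y u * c =
        hermForm n F 2 y u * (d * ν ^ 2 + c ^ 2) * ν := by
      linear_combination hermForm n F 2 y u * hνe - hermForm n F 2 y u * d * hν3 -
        hermForm n F 2 y u * (d + c ^ 2 * ν) * h2
    rw [hx, he, e1, hp_def, smul_add, smul_smul]
    have e2 : d * (ν ^ 2 * hermForm n F 2 y u) + c ^ 2 * hermForm n F 2 y u =
        hermForm n F 2 y u * (d * ν ^ 2 + c ^ 2) := by ring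
    rw [e2]
    abel

/-- Pairing value of the symplectic form. -/
def altForm (u v : Fin n → F) : F := hermForm n F 2 u v + hermForm n F 2 v u

/-- A root whose unipotent radical is not inside: large index in its parabolic. -/
theorem relIndex_root_ge (hF : Fintype.card F = 2 ^ 2) (hn : n = 6) (h : Hyp 2 e f)
    {K : Subgroup (SU n F 2)} (hroot : RS e ≤ K) (hQ : ¬ QS e ≤ K) :
    112 ≤ K.relIndex (NS e) := by
  classical
  have h2 := two_eq_zero hF
  have hr := finrank_rest hF h
  have hd : finrank F (rest 2 e f) = 4 := by omega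
  have hW := nondeg_rest hF h
  have hAW : ∀ a ∈ restPart hF h K, a ∈ rest 2 e f := fun a ha => restPart_le hF h K ha
  obtain ⟨w0, hw0W, hw0A⟩ : ∃ w ∈ rest 2 e f, w ∉ restPart hF h K := by
    by_contra hcon
    push Not at hcon
    refine hQ fun X hX => ?_
    obtain ⟨k, hk, hkz⟩ := hcon _ (zp_mem hF h X)
    have h1 : k⁻¹ * X ∈ RS e := by
      refine mem_RS_of_zp hF h (mul_mem (inv_mem hk.2) hX) ?_
      rw [zp_mul hF h (inv_mem hk.2) hX, zp_inv hF h hk.2,
        show zp e f k = zp e f X from hkz, neg_add_cancel]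
    have := K.mul_mem hk.1 (hroot h1)
    rwa [mul_inv_cancel_left] at this
  set A := restPart hF h K
  set W := rest 2 e f
  haveI : Fintype W := Fintype.ofFinite _
  -- characters of the rest
  obtain ⟨ψ, hψ⟩ := (AddChar.exists_apply_ne_zero (a := (1 : F))).2 one_ne_zero
  let Φ : W → W →+ F := fun a => AddMonoidHom.mk' (fun z => altForm a.1 z.1) fun y z => by
    simp only [altForm, Submodule.coe_add, herm_add_left, herm_add_right _ _ _ hF]
    ring
  have hΦval : ∀ a z : W, Φ a z = 0 ∨ Φ a z = 1 := fun a z => by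
    have h1 : Φ a z ^ 2 = Φ a z := by
      show altForm a.1 z.1 ^ 2 = altForm a.1 z.1
      rw [altForm, add_pow_q hF, herm_conj a.1 z.1 hF, herm_conj z.1 a.1 hF, add_comm]
    have h3 : Φ a z * (Φ a z - 1) = 0 := by linear_combination h1
    exact (mul_eq_zero.1 h3).imp id sub_eq_zero.1
  let θ : W → AddChar W ℂ := fun a => ψ.compAddMonoidHom (Φ a)
  have hθinj : Function.Injective θ := by
    intro a b hab
    by_contra hne
    obtain ⟨z0, hz0, hz⟩ : ∃ z ∈ W, hermForm n F 2 (a.1 - b.1) z ≠ 0 := by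
      by_contra hcon
      push Not at hcon
      exact hne (Subtype.ext (sub_eq_zero.1 (hW _ (W.sub_mem a.2 b.2) hcon)))
    obtain ⟨x0, hx0⟩ := trace_surj hF (y := 1) (one_pow 2)
    let z : W := ⟨(x0 / hermForm n F 2 (a.1 - b.1) z0) ^ 2 • z0, W.smul_mem _ hz0⟩
    have hxz : hermForm n F 2 (a.1 - b.1) z.1 = x0 := by
      show hermForm n F 2 (a.1 - b.1) (_ • z0) = x0
      rw [herm_smul_right, pow_q_q hF, div_mul_cancel₀ x0 hz]
    have hΦ : Φ a z = 1 + Φ b z := by
      show altForm a.1 z.1 = 1 + altForm b.1 z.1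
      have hzx : hermForm n F 2 z.1 (a.1 - b.1) = x0 ^ 2 := by rw [← hxz, herm_conj _ _ hF]
      rw [herm_sub_left] at hxz
      rw [herm_sub_right _ _ _ hF] at hzx
      simp only [altForm]
      linear_combination hxz + hzx + hx0
    have h1 : ψ (Φ a z) = ψ (Φ b z) := DFunLike.congr_fun hab z
    rw [hΦ, AddChar.map_add_eq_mul, mul_eq_right₀] at h1
    · exact hψ h1
    · intro h0
      have := ψ.map_add_eq_mul (Φ b z) (-(Φ b z))
      rw [add_neg_cancel, AddChar.map_zero_eq_one, h0, zero_mul] at this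
      exact one_ne_zero this
  have hθbij : Function.Bijective θ := by
    rw [Fintype.bijective_iff_injective_and_card]
    exact ⟨hθinj, (AddChar.card_eq).symm⟩
  let A0 : AddSubgroup W := A.addSubgroupOf W.toAddSubgroup
  haveI : Fintype (W ⧸ A0) := Fintype.ofFinite _
  -- the annihilator
  let Ann : Set (Fin n → F) → Set (Fin n → F) := fun S => {z | z ∈ W ∧ ∀ a ∈ S, altForm z a = 0}
  set A' := Ann (A : Set (Fin n → F)) with hA'
  obtain ⟨y, hyA, hy0⟩ : ∃ y, y ∈ A' ∧ y ≠ 0 := by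
    obtain ⟨χ, hχ⟩ := (AddChar.exists_apply_ne_zero (a := ((⟨w0, hw0W⟩ : W) : W ⧸ A0))).2
      (fun h0 => hw0A ((QuotientAddGroup.eq_zero_iff (N := A0) (⟨w0, hw0W⟩ : W)).1 h0))
    obtain ⟨y, hy⟩ := hθbij.2 (χ.compAddMonoidHom (QuotientAddGroup.mk' A0))
    refine ⟨y.1, ⟨y.2, fun a ha => ?_⟩, fun h0 => hχ ?_⟩
    · have h1 := DFunLike.congr_fun hy (⟨a, hAW a ha⟩ : W)
      have h3 : ψ (Φ y ⟨a, hAW a ha⟩) = 1 := by
        refine h1.trans ?_
        show χ ((⟨a, hAW a ha⟩ : W) : W ⧸ A0) = 1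
        rw [(QuotientAddGroup.eq_zero_iff _).2 (show (⟨a, hAW a ha⟩ : W) ∈ A0 from ha),
          AddChar.map_zero_eq_one]
      exact (hΦval y ⟨a, hAW a ha⟩).resolve_right fun h4 => hψ (by rw [← h4]; exact h3)
    · have h1 := DFunLike.congr_fun hy (⟨w0, hw0W⟩ : W)
      refine h1.symm.trans ?_
      show ψ (altForm y.1 w0) = 1
      rw [h0, altForm, herm_zero_left, herm_zero_right _ hF, add_zero, AddChar.map_zero_eq_one]
  have hAA' : Nat.card A' * Nat.card A ≤ 256 := by
    let χ : A' → AddChar (W ⧸ A0) ℂ := fun z =>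
      ψ.compAddMonoidHom (QuotientAddGroup.lift A0 (Φ ⟨z.1, z.2.1⟩) (fun a ha => z.2.2 a.1 ha))
    have hχ : Function.Injective χ := fun z z' hzz => by
      have : θ ⟨z.1, z.2.1⟩ = θ ⟨z'.1, z'.2.1⟩ := DFunLike.ext _ _ fun w => by
        exact DFunLike.congr_fun hzz (w : W ⧸ A0)
      exact Subtype.ext (congrArg (fun v : W => v.1) (hθinj this))
    have hle := Nat.card_le_card_of_injective χ hχ
    rw [Nat.card_eq_fintype_card (α := AddChar (W ⧸ A0) ℂ), AddChar.card_eq,
      ← Nat.card_eq_fintype_card] at hle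
    have hmul := AddSubgroup.card_eq_card_quotient_mul_card_addSubgroup A0
    have hcard : Nat.card A0 = Nat.card A := Nat.card_congr
      { toFun := fun a => ⟨a.1.1, a.2⟩
        invFun := fun a => ⟨⟨a.1, hAW _ a.2⟩, a.2⟩
        left_inv := fun _ => rfl
        right_inv := fun _ => rfl }
    rw [hcard, natCard_sub hF, hd, show (2 : ℕ) ^ (2 * 4) = 256 by norm_num] at hmul
    rw [hmul]
    exact Nat.mul_le_mul_right _ hle
  -- images of the annihilator
  have horb : (restOrbit 2 e f A').ncard ≤ (restOrbit 2 e f (A : Set (Fin n → F))).ncard := by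
    refine le_trans (Set.ncard_le_ncard ?_ (Set.toFinite _)) (Set.ncard_image_le (f := Ann) (Set.toFinite _))
    rintro _ ⟨⟨l, hl⟩, rfl⟩
    refine ⟨_, ⟨⟨l, hl⟩, rfl⟩, ?_⟩
    ext z
    constructor
    · rintro ⟨hzW, hz⟩
      refine ⟨l⁻¹.1.1 *ᵥ z, ⟨LS_rest hF (inv_mem hl) hzW, fun a ha => ?_⟩, SU_mulVec_inv l z⟩
      have h1 := hz _ ⟨a, ha, rfl⟩
      rwa [show altForm z (l.1.1 *ᵥ a) = altForm (l⁻¹.1.1 *ᵥ z) a by
        simp only [altForm]
        conv_lhs => rw [← SU_mulVec_inv l z, SU_herm, SU_herm]] at h1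
    · rintro ⟨x, ⟨hxW, hx⟩, rfl⟩
      refine ⟨LS_rest hF hl hxW, ?_⟩
      rintro _ ⟨a, ha, rfl⟩
      have h1 := hx a ha
      simp only [altForm, SU_herm] at h1 ⊢
      exact h1
  let T : Set (Fin 1 → Fin n → F) := {v | v 0 ∈ rest 2 e f ∧ v 0 ≠ 0 ∧
    hermForm n F 2 (v 0) (v 0) = hermForm n F 2 y y}
  have hT : 112 ≤ T.ncard := by
    have := vmin_le_card hF hW (c := hermForm n F 2 y y) (by omega) (herm_self_fixed y hF)
    rw [hd] at this
    refine le_trans (le_trans (by norm_num [vmin]) this) ?_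
    rw [← Nat.card_coe_set_eq]
    exact Nat.card_le_card_of_injective (fun v => ⟨fun _ => v.1, v.2⟩)
      fun u v huv => Subtype.ext (congrFun (congrArg Subtype.val huv) 0)
  have hcov := card_targets_le (q := 2) (e := e) (f := f) A' T fun v hv => by
    obtain ⟨l, hl, hlv⟩ := exists_LS_vec hF h (by omega) hyA.1 hv.1 hy0 hv.2.1 hv.2.2.symm
    exact ⟨l, hl, fun i => ⟨y, hyA, by rw [Subsingleton.elim i 0]; exact hlv⟩⟩
  rw [pow_one] at hcov
  have hKQ : Nat.card A' ≤ K.relIndex (QS e) := by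
    have hQm := relIndex_QS_mul hF h K
    rw [show n - 2 = 4 by omega, show (2 : ℕ) ^ (2 * 4) * 2 = 256 * 2 by norm_num] at hQm
    have hB : Nat.card (tvPart hF h K) ≤ 2 := by
      have hT2 : Nat.card (trHom hF).ker = 2 := by
        refine (Nat.card_congr (Equiv.subtypeEquivRight fun x => ?_)).trans (card_trace_zero hF)
        rw [AddMonoidHom.mem_ker, trHom_apply]
      refine le_of_le_of_eq ?_ hT2
      exact Nat.card_le_card_of_injective (fun b => ⟨b.1, by
        rw [AddMonoidHom.mem_ker, trHom_apply]; exact tvPart_trace hF h K b.2⟩)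
        fun a b hab => Subtype.ext (congrArg (fun z => z.1) hab)
    have hA0 : 0 < Nat.card A := Nat.card_pos
    refine Nat.le_of_mul_le_mul_right ?_ (Nat.mul_pos hA0 two_pos)
    calc Nat.card A' * (Nat.card A * 2) = Nat.card A' * Nat.card A * 2 := by ring
      _ ≤ 256 * 2 := Nat.mul_le_mul_right _ hAA'
      _ = K.relIndex (QS e) * (Nat.card A * Nat.card (tvPart hF h K)) := hQm.symm
      _ ≤ _ := Nat.mul_le_mul_left _ (Nat.mul_le_mul_left _ hB)
  have hsc := scalings_mul_orbit_le hF h (by omega) K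
  have hY : 1 ≤ (Set.range fun μ : Fx F 2 =>
      (fun x => μ.1 * x) '' (tvPart hF h K : Set F)).ncard := by
    have : Nonempty (Fx F 2) := ⟨⟨1, one_pow 2, one_ne_zero⟩⟩
    exact (Set.ncard_pos (Set.toFinite _)).2 (Set.range_nonempty _)
  calc 112 ≤ (restOrbit 2 e f A').ncard * Nat.card A' := hT.trans hcov
    _ ≤ (restOrbit 2 e f (A : Set (Fin n → F))).ncard * K.relIndex (QS e) :=
        Nat.mul_le_mul horb hKQ
    _ ≤ (stabPart e K).relIndex (NS e) * K.relIndex (QS e) :=
        Nat.mul_le_mul_right _ ((Nat.le_mul_of_pos_left _ hY).trans hsc)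
    _ ≤ K.relIndex (NS e) := by rw [mul_comm]; exact relIndex_mul_le_relIndex e K

/-- A subgroup of `SU 6` over four elements missing a root group has index at least `672`. -/
theorem index_ge_six (hF : Fintype.card F = 2 ^ 2) (hn : n = 6) (h : Hyp 2 e f)
    {K : Subgroup (SU n F 2)} (hK : ¬ RS e ≤ K) : 672 ≤ K.index := by
  classical
  by_contra hlt
  push Not at hlt
  have hzero : ∀ {p s : Fin n → F} (hps : Hyp 2 p s), ¬ RS p ≤ K →
      ∀ a ∈ restPart hF hps K, a = 0 := fun {p s} hps hno a ha => by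
    by_contra ha0
    have := index_ge_restPart_six hF hps hn hno ha ha0
    omega
  have hnr : ∀ p : Fin n → F, p ≠ 0 → hermForm n F 2 p p = 0 → ¬ RS p ≤ K →
      ∀ X ∈ K, X ∈ QS p → X = 1 := by
    intro p hp0 hpp hno X hXK hXQ
    obtain ⟨s, hs⟩ := exists_hyp hF hp0 hpp
    have hXR : X ∈ RS p := mem_RS_of_zp hF hs hXQ (hzero hs hno _ ⟨X, ⟨hXK, hXQ⟩, rfl⟩)
    obtain ⟨hc, hT⟩ := exists_tc hF hs hXR
    have h1 := two_mul_card_tvPart hF hs hno
    have h0 : 0 < Nat.card (tvPart hF hs K) := Nat.card_pos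
    have : Subsingleton (tvPart hF hs K) := (Nat.card_eq_one_iff_unique.1 (by omega)).1
    have hc0 : tc s X = 0 := congrArg Subtype.val
      (Subsingleton.elim (⟨_, ⟨X, ⟨hXK, hXR⟩, rfl⟩⟩ : tvPart hF hs K) 0)
    refine suToGU_injective (GU_ext fun x => ?_)
    rw [hT x, hc0, zero_mul, zero_smul, add_zero, map_one, GU_one_mulVec]
  have hA := hzero h hK
  rcases index_ge_or_stab_eq hF (by omega) h hK hA with hd | hS
  · rw [show 2 * n - 1 = 11 by omega, show 2 ^ n = 64 by rw [hn]; norm_num] at hd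
    omega
  obtain ⟨r, hr0, hrr, hre, hrK⟩ := exists_root_perp hF hn h hA hS hnr
  have he0 := ne_zero_of_hyp h
  have hnmul : ∀ a : F, r ≠ a • e := fun a ha => hK (by
    have ha0 : a ≠ 0 := fun h0 => hr0 (by rw [ha, h0, zero_smul])
    rw [← RS_smul (e := e) ha0, ← ha]; exact hrK)
  obtain ⟨r', hr'⟩ := exists_hyp hF hr0 hrr
  have hQ : ¬ QS r ≤ K := by
    intro hle
    obtain ⟨X, hX⟩ := exists_SU_eich (z := e) (d := 0) hF hrr (herm_eq_zero_symm hF hre)
      (by rw [h.1, zero_pow_q hF, add_zero, add_zero])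
    have hXK := hle (mem_QS_of_eich hF hrr (herm_eq_zero_symm hF hre) hX)
    have hXx : ∀ x, X.1.1 *ᵥ x = x + hermForm n F 2 x r • e + (-hermForm n F 2 x e) • r := fun x => by
      have := hX x
      rwa [suToGU_val, zero_mul, zero_sub] at this
    have hXe : X ∈ QS e := by
      refine ⟨?_, fun x hx => ⟨hermForm n F 2 x r, ?_⟩⟩
      · rw [hXx, herm_eq_zero_symm hF hre, h.1]; simp
      · rw [hXx, hx, neg_zero, zero_smul, add_zero]
    have h1 := hXx f
    rw [hnr e he0 h.1 hK X hXK hXe, h.symm' hF] at h1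
    simp only [OneMemClass.coe_one, Matrix.SpecialLinearGroup.coe_one, Matrix.one_mulVec, neg_smul,
      one_smul] at h1
    refine hnmul (hermForm n F 2 f r) ?_
    rw [add_assoc, left_eq_add, ← sub_eq_add_neg, sub_eq_zero] at h1
    exact h1.symm
  have hR := relIndex_root_ge hF hn hr' hrK hQ
  obtain ⟨A, hdet, hAe⟩ := exists_SU_isotropic hF (by omega) he0 h.1 hr0 hrr
  obtain ⟨g, hg⟩ := exists_SU_of_GU hdet
  have hge : g.1.1 *ᵥ e = r := by rw [← hAe, ← hg]
  have hsum := relIndex_add_le (K := K) hge fun k hk t hkt => hK fun S hS' => by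
    have ht : t ≠ 0 := fun h0 => he0 (by
      rw [← SU_inv_mulVec k e, hkt, h0, zero_smul, Matrix.mulVec_zero])
    have h1 := RS_conj k hS'
    rw [hkt, RS_smul ht] at h1
    have h3 := K.mul_mem (K.mul_mem (K.inv_mem hk) (hrK h1)) hk
    rwa [show k⁻¹ * (k * S * k⁻¹) * k = S by group] at h3
  have hidx : ∀ {p s : Fin n → F}, Hyp 2 p s → (NS (q := 2) p).index = 693 := fun {p s} hps => by
    have h1 := index_NS_mul hF (by omega) hps
    subst hn
    rw [countNull_succ_eq hF, if_neg (by decide)] at h1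
    norm_num at h1
    exact Nat.eq_of_mul_eq_mul_right (by norm_num : 0 < 3) (h1.trans (by norm_num))
  have e1 := index_mul_relIndex K (NS (q := 2) e)
  have e2 := index_mul_relIndex K (NS (q := 2) r)
  rw [relIndex_NS_six hF hn h hK hA hS, hidx h] at e1
  rw [hidx hr'] at e2
  rw [hidx h] at hsum
  have h3 := Nat.mul_le_mul_right K.index hsum
  rw [add_mul, e1, e2] at h3
  have hlow : 624 ≤ K.index := by omega
  generalize K.index = d at *
  interval_cases d <;> omega

end Cfsg.Agent.Lib.MinIndexPSU
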