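import Mathlib
import Cfsg.Agent.Lib.MinIndexPSU.Six

/-!
Lib/MinIndexPSU/FourImages: the images of the rest part under the parabolic of `SU 4`.
-/

set_option autoImplicit false
set_option linter.unusedSectionVars false

namespace Cfsg.Agent.Lib.MinIndexPSU

open Matrix Module Cfsg.Agent.Lib.Unitary Cfsg.Agent.Lib.AutPSU

variable {F : Type*} [Field F] [Fintype F] {q : ℕ} {n : ℕ} {e f : Fin n → F}

/-- The map on the rest parameters induced by `g`, scaling `e` by `ζ`. -/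
def psi (q : ℕ) (e f : Fin n → F) (g : SU n F q) (ζ : F) (z : Fin n → F) : Fin n → F :=
  ζ ^ q • proj q e f (g.1.1 *ᵥ z)

/-- The images of `A` under the parabolic elements preserving the transvection parameters. -/
def imgs (q : ℕ) (e f : Fin n → F) (A : Set (Fin n → F)) : Set (Set (Fin n → F)) :=
  {S | ∃ (g : SU n F q) (ζ : F), g.1.1 *ᵥ e = ζ • e ∧ ζ ^ (q + 1) = 1 ∧ S = psi q e f g ζ '' A}

theorem herm_move_e (hF : Fintype.card F = q ^ 2) {g : SU n F q} {ζ : F} (hζ : ζ ≠ 0)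
    (hg : g.1.1 *ᵥ e = ζ • e) {z : Fin n → F} (hz : hermForm n F q z e = 0) :
    hermForm n F q (g.1.1 *ᵥ z) e = 0 := by
  have h1 := SU_herm g z e
  rw [hg, herm_smul_right, hz] at h1
  exact (mul_eq_zero.1 h1).resolve_left (pow_ne_zero q hζ)

theorem psi_mem (hF : Fintype.card F = q ^ 2) (h : Hyp q e f) (g : SU n F q) (ζ : F)
    (z : Fin n → F) : psi q e f g ζ z ∈ rest q e f :=
  (rest q e f).smul_mem _ (proj_mem hF h _)

theorem psi_herm (hF : Fintype.card F = q ^ 2) (h : Hyp q e f) {g : SU n F q} {ζ : F}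
    (hg : g.1.1 *ᵥ e = ζ • e) (hζ : ζ ^ (q + 1) = 1) {z : Fin n → F} (hz : z ∈ rest q e f) :
    hermForm n F q (psi q e f g ζ z) (psi q e f g ζ z) = hermForm n F q z z := by
  have hζ0 : ζ ≠ 0 := fun h0 => by
    rw [h0, zero_pow (by omega)] at hζ; exact zero_ne_one hζ
  set v := g.1.1 *ᵥ z
  have hve : hermForm n F q v e = 0 := herm_move_e hF hζ0 hg ((mem_rest hF).1 hz).1
  have hv := eq_proj (q := q) (e := e) (f := f) v
  rw [hve, zero_smul, add_zero] at hv
  have hp := proj_mem hF h v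
  have h1 : hermForm n F q v v = hermForm n F q (proj q e f v) (proj q e f v) := by
    conv_lhs => rw [hv]
    rw [herm_add_left, herm_add_right _ _ _ hF, herm_add_right _ _ _ hF, herm_smul_left,
      herm_smul_left, herm_smul_right, herm_smul_right, h.1, (rest_swap_herm hF hp).1,
      ((mem_rest hF).1 hp).1]
    ring
  rw [psi, herm_smul_left, herm_smul_right, ← mul_assoc, ← pow_succ', ← pow_mul, mul_comm q, pow_mul,
    hζ, one_pow, one_mul, ← h1, SU_herm]

theorem image_mem_imgs (hF : Fintype.card F = q ^ 2) {l : SU n F q} (hl : l ∈ LS (q := q) e f)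
    {A : Set (Fin n → F)} (hA : ∀ a ∈ A, a ∈ rest q e f) :
    (fun z => l.1.1 *ᵥ z) '' A ∈ imgs q e f A := by
  refine ⟨l, 1, by rw [one_smul]; exact (mem_LS.1 hl).1, one_pow _, Set.image_congr fun z hz => ?_⟩
  rw [psi, one_pow, one_smul, proj_of_mem hF (LS_rest hF hl (hA z hz))]

theorem mem_imgs_self (hF : Fintype.card F = q ^ 2) {A : Set (Fin n → F)}
    (hA : ∀ a ∈ A, a ∈ rest q e f) : A ∈ imgs q e f A := by
  have h1 := image_mem_imgs (q := q) (e := e) (f := f) hF (LS e f).one_mem hA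
  simpa using h1

/-- The stabiliser part has at least (scalings) × (images) cosets. -/
theorem scalings_mul_imgs_le (hF : Fintype.card F = q ^ 2) (h : Hyp q e f) (hn : 3 ≤ n)
    (K : Subgroup (SU n F q)) :
    (Set.range fun μ : Fx F q => (fun x => μ.1 * x) '' (tvPart hF h K : Set F)).ncard *
        (imgs q e f (restPart hF h K : Set (Fin n → F))).ncard ≤
      (stabPart e K).relIndex (NS e) := by
  classical
  set P := NS (q := q) e
  set Y := Set.range fun μ : Fx F q => (fun x => μ.1 * x) '' (tvPart hF h K : Set F)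
  set O := imgs q e f (restPart hF h K : Set (Fin n → F))
  have hrep : ∀ y : Y, ∃ g : SU n F q, ∃ ζ : F, ζ ≠ 0 ∧ g.1.1 *ᵥ e = ζ • e ∧
      (∀ w ∈ rest q e f, g.1.1 *ᵥ w ∈ rest q e f) ∧
      y.1 = (fun x => ζ ^ (q + 1) * x) '' (tvPart hF h K : Set F) := by
    rintro ⟨_, μ, rfl⟩
    obtain ⟨ζ, hζ⟩ := norm_surj hF μ.2.1
    have hζ0 : ζ ≠ 0 := fun h0 => μ.2.2 (by rw [← hζ, h0, zero_mul])
    obtain ⟨g, hg, -, hgw⟩ := exists_torus hF h hn hζ0
    exact ⟨g, ζ, hζ0, hg, hgw, by rw [pow_succ', hζ]⟩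
  choose g ζ hζ0 hg hgw hy using hrep
  have hrep' : ∀ o : O, ∃ l : SU n F q, ∃ ξ : F, l.1.1 *ᵥ e = ξ • e ∧ ξ ^ (q + 1) = 1 ∧
      o.1 = psi q e f l ξ '' (restPart hF h K : Set (Fin n → F)) := fun o => o.2
  choose l ξ hl hξ ho using hrep'
  have hξ0 : ∀ o, ξ o ≠ 0 := fun o h0 => by
    have := hξ o; rw [h0, zero_pow (by omega)] at this; exact zero_ne_one this
  have hmem : ∀ (y : Y) (o : O), g y * l o ∈ P := fun y o =>
    mul_mem ⟨ζ y, hζ0 y, hg y⟩ ⟨ξ o, hξ0 o, hl o⟩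
  have hdata : ∀ (y : Y) (o : O), data e f K (g y * l o) =
      (y.1, (fun w => ζ y ^ q • ((g y).1.1 *ᵥ w)) '' o.1) := by
    intro y o
    have hgl : (g y * l o).1.1 *ᵥ e = (ξ o * ζ y) • e := by
      rw [SU_mul_mulVec, hl o, Matrix.mulVec_smul, hg y, smul_smul]
    refine Prod.ext ?_ ?_
    · rw [hy y]
      show _ = (fun x => ζ y ^ (q + 1) * x) '' (tc f '' _)
      rw [Set.image_image]
      refine Set.image_congr fun T hT => ?_
      rw [tc_conj hF h hgl hT.2, mul_pow, hξ o, one_mul]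
    · rw [ho o]
      show _ = (fun w => ζ y ^ q • ((g y).1.1 *ᵥ w)) '' (psi q e f (l o) (ξ o) '' (zp e f '' _))
      rw [Set.image_image, Set.image_image]
      refine Set.image_congr fun T hT => ?_
      rw [zp_conj hF h hgl hT.2, SU_mul_mulVec, psi]
      set v := (l o).1.1 *ᵥ zp e f T
      have hve : hermForm n F q v e = 0 :=
        herm_move_e hF (hξ0 o) (hl o) ((mem_rest hF).1 (zp_mem hF h T)).1
      have hv := eq_proj (q := q) (e := e) (f := f) v
      rw [hve, zero_smul, add_zero] at hv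
      conv_lhs => rw [hv]
      rw [Matrix.mulVec_add, Matrix.mulVec_smul, hg y, proj_add, smul_smul, proj_smul,
        show proj q e f e = 0 by simpa using proj_plane hF h (1 : F) 0, smul_zero, zero_add,
        proj_of_mem hF (hgw y _ (proj_mem hF h _)), Matrix.mulVec_smul, smul_smul, ← mul_pow,
        mul_comm (ζ y)]
  rw [← Nat.card_coe_set_eq, ← Nat.card_coe_set_eq, ← Nat.card_prod, Subgroup.relIndex,
    Subgroup.index]
  refine Nat.card_le_card_of_injective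
    (fun p : Y × O => (QuotientGroup.mk (⟨g p.1 * l p.2, hmem p.1 p.2⟩ : P) :
      P ⧸ (stabPart e K).subgroupOf P)) ?_
  rintro ⟨y, o⟩ ⟨y', o'⟩ heq
  have hin : (g y * l o)⁻¹ * (g y' * l o') ∈ stabPart e K :=
    (QuotientGroup.eq (s := (stabPart e K).subgroupOf P) (a := ⟨g y * l o, hmem y o⟩)
      (b := ⟨g y' * l o', hmem y' o'⟩)).1 heq
  have h2 := data_mul hF h K (hmem y o) hin
  rw [mul_inv_cancel_left, hdata, hdata, Prod.mk.injEq] at h2
  obtain rfl : y = y' := Subtype.ext h2.1.symm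
  refine Prod.ext rfl (Subtype.ext ?_)
  refine (Function.Injective.image_injective ?_ h2.2).symm
  intro a b hab
  exact GU_mulVec_injective (suToGU n F q (g y))
    (by simpa using smul_right_injective _ (pow_ne_zero q (hζ0 y)) hab)

/-- A class of vectors covered by the images is at most (images) × (class inside `A`). -/
theorem class_le_imgs_mul (hF : Fintype.card F = q ^ 2) (h : Hyp q e f)
    {A : AddSubgroup (Fin n → F)} (hA : ∀ a ∈ A, a ∈ rest q e f) {c : F} {T : Set (Fin n → F)}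
    (hT : ∀ v ∈ T, v ≠ 0 ∧ hermForm n F q v v = c)
    (hcov : ∀ v ∈ T, ∃ S ∈ imgs q e f (A : Set (Fin n → F)), v ∈ S) :
    T.ncard ≤ (imgs q e f (A : Set (Fin n → F))).ncard *
      {a : Fin n → F | a ∈ A ∧ a ≠ 0 ∧ hermForm n F q a a = c}.ncard := by
  classical
  set O := imgs q e f (A : Set (Fin n → F))
  choose S hS hvS using fun v : T => hcov v.1 v.2
  have hrep' : ∀ o : O, ∃ l : SU n F q, ∃ ξ : F, l.1.1 *ᵥ e = ξ • e ∧ ξ ^ (q + 1) = 1 ∧
      o.1 = psi q e f l ξ '' (A : Set (Fin n → F)) := fun o => o.2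
  choose l ξ hl hξ ho using hrep'
  have hpre : ∀ v : T, ∃ a ∈ A, psi q e f (l ⟨S v, hS v⟩) (ξ ⟨S v, hS v⟩) a = v.1 := fun v => by
    have h1 := hvS v
    rw [show S v = (⟨S v, hS v⟩ : O).1 from rfl, ho ⟨S v, hS v⟩] at h1
    exact h1
  choose a ha hav using hpre
  have hmem : ∀ v : T, a v ∈ {a : Fin n → F | a ∈ A ∧ a ≠ 0 ∧ hermForm n F q a a = c} := fun v => by
    refine ⟨ha v, fun h0 => (hT v.1 v.2).1 ?_, ?_⟩
    · rw [← hav v, h0, psi, Matrix.mulVec_zero, show proj q e f (0 : Fin n → F) = 0 by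
        simp [proj, herm_zero_left], smul_zero]
    · rw [← psi_herm hF h (hl ⟨S v, hS v⟩) (hξ ⟨S v, hS v⟩) (hA _ (ha v)), hav v]
      exact (hT v.1 v.2).2
  rw [← Nat.card_coe_set_eq, ← Nat.card_coe_set_eq, ← Nat.card_coe_set_eq, ← Nat.card_prod]
  refine Nat.card_le_card_of_injective (fun v => ((⟨S v, hS v⟩ : O),
    (⟨a v, hmem v⟩ : {a : Fin n → F | a ∈ A ∧ a ≠ 0 ∧ hermForm n F q a a = c}))) fun v w hvw => ?_
  obtain ⟨h1, h2⟩ := Prod.mk.inj hvw
  refine Subtype.ext ?_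
  rw [← hav v, ← hav w, h1, show a v = a w from congrArg Subtype.val h2]

/-! ### Dimension four -/

/-- Vectors of a nonzero norm are all reached. -/
theorem unit_class_le (hF : Fintype.card F = q ^ 2) (h : Hyp q e f) (hn : n = 4)
    {A : AddSubgroup (Fin n → F)} (hA : ∀ a ∈ A, a ∈ rest q e f) {x : Fin n → F} (hx : x ∈ A)
    (hc : hermForm n F q x x ≠ 0) :
    q * (q ^ 2 - 1) ≤ (imgs q e f (A : Set (Fin n → F))).ncard *
      {a : Fin n → F | a ∈ A ∧ a ≠ 0 ∧ hermForm n F q a a = hermForm n F q x x}.ncard := by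
  classical
  have hr := finrank_rest hF h
  have hd : finrank F (rest q e f) = 2 := by omega
  set c := hermForm n F q x x
  have hx0 : x ≠ 0 := fun h0 => hc (by simp [c, h0, herm_zero_left])
  refine le_trans ?_ (class_le_imgs_mul hF h hA
    (T := {v | v ∈ rest q e f ∧ hermForm n F q v v = c})
    (fun v hv => ⟨fun h0 => hc (by rw [← hv.2, h0, herm_zero_left]), hv.2⟩) fun v hv => ?_)
  · have h1 := countUnit_le_card hF (nondeg_rest hF h) (herm_self_fixed x hF) hc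
    rw [hd, countUnit_two hF] at h1
    rw [← Nat.card_coe_set_eq]
    exact h1
  · have hv0 : v ≠ 0 := fun h0 => hc (by rw [← hv.2, h0, herm_zero_left])
    obtain ⟨l, hl, hlx⟩ := exists_LS_tuple hF h (k := 1) (b := ![x]) (v := ![v]) (by simp [hx0])
      (by simp [hv0]) (fun i => by fin_cases i; simpa using hA x hx)
      (fun i => by fin_cases i; simpa using hv.1)
      (fun i j => by fin_cases i; fin_cases j; simpa using hv.2.symm)
      (Or.inr ⟨by omega, 0, 0, by simpa [hv.2] using hc⟩)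
    exact ⟨_, image_mem_imgs hF hl hA, x, hx, by simpa using hlx 0⟩

/-- A hyperbolic partner inside the rest. -/
theorem exists_partner_rest (hF : Fintype.card F = q ^ 2) (h : Hyp q e f) {u : Fin n → F}
    (hu : u ∈ rest q e f) (hu0 : u ≠ 0) (huu : hermForm n F q u u = 0) :
    ∃ u' ∈ rest q e f, Hyp q u u' := by
  obtain ⟨t0, ht0, hut⟩ : ∃ t ∈ rest q e f, hermForm n F q u t ≠ 0 := by
    by_contra hcon
    push Not at hcon
    exact hu0 (nondeg_rest hF h u hu hcon)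
  obtain ⟨j, hj⟩ := exists_isotropic_shift hF huu hut
  have hut' : hermForm n F q u (t0 + j • u) ≠ 0 := by
    rwa [herm_add_right _ _ _ hF, herm_smul_right, huu, mul_zero, add_zero]
  exact ⟨_, (rest q e f).smul_mem _ ((rest q e f).add_mem ht0 ((rest q e f).smul_mem _ hu)),
    hyp_of_nonorth hF huu hj hut'⟩

/-- Representatives of the isotropic lines, reached by `LS`. -/
theorem exists_line_reps (hF : Fintype.card F = q ^ 2) (h : Hyp q e f) {u u' : Fin n → F}
    (hu : u ∈ rest q e f) (hu' : u' ∈ rest q e f) (hyp : Hyp q u u') :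
    ∃ rep : Option {c : F // c + c ^ q = 0} → Fin n → F,
      (∀ o, ∃ l ∈ LS (q := q) e f, l.1.1 *ᵥ u = rep o) ∧
      ∀ o o', ∀ a b : F, a ≠ 0 → b ≠ 0 → a • rep o = b • rep o' → o = o' ∧ a = b := by
  classical
  obtain ⟨c1, hc10, hc1⟩ := exists_trace_zero_ne_zero hF
  have htv : ∀ w ∈ rest q e f, hermForm n F q w w = 0 → ∀ c : F, c + c ^ q = 0 →
      ∃ l ∈ LS (q := q) e f, ∀ y, l.1.1 *ᵥ y = y + (c * hermForm n F q y w) • w := by
    intro w hw hww c hc
    obtain ⟨s, hs⟩ := exists_SU_tv hF hww hc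
    have hsx : ∀ x, s.1.1 *ᵥ x = x + (c * hermForm n F q x w) • w := fun x => by
      have := hs x
      rwa [suToGU_val] at this
    refine ⟨s, mem_LS.2 ⟨?_, ?_⟩, hsx⟩
    · rw [hsx, (rest_swap_herm hF hw).1, mul_zero, zero_smul, add_zero]
    · rw [hsx, (rest_swap_herm hF hw).2, mul_zero, zero_smul, add_zero]
  refine ⟨fun o => o.elim (c1 • u') (fun c => u + c.1 • u'), ?_, ?_⟩
  · rintro (_ | ⟨c, hc⟩)
    · obtain ⟨s, hs, hsx⟩ := htv u' hu' hyp.2.1 c1 hc1
      obtain ⟨t, ht, htx⟩ := htv u hu hyp.1 (-c1⁻¹) (by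
        rw [neg_pow_q hF, inv_pow]
        have h1 : c1 ^ q = -c1 := eq_neg_of_add_eq_zero_right hc1
        rw [h1, inv_neg, neg_neg, neg_add_cancel])
      refine ⟨t * s, mul_mem ht hs, ?_⟩
      rw [SU_mul_mulVec, hsx, hyp.2.2, mul_one, htx, herm_add_left, herm_smul_left, hyp.1,
        hyp.symm' hF, zero_add, mul_one, neg_mul, inv_mul_cancel₀ hc10]
      show u + c1 • u' + (-1 : F) • u = c1 • u'
      rw [neg_one_smul]
      abel
    · obtain ⟨s, hs, hsx⟩ := htv u' hu' hyp.2.1 c hc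
      exact ⟨s, hs, by rw [hsx, hyp.2.2, mul_one]; rfl⟩
  · rintro (_ | ⟨c, hc⟩) (_ | ⟨c', hc'⟩) a b ha hb hab
    · refine ⟨rfl, ?_⟩
      have h1 := congrArg (fun v => hermForm n F q v u) hab
      simp only [Option.elim, herm_smul_left, hyp.symm' hF, mul_one] at h1
      exact mul_right_cancel₀ hc10 h1
    · have h1 := congrArg (fun v => hermForm n F q v u') hab
      simp only [Option.elim, herm_add_left, herm_smul_left, hyp.2.1, hyp.2.2, mul_zero, add_zero,
        mul_one] at h1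
      exact absurd h1.symm hb
    · have h1 := congrArg (fun v => hermForm n F q v u') hab
      simp only [Option.elim, herm_add_left, herm_smul_left, hyp.2.1, hyp.2.2, mul_zero, add_zero,
        mul_one] at h1
      exact absurd h1 ha
    · have h1 := congrArg (fun v => hermForm n F q v u') hab
      simp only [Option.elim, herm_add_left, herm_smul_left, hyp.2.1, hyp.2.2, mul_zero, add_zero,
        mul_one] at h1
      subst h1
      have h2 := congrArg (fun v => hermForm n F q v u) hab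
      simp only [Option.elim, herm_add_left, herm_smul_left, hyp.1, hyp.symm' hF, mul_one,
        zero_add] at h2
      exact ⟨congrArg some (Subtype.ext (mul_left_cancel₀ ha h2)), rfl⟩

theorem card_option_trace (hF : Fintype.card F = q ^ 2) :
    Nat.card (Option {c : F // c + c ^ q = 0}) = q + 1 := by
  rw [Finite.card_option, card_trace_zero hF]

/-- The multipliers of an isotropic vector by the parabolic. -/
theorem exists_multiplier (hF : Fintype.card F = q ^ 2) (h : Hyp q e f) {u u' : Fin n → F}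
    (hu : u ∈ rest q e f) (hu' : u' ∈ rest q e f) (hyp : Hyp q u u') {r ν : F} (hr : r ^ q = r)
    (hr0 : r ≠ 0) (hν : ν ^ (q + 1) = 1) :
    ∃ (g : SU n F q) (ζ : F), g.1.1 *ᵥ e = ζ • e ∧ ζ ^ (q + 1) = 1 ∧ g.1.1 *ᵥ f = ζ • f ∧
      psi q e f g ζ u = (r * ν ^ 2) • u ∧ ∀ a, g.1.1 *ᵥ (a • u) = (a * (r * ν)) • u := by
  have hν0 : ν ≠ 0 := fun h0 => by rw [h0, zero_pow (by omega)] at hν; exact zero_ne_one hν
  have hνq : ν ^ q = ν⁻¹ := eq_inv_of_mul_eq_one_left (by rw [← pow_succ]; exact hν)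
  obtain ⟨A1, hd1, hA1e, hA1f, hA1fix⟩ := exists_GU_hyp_scale hF h (inv_ne_zero hν0)
  obtain ⟨A2, hd2, hA2u, -, hA2fix⟩ := exists_GU_hyp_scale hF hyp (mul_ne_zero hr0 hν0)
  obtain ⟨g, hg⟩ := exists_SU_of_GU (A := A1 * A2) (by
    simp only [Subgroup.coe_mul, Units.val_mul, Matrix.det_mul, hd1, hd2, inv_pow, mul_pow, hr, hνq,
      inv_inv]
    field_simp)
  obtain ⟨heu, hfu⟩ := rest_swap_herm hF hu
  obtain ⟨heu', hfu'⟩ := rest_swap_herm hF hu'
  obtain ⟨hue, huf⟩ := (mem_rest hF).1 hu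
  have hgu : ∀ a : F, g.1.1 *ᵥ (a • u) = (a * (r * ν)) • u := fun a => by
    rw [Matrix.mulVec_smul, hg, GU_mul_mulVec, hA2u, Matrix.mulVec_smul, hA1fix u hue huf, smul_smul]
  refine ⟨g, ν⁻¹, ?_, by rw [inv_pow, hν, inv_one], ?_, ?_, hgu⟩
  · rw [hg, GU_mul_mulVec, hA2fix e heu heu', hA1e]
  · rw [hg, GU_mul_mulVec, hA2fix f hfu hfu', hA1f, inv_pow, hνq, inv_inv]
  · have h1 := hgu 1
    rw [one_smul, one_mul] at h1
    rw [psi, h1, proj_smul, proj_of_mem hF hu, smul_smul, inv_pow, hνq, inv_inv]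
    congr 1
    ring

/-- The set of multipliers. -/
def mults (F : Type*) [Field F] (q : ℕ) : Set F :=
  {m | ∃ r ν : F, r ^ q = r ∧ r ≠ 0 ∧ ν ^ (q + 1) = 1 ∧ r * ν ^ 2 = m}

theorem card_mults (hF : Fintype.card F = q ^ 2) :
    q ^ 2 - 1 ≤ 4 * (mults F q).ncard ∧ ((2 : F) = 0 → q ^ 2 - 1 ≤ (mults F q).ncard) := by
  classical
  let P := Fx F q × {x : F // x ^ (q + 1) = 1}
  have hP : Fintype.card P = q ^ 2 - 1 := by
    rw [← Nat.card_eq_fintype_card, Nat.card_prod, card_norm_one hF]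
    have := card_Fx hF
    rw [show Nat.card (Fx F q) = q - 1 by omega, mul_comm, ← Nat.sq_sub_sq, one_pow]
  let m : P → F := fun p => p.1.1 * p.2.1 ^ 2
  have hne : ∀ x : {x : F // x ^ (q + 1) = 1}, x.1 ≠ 0 := fun x h0 => by
    have := x.2; rw [h0, zero_pow (by omega)] at this; exact zero_ne_one this
  have hfib : ∀ p p' : P, m p' = m p → p'.2.1 ^ 4 = p.2.1 ^ 4 ∧ (p'.2 = p.2 → p' = p) := by
    intro p p' hpp
    refine ⟨?_, fun h2 => ?_⟩
    · have hN : ∀ p : P, m p * m p ^ q = p.1.1 ^ 2 := fun p => by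
        show p.1.1 * p.2.1 ^ 2 * (p.1.1 * p.2.1 ^ 2) ^ q = p.1.1 ^ 2
        rw [mul_pow, p.1.2.1]
        rw [show p.1.1 * p.2.1 ^ 2 * (p.1.1 * (p.2.1 ^ 2) ^ q) = p.1.1 ^ 2 * (p.2.1 ^ (q + 1)) ^ 2 by
          ring, p.2.2, one_pow, mul_one]
      have h1 : p'.1.1 ^ 2 = p.1.1 ^ 2 := by rw [← hN p', ← hN p, hpp]
      have h2 : (p'.1.1 * p'.2.1 ^ 2) ^ 2 = (p.1.1 * p.2.1 ^ 2) ^ 2 := congrArg (· ^ 2) hpp
      rw [mul_pow, mul_pow, h1, ← pow_mul, ← pow_mul] at h2
      exact mul_left_cancel₀ (pow_ne_zero 2 p.1.2.2) h2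
    · have h3 : p'.1.1 * p'.2.1 ^ 2 = p.1.1 * p.2.1 ^ 2 := hpp
      rw [h2] at h3
      exact Prod.ext (Subtype.ext (mul_right_cancel₀ (pow_ne_zero 2 (hne p.2)) h3)) h2
  have himg : ((Finset.univ.image m : Finset F) : Set F) = mults F q := by
    ext x
    simp only [Finset.coe_image, Finset.coe_univ, Set.image_univ, Set.mem_range, mults,
      Set.mem_ofPred_eq]
    constructor
    · rintro ⟨p, rfl⟩
      exact ⟨_, _, p.1.2.1, p.1.2.2, p.2.2, rfl⟩
    · rintro ⟨r, ν, h1, h2, h3, rfl⟩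
      exact ⟨(⟨r, h1, h2⟩, ⟨ν, h3⟩), rfl⟩
  rw [← himg, Set.ncard_coe_finset, ← hP, ← Finset.card_univ]
  constructor
  · refine Finset.card_le_mul_card_image _ 4 fun x hx => ?_
    obtain ⟨p, -, rfl⟩ := Finset.mem_image.1 hx
    refine le_trans (Finset.card_le_card_of_injOn (fun p' => p'.2.1)
      (t := (Polynomial.nthRoots 4 (p.2.1 ^ 4)).toFinset) (fun p' hp' => ?_) ?_) ?_
    · exact Multiset.mem_toFinset.2 ((Polynomial.mem_nthRoots (by norm_num)).2
        (hfib p p' (Finset.mem_filter.1 hp').2).1)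
    · intro a ha b hb hab
      exact (hfib b a (((Finset.mem_filter.1 ha).2).trans (Finset.mem_filter.1 hb).2.symm)).2
        (Subtype.ext hab)
    · exact (Multiset.toFinset_card_le _).trans (Polynomial.card_nthRoots 4 _)
  · intro h2
    rw [Finset.card_image_of_injective]
    intro a b hab
    refine (hfib b a hab).2 (Subtype.ext ?_)
    have h4 := (hfib b a hab).1
    have h5 : (a.2.1 - b.2.1) ^ 4 = 0 := by
      linear_combination h4 + (-2 * a.2.1 ^ 3 * b.2.1 + 3 * a.2.1 ^ 2 * b.2.1 ^ 2 -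
        2 * a.2.1 * b.2.1 ^ 3 + b.2.1 ^ 4) * h2
    exact sub_eq_zero.1 (eq_zero_of_pow_eq_zero h5)

/-- Isotropic vectors reached from one. -/
theorem null_class_le (hF : Fintype.card F = q ^ 2) (h : Hyp q e f)
    {A : AddSubgroup (Fin n → F)} (hA : ∀ a ∈ A, a ∈ rest q e f) {u : Fin n → F} (hu : u ∈ A)
    (hu0 : u ≠ 0) (huu : hermForm n F q u u = 0) :
    (q + 1) * (mults F q).ncard ≤ (imgs q e f (A : Set (Fin n → F))).ncard *
      {a : Fin n → F | a ∈ A ∧ a ≠ 0 ∧ hermForm n F q a a = 0}.ncard := by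
  classical
  obtain ⟨u', hu', hyp⟩ := exists_partner_rest hF h (hA u hu) hu0 huu
  obtain ⟨rep, hrep, hinj⟩ := exists_line_reps hF h (hA u hu) hu' hyp
  have hm0 : ∀ m ∈ mults F q, m ≠ 0 := by
    rintro _ ⟨r, ν, -, hr0, hν, rfl⟩
    refine mul_ne_zero hr0 (pow_ne_zero 2 fun h0 => ?_)
    rw [h0, zero_pow (by omega)] at hν; exact zero_ne_one hν
  set T := Set.range fun p : Option {c : F // c + c ^ q = 0} × mults F q => p.2.1 • rep p.1
  have hT : (q + 1) * (mults F q).ncard ≤ T.ncard := by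
    rw [Set.ncard_range_of_injective, Nat.card_prod, card_option_trace hF, Nat.card_coe_set_eq]
    rintro ⟨o, m⟩ ⟨o', m'⟩ hab
    obtain ⟨h1, h2⟩ := hinj o o' m.1 m'.1 (hm0 _ m.2) (hm0 _ m'.2) hab
    exact Prod.ext h1 (Subtype.ext h2)
  refine hT.trans (class_le_imgs_mul hF h hA ?_ ?_)
  · rintro _ ⟨⟨o, m⟩, rfl⟩
    obtain ⟨l, -, hlu⟩ := hrep o
    refine ⟨smul_ne_zero (hm0 _ m.2) ?_, ?_⟩
    · rw [← hlu]
      intro h0
      exact hu0 (by rw [← SU_inv_mulVec l u, h0, Matrix.mulVec_zero])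
    · rw [herm_smul_left, herm_smul_right, ← hlu, SU_herm, huu, mul_zero, mul_zero]
  · rintro _ ⟨⟨o, ⟨_, r, ν, hr, hr0, hν, rfl⟩⟩, rfl⟩
    obtain ⟨l, hl, hlu⟩ := hrep o
    obtain ⟨g, ζ, hge, hζ, -, hgu, hga⟩ := exists_multiplier hF h (hA u hu) hu' hyp hr hr0 hν
    have hle : (l * g).1.1 *ᵥ e = ζ • e := by
      rw [SU_mul_mulVec, hge, Matrix.mulVec_smul, (mem_LS.1 hl).1]
    refine ⟨_, ⟨l * g, ζ, hle, hζ, rfl⟩, u, hu, ?_⟩
    have h1 := hga 1
    rw [one_smul] at h1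
    rw [psi, h1, proj_smul, proj_of_mem hF (hA u hu), smul_smul] at hgu
    rw [psi, SU_mul_mulVec, h1, Matrix.mulVec_smul, hlu, proj_smul,
      proj_of_mem hF (hlu ▸ LS_rest hF hl (hA u hu)), smul_smul]
    show _ = (r * ν ^ 2) • rep o
    rw [smul_left_injective F hu0 hgu]

/-- A line has at least `q + 1` images. -/
theorem line_imgs (hF : Fintype.card F = q ^ 2) (h : Hyp q e f)
    {A : AddSubgroup (Fin n → F)} (hA : ∀ a ∈ A, a ∈ rest q e f) {u : Fin n → F} (hu : u ∈ A)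
    (hu0 : u ≠ 0) (huu : hermForm n F q u u = 0) (hline : ∀ a ∈ A, ∃ t : F, a = t • u) :
    q + 1 ≤ (imgs q e f (A : Set (Fin n → F))).ncard := by
  classical
  obtain ⟨u', hu', hyp⟩ := exists_partner_rest hF h (hA u hu) hu0 huu
  obtain ⟨rep, hrep, hinj⟩ := exists_line_reps hF h (hA u hu) hu' hyp
  choose l hl hlu using hrep
  rw [← card_option_trace hF, ← Nat.card_coe_set_eq]
  refine Nat.card_le_card_of_injective
    (fun o => (⟨_, image_mem_imgs hF (hl o) hA⟩ : imgs q e f (A : Set (Fin n → F)))) fun o o' heq => ?_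
  have h1 : (fun z => (l o).1.1 *ᵥ z) '' (A : Set (Fin n → F)) =
      (fun z => (l o').1.1 *ᵥ z) '' (A : Set (Fin n → F)) := congrArg Subtype.val heq
  have h2 : rep o ∈ (fun z => (l o').1.1 *ᵥ z) '' (A : Set (Fin n → F)) := h1 ▸ ⟨u, hu, hlu o⟩
  obtain ⟨a, ha, hao⟩ := h2
  obtain ⟨t, rfl⟩ := hline a ha
  have h3 : t • rep o' = rep o := by rw [← hlu o', ← Matrix.mulVec_smul]; exact hao
  have ht : t ≠ 0 := fun h0 => hu0 (by
    rw [h0, zero_smul] at h3
    rw [← SU_inv_mulVec (l o) u, hlu o, ← h3, Matrix.mulVec_zero])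
  exact (hinj o o' 1 t one_ne_zero ht (by rw [one_smul, h3])).1

end Cfsg.Agent.Lib.MinIndexPSU
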