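import Mathlib
import Cfsg.Agent.Lib.MinIndexPSU.FourImages

/-!
Lib/MinIndexPSU/FourPoint: a point of `SU 4` with small index in its parabolic.
-/

set_option autoImplicit false
set_option linter.unusedSectionVars false

namespace Cfsg.Agent.Lib.MinIndexPSU

open Matrix Module Cfsg.Agent.Lib.Unitary Cfsg.Agent.Lib.AutPSU

variable {F : Type*} [Field F] [Fintype F] {q : ℕ} {n : ℕ} {e f : Fin n → F}

/-- A nontrivial proper subgroup of the trace-zero scalars has more scalings than elements. -/
theorem card_lt_card_scalings (hF : Fintype.card F = q ^ 2) (B : AddSubgroup F)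
    (hle : ∀ b ∈ B, b + b ^ q = 0) {z : F} (hz : z + z ^ q = 0) (hzB : z ∉ B)
    (h1B : 1 < Nat.card B) :
    Nat.card B < (Set.range fun μ : Fx F q => (fun x => μ.1 * x) '' (B : Set F)).ncard := by
  classical
  let S : Type _ := {μ : Fx F q // (fun x => μ.1 * x) '' (B : Set F) = B}
  have hS : Nat.card B * (Nat.card S + 1) ≤ q := by
    have hcard : Nat.card {c : F // c + c ^ q = 0} = q := card_trace_zero hF
    let μ0 : Option S → F := fun o => o.elim 0 (fun s => s.1.1)
    have hfix : ∀ o, μ0 o ^ q = μ0 o := by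
      rintro (_ | s)
      · exact zero_pow_q hF
      · exact s.1.2.1
    have hsub : ∀ o, ∀ x ∈ B, μ0 o * x ∈ B := by
      rintro (_ | s) x hx
      · simpa [μ0] using B.zero_mem
      · have : s.1.1 * x ∈ (fun y => s.1.1 * y) '' (B : Set F) := ⟨x, hx, rfl⟩
        rw [s.2] at this
        exact this
    have hinj : Function.Injective fun p : B × Option S => (μ0 p.2 * z + (p.1 : F) : F) := by
      rintro ⟨b, o⟩ ⟨b', o'⟩ h
      have h' : μ0 o * z + b = μ0 o' * z + b' := h
      have ho : μ0 o = μ0 o' := by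
        by_contra hne
        apply hzB
        set w := μ0 o - μ0 o'
        have hw : w ≠ 0 := sub_ne_zero.2 hne
        let φ : B → B := fun x => ⟨w * x, by
          rw [sub_mul]; exact B.sub_mem (hsub o x x.2) (hsub o' x x.2)⟩
        have hφ : Function.Bijective φ := Finite.injective_iff_bijective.1 fun x y hxy =>
          Subtype.ext (mul_left_cancel₀ hw (congrArg Subtype.val hxy))
        obtain ⟨x, hx⟩ := hφ.2 ⟨w * z, by
          rw [show w * z = b' - b by simp only [w]; linear_combination h']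
          exact B.sub_mem b'.2 b.2⟩
        have hxz : (x : F) = z := mul_left_cancel₀ hw (congrArg Subtype.val hx)
        exact hxz ▸ x.2
      refine Prod.ext (Subtype.ext ?_) ?_
      · rw [ho] at h'; exact add_left_cancel h'
      · rcases o with _ | s <;> rcases o' with _ | s'
        · rfl
        · exact absurd ho.symm s'.1.2.2
        · exact absurd ho s.1.2.2
        · exact congrArg some (Subtype.ext (Subtype.ext ho))
    have hmem : ∀ p : B × Option S,
        (μ0 p.2 * z + (p.1 : F)) + (μ0 p.2 * z + (p.1 : F)) ^ q = 0 := fun p => by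
      rw [add_pow_q hF, mul_pow, hfix]
      linear_combination μ0 p.2 * hz + hle _ p.1.2
    have := Nat.card_le_card_of_injective
      (fun p : B × Option S => (⟨μ0 p.2 * z + (p.1 : F), hmem p⟩ : {c : F // c + c ^ q = 0}))
      fun x y h => hinj (congrArg Subtype.val h)
    rwa [Nat.card_prod, Finite.card_option, hcard] at this
  set Y := Set.range fun μ : Fx F q => (fun x => μ.1 * x) '' (B : Set F) with hY
  have hsum : Nat.card (Fx F q) ≤ Y.ncard * Nat.card S := by
    rw [Nat.card_congr (Equiv.sigmaFiberEquiv fun μ : Fx F q =>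
      (⟨(fun x => μ.1 * x) '' (B : Set F), μ, rfl⟩ : Y)).symm, Nat.card_sigma,
      ← Nat.card_coe_set_eq, Nat.card_eq_fintype_card (α := Y), ← Finset.card_univ]
    refine Finset.sum_le_card_nsmul _ _ _ fun y _ => ?_
    obtain ⟨μ₁, hμ₁⟩ := y.2
    refine Nat.card_le_card_of_injective (fun μ => ⟨⟨μ₁.1⁻¹ * μ.1.1, ?_, ?_⟩, ?_⟩) ?_
    · rw [mul_pow, inv_pow, μ₁.2.1, μ.1.2.1]
    · exact mul_ne_zero (inv_ne_zero μ₁.2.2) μ.1.2.2
    · show (fun x => μ₁.1⁻¹ * μ.1.1 * x) '' (B : Set F) = B
      have h := congrArg Subtype.val μ.2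
      simp only at h
      have h2 : (fun x => μ.1.1 * x) '' (B : Set F) = (fun x => μ₁.1 * x) '' (B : Set F) :=
        h.trans hμ₁.symm
      calc (fun x => μ₁.1⁻¹ * μ.1.1 * x) '' (B : Set F)
          = (fun x => μ₁.1⁻¹ * x) '' ((fun x => μ.1.1 * x) '' (B : Set F)) := by
            rw [Set.image_image]; simp [mul_assoc]
        _ = B := by
            rw [h2, Set.image_image]
            simp [← mul_assoc, inv_mul_cancel₀ μ₁.2.2]
    · intro a b hab
      have h := congrArg (fun s : S => s.1.1) hab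
      exact Subtype.ext (Subtype.ext (mul_left_cancel₀ (inv_ne_zero μ₁.2.2) h))
  have hpos : 0 < Nat.card B := Nat.card_pos
  have hq := card_Fx hF
  by_contra hlt
  push Not at hlt
  have h1 := Nat.mul_le_mul_right (Nat.card S) hlt
  have h2 := one_lt_q hF
  rcases Nat.eq_zero_or_pos (Nat.card S) with h0 | h0
  · simp only [h0, mul_zero] at hsum
    omega
  · nlinarith


theorem eq_coords (hF : Fintype.card F = q ^ 2) (h : Hyp q e f) (hn : n = 4) {u u' : Fin n → F}
    (hu : u ∈ rest q e f) (hu' : u' ∈ rest q e f) (hyp : Hyp q u u') {y : Fin n → F}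
    (hy : y ∈ rest q e f) : y = hermForm n F q y u' • u + hermForm n F q y u • u' := by
  have hPW : Submodule.span F ({u, u'} : Set (Fin n → F)) ≤ rest q e f := Submodule.span_le.2 (by
    rintro v (rfl | rfl)
    exacts [hu, hu'])
  obtain ⟨-, hRd⟩ := nondeg_inf_perp hF (nondeg_rest hF h) (hyp.nondeg hF) hPW
  have hr := finrank_rest hF h
  rw [(hyp.finrank_span hF).2] at hRd
  have hbot := Submodule.finrank_eq_zero.1
    (show finrank F (rest q e f ⊓ perp q (Submodule.span F ({u, u'} : Set (Fin n → F))) :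
      Submodule F (Fin n → F)) = 0 by omega)
  refine sub_eq_zero.1 ((Submodule.mem_bot F).1 (hbot ▸ ⟨(rest q e f).sub_mem hy
    ((rest q e f).add_mem ((rest q e f).smul_mem _ hu) ((rest q e f).smul_mem _ hu')),
    fun v hv => (mem_perp_span hF).2 ?_ v hv⟩))
  rintro v (rfl | rfl)
  · rw [herm_sub_left, herm_add_left, herm_smul_left, herm_smul_left, hyp.1, hyp.symm' hF]
    ring
  · rw [herm_sub_left, herm_add_left, herm_smul_left, herm_smul_left, hyp.2.1, hyp.2.2]
    ring

/-- Two orthogonal isotropic vectors of the rest are on one line. -/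
theorem mem_line_of_isotropic (hF : Fintype.card F = q ^ 2) (h : Hyp q e f) (hn : n = 4)
    {u y : Fin n → F} (hu : u ∈ rest q e f) (hu0 : u ≠ 0) (huu : hermForm n F q u u = 0)
    (hy : y ∈ rest q e f) (hyu : hermForm n F q y u = 0) : ∃ t : F, y = t • u := by
  obtain ⟨u', hu', hyp⟩ := exists_partner_rest hF h hu hu0 huu
  refine ⟨hermForm n F q y u', ?_⟩
  conv_lhs => rw [eq_coords hF h hn hu hu' hyp hy, hyu, zero_smul, add_zero]

/-- What a small index in the parabolic forces. -/
structure Small (hF : Fintype.card F = q ^ 2) (h : Hyp q e f) (K : Subgroup (SU n F q)) : Prop where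
  tv : Nat.card (tvPart hF h K) = 1
  card : Nat.card (restPart hF h K) = q ^ 2
  iso : ∀ a ∈ restPart hF h K, hermForm n F q a a = 0
  stab : (stabPart e K).relIndex (NS e) ≤ q + 1
  shape : (∃ u, u ≠ 0 ∧ u ∈ restPart hF h K ∧ (∀ t : F, t • u ∈ restPart hF h K) ∧
      ∀ a ∈ restPart hF h K, ∃ t : F, a = t • u) ∨
    ((2 : F) = 0 ∧ ∀ a ∈ restPart hF h K, a ≠ 0 → ∀ t : F, t • a ∈ restPart hF h K ↔ t ^ q = t)

theorem small_of_relIndex (hF : Fintype.card F = q ^ 2) (hn : n = 4) (h : Hyp q e f)
    {K : Subgroup (SU n F q)} (hK : ¬ RS e ≤ K)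
    (hlt : K.relIndex (NS e) < (q + 1) * (q ^ 3 + 1)) : Small hF h K := by
  classical
  obtain ⟨c0, hc0, hc0B⟩ := exists_not_mem_tvPart hF h hK
  have hAW : ∀ a ∈ restPart hF h K, a ∈ rest q e f := fun a ha => restPart_le hF h K ha
  have hAB : ∀ a ∈ restPart hF h K, ∀ b ∈ restPart hF h K,
      hermForm n F q a b - hermForm n F q b a ∈ tvPart hF h K := fun a ha b hb => pairing_mem hF h ha hb
  have hKQ := relIndex_QS_mul hF h K
  rw [show n - 2 = 2 by omega] at hKQ
  have hsc := scalings_mul_imgs_le hF h (by omega) K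
  have hrel := relIndex_mul_le_relIndex e K
  have hyY := card_le_card_scalings hF (tvPart hF h K) (fun b hb => tvPart_trace hF h K hb) hc0 hc0B
  have hyY' := card_lt_card_scalings hF (tvPart hF h K) (fun b hb => tvPart_trace hF h K hb) hc0 hc0B
  have htwo := two_mul_card_tvPart hF h hK
  have hAle : Nat.card (restPart hF h K) ≤ q ^ 2 := by
    have := card_le_of_pairing hF h (restPart hF h K) hAW (tvPart hF h K) hAB hc0 hc0B
    rwa [show n - 2 = 2 by omega] at this
  set A := restPart hF h K with hA_def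
  set a := Nat.card A with ha_def
  set b := Nat.card (tvPart hF h K) with hb_def
  set Y := (Set.range fun μ : Fx F q => (fun x => μ.1 * x) '' (tvPart hF h K : Set F)).ncard
  set Ω := (imgs q e f (A : Set (Fin n → F))).ncard with hΩ_def
  set st := (stabPart e K).relIndex (NS e)
  set KQ := K.relIndex (QS e)
  set R := K.relIndex (NS e)
  have h1q := one_lt_q hF
  have hb0 : 0 < b := Nat.card_pos
  have ha0 : 0 < a := Nat.card_pos
  have hΩ0 : 0 < Ω := (Set.ncard_pos (Set.toFinite _)).2 ⟨_, mem_imgs_self hF hAW⟩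
  have hmainY : q ^ 5 * Y * Ω ≤ R * a * b := by
    calc q ^ 5 * Y * Ω = KQ * (a * b) * (Y * Ω) := by rw [hKQ]; ring
      _ ≤ KQ * (a * b) * st := Nat.mul_le_mul_left _ hsc
      _ = KQ * st * (a * b) := by ring
      _ ≤ R * (a * b) := Nat.mul_le_mul_right _ hrel
      _ = _ := by ring
  have hmain : q ^ 5 * Ω ≤ R * a := by
    refine Nat.le_of_mul_le_mul_right ?_ hb0
    calc q ^ 5 * Ω * b ≤ q ^ 5 * Ω * Y := Nat.mul_le_mul_left _ hyY
      _ = q ^ 5 * Y * Ω := by ring
      _ ≤ _ := hmainY
  -- the classes inside `A`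
  let cls : F → Set (Fin n → F) := fun c => {x | x ∈ A ∧ x ≠ 0 ∧ hermForm n F q x x = c}
  have hnz : ({x | x ∈ A ∧ x ≠ 0} : Set (Fin n → F)).ncard = a - 1 := by
    rw [show ({x | x ∈ A ∧ x ≠ 0} : Set (Fin n → F)) = (A : Set (Fin n → F)) \ {0} by ext x; simp,
      Set.ncard_diff_singleton_of_mem A.zero_mem, ← Nat.card_coe_set_eq]
    rfl
  have hcls : ∀ c, (cls c).ncard ≤ a - 1 := fun c => by
    rw [← hnz]
    exact Set.ncard_le_ncard (fun x hx => ⟨hx.1, hx.2.1⟩) (Set.toFinite _)
  have hcls2 : ∀ c c', c ≠ c' → (cls c).ncard + (cls c').ncard ≤ a - 1 := fun c c' hne => by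
    rw [← hnz, ← Set.ncard_union_eq (Set.disjoint_left.2 fun x hx hx' =>
      hne (hx.2.2.symm.trans hx'.2.2))]
    exact Set.ncard_le_ncard (fun x hx => by rcases hx with hx | hx <;> exact ⟨hx.1, hx.2.1⟩)
      (Set.toFinite _)
  have hunit : ∀ x ∈ A, hermForm n F q x x ≠ 0 →
      q * (q ^ 2 - 1) ≤ Ω * (cls (hermForm n F q x x)).ncard := fun x hx hc =>
    unit_class_le hF h hn hAW hx hc
  have hnull : ∀ u ∈ A, u ≠ 0 → hermForm n F q u u = 0 →
      (q + 1) * (mults F q).ncard ≤ Ω * (cls 0).ncard := fun u hu hu0 huu =>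
    null_class_le hF h hAW hu hu0 huu
  obtain ⟨hm4, hm1⟩ := card_mults hF
  obtain ⟨p, k, hp, hchar, hk, hqk⟩ := q_eq_primePow hF
  have hp2 : (2 : F) = 0 ↔ p = 2 := by
    rw [show (2 : F) = ((2 : ℕ) : F) by norm_num, CharP.cast_eq_zero_iff F p]
    exact ⟨fun hd => (Nat.prime_dvd_prime_iff_eq hp Nat.prime_two).1 hd, fun hd => hd ▸ dvd_rfl⟩
  -- the order of `A`
  have hsq : q ^ 2 - 1 + 1 = q ^ 2 := Nat.sub_add_cancel (Nat.one_le_pow _ _ (by omega))
  have hq3 : q + 1 ≤ q ^ 3 := by
    have : q * 2 ≤ q ^ 3 := by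
      rw [pow_succ' q 2]; exact Nat.mul_le_mul_left _ (by nlinarith)
    omega
  have hacard : a = q ^ 2 := by
    by_contra hne
    obtain ⟨j, hj, hja⟩ : ∃ j, p * p ^ j ≤ q ^ 2 ∧ a = p ^ j := by
      have hdvd : a ∣ Nat.card (rest q e f) :=
        AddSubgroup.card_dvd_of_le (K := (rest q e f).toAddSubgroup) hAW
      rw [natCard_sub hF, hqk, ← pow_mul] at hdvd
      obtain ⟨j, -, hj⟩ := (Nat.dvd_prime_pow hp).1 hdvd
      refine ⟨j, ?_, hj⟩
      have h1 : p ^ j < p ^ (k * 2) := by
        rw [← hj, pow_mul, ← hqk]; exact lt_of_le_of_ne hAle hne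
      rw [hqk, ← pow_mul, ← pow_succ']
      exact Nat.pow_le_pow_right hp.pos (Nat.succ_le_of_lt ((Nat.pow_lt_pow_iff_right hp.one_lt).1 h1))
    have hpa : p * a ≤ q ^ 2 := hja ▸ hj
    by_cases ha1 : a = 1
    · rw [ha1, mul_one] at hmain
      have h5 : q ^ 5 ≤ R := le_trans (Nat.le_mul_of_pos_right _ hΩ0) hmain
      obtain ⟨s, rfl⟩ : ∃ s, q = s + 2 := ⟨q - 2, by omega⟩
      nlinarith [Nat.zero_le (s ^ 5), Nat.zero_le (s ^ 4), Nat.zero_le (s ^ 3), Nat.zero_le (s ^ 2)]
    have h4a : 4 * (a * a) ≤ q ^ 2 * q ^ 2 := by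
      have := Nat.mul_le_mul (le_trans (Nat.mul_le_mul_right a hp.two_le) hpa)
        (le_trans (Nat.mul_le_mul_right a hp.two_le) hpa)
      linarith
    by_cases hiso : ∀ x ∈ A, hermForm n F q x x = 0
    · obtain ⟨u, hu, hu0⟩ : ∃ u ∈ A, u ≠ 0 := by
        by_contra hcon
        push Not at hcon
        have : Subsingleton A := ⟨fun u v => Subtype.ext ((hcon _ u.2).trans (hcon _ v.2).symm)⟩
        exact ha1 (Nat.card_of_subsingleton (0 : A))
      have h0 := hnull u hu hu0 (hiso u hu)
      have hc := Nat.mul_le_mul_left Ω ((hcls 0).trans (Nat.sub_le a 1))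
      by_cases h2 : (2 : F) = 0
      · have h1 : (q + 1) * (q ^ 2 - 1) ≤ Ω * a :=
          le_trans (Nat.mul_le_mul_left _ (hm1 h2)) (h0.trans hc)
        have h5 : 4 * (q * (q + 1) * (q ^ 2 - 1)) ≤ R := by
          refine Nat.le_of_mul_le_mul_right ?_ (pow_pos (by omega : 0 < q) 4)
          calc 4 * (q * (q + 1) * (q ^ 2 - 1)) * q ^ 4 = 4 * (q ^ 5 * ((q + 1) * (q ^ 2 - 1))) := by ring
            _ ≤ 4 * (q ^ 5 * (Ω * a)) := by gcongr
            _ = 4 * ((q ^ 5 * Ω) * a) := by ring
            _ ≤ 4 * ((R * a) * a) := by gcongr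
            _ = R * (4 * (a * a)) := by ring
            _ ≤ R * (q ^ 2 * q ^ 2) := by gcongr
            _ = R * q ^ 4 := by ring
        obtain ⟨s, rfl⟩ : ∃ s, q = s + 2 := ⟨q - 2, by omega⟩
        rw [show (s + 2) ^ 2 - 1 = s ^ 2 + 4 * s + 3 from Nat.sub_eq_of_eq_add (by ring)] at h5
        nlinarith [Nat.zero_le (s ^ 4), Nat.zero_le (s ^ 3), Nat.zero_le (s ^ 2)]
      · have hp3 : 3 ≤ p := by
          have := hp.two_le
          have : p ≠ 2 := fun h3 => h2 (hp2.2 h3)
          omega
        have h9a : 9 * (a * a) ≤ q ^ 2 * q ^ 2 := by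
          have := Nat.mul_le_mul (le_trans (Nat.mul_le_mul_right a hp3) hpa)
            (le_trans (Nat.mul_le_mul_right a hp3) hpa)
          linarith
        have h1 : (q + 1) * (q ^ 2 - 1) ≤ 4 * (Ω * a) :=
          calc (q + 1) * (q ^ 2 - 1) ≤ (q + 1) * (4 * (mults F q).ncard) := Nat.mul_le_mul_left _ hm4
            _ = 4 * ((q + 1) * (mults F q).ncard) := by ring
            _ ≤ _ := Nat.mul_le_mul_left _ (h0.trans hc)
        have h5 : 9 * (q * (q + 1) * (q ^ 2 - 1)) ≤ 4 * R := by
          refine Nat.le_of_mul_le_mul_right ?_ (pow_pos (by omega : 0 < q) 4)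
          calc 9 * (q * (q + 1) * (q ^ 2 - 1)) * q ^ 4 = 9 * (q ^ 5 * ((q + 1) * (q ^ 2 - 1))) := by ring
            _ ≤ 9 * (q ^ 5 * (4 * (Ω * a))) := by gcongr
            _ = 36 * ((q ^ 5 * Ω) * a) := by ring
            _ ≤ 36 * ((R * a) * a) := by gcongr
            _ = 4 * R * (9 * (a * a)) := by ring
            _ ≤ 4 * R * (q ^ 2 * q ^ 2) := by gcongr
            _ = 4 * R * q ^ 4 := by ring
        obtain ⟨s, rfl⟩ : ∃ s, q = s + 2 := ⟨q - 2, by omega⟩
        rw [show (s + 2) ^ 2 - 1 = s ^ 2 + 4 * s + 3 from Nat.sub_eq_of_eq_add (by ring)] at h5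
        nlinarith [Nat.zero_le (s ^ 4), Nat.zero_le (s ^ 3), Nat.zero_le (s ^ 2)]
    · push Not at hiso
      obtain ⟨x, hx, hxx⟩ := hiso
      have h1 : q * (q ^ 2 - 1) ≤ Ω * a :=
        (hunit x hx hxx).trans (Nat.mul_le_mul_left _ ((hcls _).trans (Nat.sub_le a 1)))
      have h5 : 4 * (q * q * (q ^ 2 - 1)) ≤ R := by
        refine Nat.le_of_mul_le_mul_right ?_ (pow_pos (by omega : 0 < q) 4)
        calc 4 * (q * q * (q ^ 2 - 1)) * q ^ 4 = 4 * (q ^ 5 * (q * (q ^ 2 - 1))) := by ring
          _ ≤ 4 * (q ^ 5 * (Ω * a)) := by gcongr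
          _ = 4 * ((q ^ 5 * Ω) * a) := by ring
          _ ≤ 4 * ((R * a) * a) := by gcongr
          _ = R * (4 * (a * a)) := by ring
          _ ≤ R * (q ^ 2 * q ^ 2) := by gcongr
          _ = R * q ^ 4 := by ring
      obtain ⟨s, rfl⟩ : ∃ s, q = s + 2 := ⟨q - 2, by omega⟩
      rw [show (s + 2) ^ 2 - 1 = s ^ 2 + 4 * s + 3 from Nat.sub_eq_of_eq_add (by ring)] at h5
      nlinarith [Nat.zero_le (s ^ 4), Nat.zero_le (s ^ 3), Nat.zero_le (s ^ 2)]
  -- at most `q + 1` images
  have hR3 : R < q ^ 3 * (q + 2) := by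
    have : (q + 1) * (q ^ 3 + 1) = q ^ 3 * (q + 1) + (q + 1) := by ring
    have : q ^ 3 * (q + 2) = q ^ 3 * (q + 1) + q ^ 3 := by ring
    omega
  have hΩle : Ω ≤ q + 1 := by
    have h1 : q ^ 3 * Ω ≤ R := by
      refine Nat.le_of_mul_le_mul_right ?_ (pow_pos (by omega : 0 < q) 2)
      calc q ^ 3 * Ω * q ^ 2 = q ^ 5 * Ω := by ring
        _ ≤ R * a := hmain
        _ = R * q ^ 2 := by rw [hacard]
    have : Ω < q + 2 := Nat.lt_of_mul_lt_mul_left (lt_of_le_of_lt h1 hR3)
    omega
  have hadd : ∀ x y : Fin n → F, hermForm n F q (x + y) (x + y) = hermForm n F q x x +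
      hermForm n F q y y + (hermForm n F q x y + hermForm n F q y x) := fun x y => by
    rw [herm_add_left, herm_add_right _ _ _ hF, herm_add_right _ _ _ hF]
    ring
  have hsmall : q ≤ 3 → ∀ x ∈ A, ∀ y ∈ A, hermForm n F q x y = hermForm n F q y x :=
    fun h3 x hx y hy => by
      have : Subsingleton (tvPart hF h K) := (Nat.card_eq_one_iff_unique.1 (by omega)).1
      exact sub_eq_zero.1 (congrArg Subtype.val
        (Subsingleton.elim (⟨_, hAB x hx y hy⟩ : tvPart hF h K) 0))
  have hexists : ∀ s : Finset (Fin n → F), s.card < a → ∃ y ∈ A, y ∉ s := fun s hs => by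
    by_contra hcon
    push Not at hcon
    have : a ≤ s.card := by
      rw [ha_def, ← Nat.card_eq_finsetCard]
      exact Nat.card_le_card_of_injective (fun y : A => (⟨y.1, hcon y.1 y.2⟩ : s))
        fun u v huv => Subtype.ext (congrArg (fun z => z.1) huv)
    omega
  have hiso : ∀ x ∈ A, hermForm n F q x x = 0 := by
    intro x hx
    by_contra hc
    set c := hermForm n F q x x with hc_def
    have hx0 : x ≠ 0 := fun h0 => hc (by rw [hc_def, h0, herm_zero_left])
    by_cases hother : ∃ y ∈ A, hermForm n F q y y ≠ 0 ∧ hermForm n F q y y ≠ c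
    · obtain ⟨y, hy, hy0, hyc⟩ := hother
      have h1 := hunit x hx hc
      have h2 := hunit y hy hy0
      rw [← hc_def] at h1
      have h3 := Nat.mul_le_mul hΩle (hcls2 c (hermForm n F q y y) (Ne.symm hyc))
      rw [mul_add, hacard] at h3
      have h4 : q * (q ^ 2 - 1) + q * (q ^ 2 - 1) ≤ (q + 1) * (q ^ 2 - 1) := by omega
      rw [← add_mul] at h4
      have := Nat.le_of_mul_le_mul_right h4 (by have := Nat.one_lt_pow two_ne_zero h1q; omega)
      omega
    push Not at hother
    have hval : ∀ y ∈ A, hermForm n F q y y = 0 ∨ hermForm n F q y y = c := fun y hy => by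
      by_cases hy0 : hermForm n F q y y = 0
      · exact Or.inl hy0
      · exact Or.inr (hother y hy hy0)
    by_cases hall : ∀ y ∈ A, y ≠ 0 → hermForm n F q y y = c
    · -- everything of one nonzero norm
      by_cases h2 : (2 : F) = 0
      · obtain ⟨y, hy, hys⟩ := hexists {0, x} (lt_of_le_of_lt Finset.card_le_two (by
          rw [hacard]; have : 2 ^ 2 ≤ q ^ 2 := Nat.pow_le_pow_left h1q 2; omega))
        simp only [Finset.mem_insert, Finset.mem_singleton, not_or] at hys
        have hxy : x + y ≠ 0 := fun h0 => hys.2 (by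
          rw [eq_neg_of_add_eq_zero_right h0]
          funext i
          rw [Pi.neg_apply]
          linear_combination -(x i) * h2)
        have hfxy := hall _ (A.add_mem hx hy) hxy
        rw [hadd, hall y hy hys.1, ← hc_def] at hfxy
        by_cases hq3' : q ≤ 3
        · rw [hsmall hq3' x hx y hy] at hfxy
          exact hc (by linear_combination hfxy - hermForm n F q y x * h2)
        · obtain ⟨z, hz, hzs⟩ := hexists {0, x, y, x + y} (lt_of_le_of_lt Finset.card_le_four (by
            rw [hacard]; have : 4 ^ 2 ≤ q ^ 2 := Nat.pow_le_pow_left (by omega) 2; omega))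
          simp only [Finset.mem_insert, Finset.mem_singleton, not_or] at hzs
          obtain ⟨hz0, hzx, hzy, hzxy⟩ := hzs
          have hne : ∀ w v : Fin n → F, v ≠ w → w + v ≠ 0 := fun w v hwv h0 => hwv (by
            rw [eq_neg_of_add_eq_zero_right h0]
            funext i
            rw [Pi.neg_apply]
            linear_combination -(w i) * h2)
          have h1 := hall _ (A.add_mem hx hz) (hne _ _ hzx)
          have h3 := hall _ (A.add_mem hy hz) (hne _ _ hzy)
          have h5 := hall _ (A.add_mem (A.add_mem hx hy) hz) (hne _ _ hzxy)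
          rw [hadd, hall z hz hz0, ← hc_def] at h1
          rw [hadd, hall z hz hz0, hall y hy hys.1] at h3
          rw [hadd (x + y) z, hadd x y, hall z hz hz0, hall y hy hys.1, ← hc_def, herm_add_left,
            herm_add_right _ _ _ hF] at h5
          exact hc (by linear_combination h5 - hfxy - h1 - h3 + c * h2)
      · have h2x : x + x ≠ 0 := fun h0 => hx0 (by
          funext i
          have h3 : x i + x i = 0 := congrFun h0 i
          rw [← two_mul] at h3
          simpa using (mul_eq_zero.1 h3).resolve_left h2)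
        have hf2x := hall _ (A.add_mem hx hx) h2x
        rw [hadd, ← hc_def] at hf2x
        obtain ⟨y, hy, hys⟩ := hexists {0, x, -x} (lt_of_le_of_lt Finset.card_le_three (by
          rw [hacard]; have : 2 ^ 2 ≤ q ^ 2 := Nat.pow_le_pow_left h1q 2; omega))
        simp only [Finset.mem_insert, Finset.mem_singleton, not_or] at hys
        obtain ⟨hy0, hyx, hyx'⟩ := hys
        have h1 := hall _ (A.add_mem hx hy) (fun h0 => hyx' (eq_neg_of_add_eq_zero_right h0))
        have h3 := hall _ (A.add_mem hx (A.neg_mem hy))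
          (fun h0 => hyx (by rw [← neg_neg y, eq_neg_of_add_eq_zero_right h0, neg_neg]))
        rw [hadd, hall y hy hy0, ← hc_def] at h1
        rw [hadd, herm_neg_left, herm_neg_right _ _ hF, herm_neg_right _ _ hF, herm_neg_left,
          neg_neg, hall y hy hy0, ← hc_def] at h3
        exact hc (mul_left_cancel₀ h2 (by linear_combination h1 + h3))
    push Not at hall
    obtain ⟨u, hu, hu0, huc⟩ := hall
    have huu : hermForm n F q u u = 0 := (hval u hu).resolve_right huc
    by_cases h2 : (2 : F) = 0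
    · have h1 := hunit x hx hc
      have h3 : (q + 1) * (q ^ 2 - 1) ≤ Ω * (cls 0).ncard :=
        le_trans (Nat.mul_le_mul_left _ (hm1 h2)) (hnull u hu hu0 huu)
      have h4 := Nat.mul_le_mul hΩle (hcls2 c 0 hc)
      rw [← hc_def] at h1
      rw [mul_add, hacard] at h4
      have h6 : q * (q ^ 2 - 1) + (q + 1) * (q ^ 2 - 1) ≤ (q + 1) * (q ^ 2 - 1) := by omega
      have h7 : 0 < q * (q ^ 2 - 1) :=
        Nat.mul_pos (by omega) (by have := Nat.one_lt_pow two_ne_zero h1q; omega)
      omega
    · have hsum : hermForm n F q u x + hermForm n F q x u = 0 := by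
        have e1 := hval _ (A.add_mem hu hx)
        have e2 := hval _ (A.add_mem hu (A.neg_mem hx))
        rw [hadd, huu, ← hc_def] at e1
        rw [hadd, huu, herm_neg_left, herm_neg_right _ _ hF, herm_neg_right _ _ hF, herm_neg_left,
          neg_neg, ← hc_def] at e2
        rcases e1 with e1 | e1
        · rcases e2 with e2 | e2
          · exact absurd (mul_left_cancel₀ h2 (by linear_combination e1 + e2)) hc
          · linear_combination -e2
        · linear_combination e1
      by_cases hq3' : q ≤ 3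
      · -- `q = 3`
        have hs := hsmall hq3' u hu x hx
        have hxu : hermForm n F q x u = 0 :=
          mul_left_cancel₀ h2 (by linear_combination hsum - hs)
        obtain ⟨t, ht⟩ := mem_line_of_isotropic hF h hn (hAW u hu) hu0 huu (hAW x hx) hxu
        exact hc (by rw [hc_def, ht, herm_smul_left, herm_smul_right, huu, mul_zero, mul_zero])
      · -- characteristic three
        have h3 : (3 : F) = 0 := by
          rcases hval _ (A.add_mem hx hx) with h4 | h4 <;> rw [hadd, ← hc_def] at h4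
          · exact absurd (mul_left_cancel₀ h2 (mul_left_cancel₀ h2 (by linear_combination h4))) hc
          · exact mul_right_cancel₀ hc (by linear_combination h4)
        have hpair : ∀ y ∈ cls c, hermForm n F q (y + x) (y + x) = 0 ∨
            hermForm n F q (y + -x) (y + -x) = 0 := by
          rintro y ⟨hy, -, hyc⟩
          rcases hval _ (A.add_mem hy hx) with h4 | h4
          · exact Or.inl h4
          · refine Or.inr ?_
            rw [hadd, hyc, ← hc_def] at h4
            rw [hadd, herm_neg_left, herm_neg_right _ _ hF, herm_neg_right _ _ hF, herm_neg_left,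
              neg_neg, hyc, ← hc_def]
            linear_combination -h4 + c * h3
        let A00 := {y : Fin n → F | y ∈ A ∧ hermForm n F q y y = 0}
        have hc00 : (cls c).ncard ≤ 2 * A00.ncard := by
          rw [← Nat.card_fin 2, ← Nat.card_coe_set_eq, ← Nat.card_coe_set_eq, ← Nat.card_prod]
          refine Nat.card_le_card_of_injective (fun y : cls c =>
            if hz : hermForm n F q (y.1 + x) (y.1 + x) = 0 then
              ((0 : Fin 2), (⟨y.1 + x, A.add_mem y.2.1 hx, hz⟩ : A00))
            else (1, ⟨y.1 + -x, A.add_mem y.2.1 (A.neg_mem hx), (hpair y.1 y.2).resolve_left hz⟩)) ?_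
          intro y y' hyy
          simp only at hyy
          split_ifs at hyy with g1 g2 g2
          · exact Subtype.ext (add_right_cancel (congrArg (fun z : Fin 2 × A00 => z.2.1) hyy))
          · exact absurd (congrArg Prod.fst hyy) (by simp)
          · exact absurd (congrArg Prod.fst hyy) (by simp)
          · exact Subtype.ext (add_right_cancel (congrArg (fun z : Fin 2 × A00 => z.2.1) hyy))
        have htot : (cls c).ncard + A00.ncard ≤ a := by
          rw [← Set.ncard_union_eq (Set.disjoint_left.2 fun y hy hy' =>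
            hc (hy.2.2.symm.trans hy'.2))]
          refine le_of_le_of_eq (Set.ncard_le_ncard (t := (A : Set (Fin n → F)))
            (fun y hy => by rcases hy with hy | hy <;> exact hy.1) (Set.toFinite _)) ?_
          rw [← Nat.card_coe_set_eq]; rfl
        have h4 : 3 * (q * (q ^ 2 - 1)) ≤ (q + 1) * (2 * q ^ 2) := by
          calc 3 * (q * (q ^ 2 - 1)) ≤ 3 * (Ω * (cls c).ncard) := Nat.mul_le_mul_left _ (hunit x hx hc)
            _ = Ω * (3 * (cls c).ncard) := by ring
            _ ≤ (q + 1) * (2 * q ^ 2) := Nat.mul_le_mul hΩle (by omega)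
        obtain ⟨s, rfl⟩ : ∃ s, q = s + 4 := ⟨q - 4, by omega⟩
        rw [show (s + 4) ^ 2 - 1 = s ^ 2 + 8 * s + 15 from Nat.sub_eq_of_eq_add (by ring)] at h4
        nlinarith [Nat.zero_le (s ^ 3), Nat.zero_le (s ^ 2)]
  -- a nonzero vector, the shape
  obtain ⟨u, hu, hu0⟩ : ∃ u ∈ A, u ≠ 0 := by
    obtain ⟨y, hy, hys⟩ := hexists {0} (by
      rw [hacard, Finset.card_singleton]
      exact Nat.one_lt_pow two_ne_zero h1q)
    exact ⟨y, hy, by simpa using hys⟩
  have huu := hiso u hu
  have hreal : ∀ v ∈ A, hermForm n F q u v ≠ 0 → (2 : F) = 0 := by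
    intro v hv huv
    by_contra hcon
    -- odd characteristic: all of `A` is a real form, so all trace-zero scalars are pairings
    have hvv := hiso v hv
    have hT : ∀ y ∈ A, ∀ z ∈ A, hermForm n F q y z + hermForm n F q z y = 0 := fun y hy z hz => by
      have := hiso _ (A.add_mem hy hz)
      rwa [hadd, hiso y hy, hiso z hz, zero_add, zero_add] at this
    set η := hermForm n F q u v
    have hvu : hermForm n F q v u = -η := eq_neg_of_add_eq_zero_right (hT u hu v hv)
    have hηq : η ^ q = -η := by rw [herm_conj u v hF]; exact hvu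
    set u'' := ((hermForm n F q u v) ^ q)⁻¹ • v
    have hyp := hyp_of_nonorth hF huu hvv huv
    have hco : ∀ y ∈ A, ∃ α β : F, α ^ q = α ∧ β ^ q = β ∧ y = α • u + β • v := fun y hy => by
      refine ⟨hermForm n F q y v / η, -(hermForm n F q y u) / η, ?_, ?_, ?_⟩
      · have h1 : hermForm n F q y v ^ q = -hermForm n F q y v := by
          rw [herm_conj y v hF]; exact eq_neg_of_add_eq_zero_right (hT y hy v hv)
        rw [div_pow, h1, hηq, neg_div_neg_eq]
      · have h1 : hermForm n F q y u ^ q = -hermForm n F q y u := by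
          rw [herm_conj y u hF]; exact eq_neg_of_add_eq_zero_right (hT y hy u hu)
        rw [div_pow, neg_pow_q hF, h1, hηq]
        field_simp
      · have h1 := eq_coords hF h hn (hAW u hu) ((rest q e f).smul_mem _ (hAW v hv)) hyp (hAW y hy)
        conv_lhs => rw [h1]
        rw [herm_smul_right, smul_smul, inv_pow, pow_q_q hF, hηq, inv_neg, mul_neg, ← div_eq_mul_inv,
          inv_mul_eq_div, neg_div]
    choose α β hα hβ hy using hco
    have hinj : Function.Injective fun y : A =>
        ((⟨α y.1 y.2, hα y.1 y.2⟩ : {x : F // x ^ q = x}),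
          (⟨β y.1 y.2, hβ y.1 y.2⟩ : {x : F // x ^ q = x})) := fun y z hyz => by
      obtain ⟨h1, h2⟩ := Prod.mk.inj hyz
      refine Subtype.ext ?_
      rw [hy y.1 y.2, hy z.1 z.2, show α y.1 y.2 = α z.1 z.2 from congrArg Subtype.val h1,
        show β y.1 y.2 = β z.1 z.2 from congrArg Subtype.val h2]
    have hbij := (Nat.bijective_iff_injective_and_card _).2 ⟨hinj, by
      rw [Nat.card_prod, card_fixed hF, ← sq]; exact hacard⟩
    apply hc0B
    have hr : (c0 / (2 * η)) ^ q = c0 / (2 * η) := by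
      have h2q : (2 : F) ^ q = 2 := by
        rw [show (2 : F) = 1 + 1 by norm_num, add_pow_q hF, one_pow]
      rw [div_pow, mul_pow, h2q, hηq, eq_neg_of_add_eq_zero_right hc0, mul_neg, neg_div_neg_eq]
    obtain ⟨⟨z, hz⟩, hzz⟩ := hbij.2 (⟨c0 / (2 * η), hr⟩, ⟨0, zero_pow_q hF⟩)
    obtain ⟨h1, h2⟩ := Prod.mk.inj hzz
    have hzval : z = (c0 / (2 * η)) • u := by
      rw [hy z hz, show α z hz = _ from congrArg Subtype.val h1,
        show β z hz = _ from congrArg Subtype.val h2, zero_smul, add_zero]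
    have h3 := hAB z hz v hv
    rwa [hzval, herm_smul_left, herm_smul_right, hr, hvu, show c0 / (2 * η) * hermForm n F q u v -
      c0 / (2 * η) * -η = c0 by
        show c0 / (2 * η) * η - c0 / (2 * η) * -η = c0
        field_simp
        ring] at h3
  have hΩge : q + 1 ≤ Ω := by
    by_cases h2 : (2 : F) = 0
    · have h1 : (q + 1) * (q ^ 2 - 1) ≤ Ω * (q ^ 2 - 1) :=
        le_trans (Nat.mul_le_mul_left _ (hm1 h2)) ((hnull u hu hu0 huu).trans
          (Nat.mul_le_mul_left _ (hacard ▸ hcls 0)))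
      exact Nat.le_of_mul_le_mul_right h1 (by
        have := Nat.one_lt_pow two_ne_zero h1q; omega)
    · refine line_imgs hF h hAW hu hu0 huu fun y hy => ?_
      refine mem_line_of_isotropic hF h hn (hAW u hu) hu0 huu (hAW y hy) ?_
      by_contra hne
      exact h2 (hreal y hy fun h0 => hne (herm_eq_zero_symm hF h0))
  have hb1 : b = 1 := by
    by_contra hne
    have hlt' := hyY' (by omega)
    have h1 : q ^ 5 * (b + 1) * (q + 1) ≤ R * q ^ 2 * b := by
      rw [← hacard]
      exact le_trans (Nat.mul_le_mul (Nat.mul_le_mul_left _ hlt') hΩge) hmainY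
    have h2 : q ^ 3 * (b + 1) * (q + 1) ≤ R * b := by
      refine Nat.le_of_mul_le_mul_right ?_ (pow_pos (by omega : 0 < q) 2)
      calc q ^ 3 * (b + 1) * (q + 1) * q ^ 2 = q ^ 5 * (b + 1) * (q + 1) := by ring
        _ ≤ R * q ^ 2 * b := h1
        _ = R * b * q ^ 2 := by ring
    have h3 : R * b < (q + 1) * (q ^ 3 + 1) * b := Nat.mul_lt_mul_of_pos_right hlt hb0
    have h4 : q ^ 3 * (q + 1) < (q + 1) * b := by nlinarith
    rw [mul_comm (q ^ 3)] at h4
    have h5 := Nat.lt_of_mul_lt_mul_left h4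
    omega
  refine ⟨hb1, hacard, hiso, ?_, ?_⟩
  · have hKQ3 : KQ = q ^ 3 := by
      refine Nat.eq_of_mul_eq_mul_right (pow_pos (by omega : 0 < q) 2) ?_
      rw [hacard, hb1, mul_one] at hKQ
      rw [hKQ]; ring
    have h1 : q ^ 3 * st ≤ R := hKQ3 ▸ hrel
    have : st < q + 2 := Nat.lt_of_mul_lt_mul_left (lt_of_le_of_lt h1 hR3)
    omega
  · by_cases hline : ∀ y ∈ A, hermForm n F q y u = 0
    · left
      have hl : ∀ y ∈ A, ∃ t : F, y = t • u := fun y hy =>
        mem_line_of_isotropic hF h hn (hAW u hu) hu0 huu (hAW y hy) (hline y hy)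
      refine ⟨u, hu0, hu, ?_, hl⟩
      choose t ht using hl
      have hinj : Function.Injective fun y : A => t y.1 y.2 := fun y z hyz => Subtype.ext (by
        rw [ht y.1 y.2, ht z.1 z.2]; exact congrArg (fun s : F => s • u) hyz)
      have hbij := (Nat.bijective_iff_injective_and_card _).2 ⟨hinj, by
        rw [Nat.card_eq_fintype_card (α := F), hF]; exact hacard⟩
      intro s
      obtain ⟨⟨y, hy⟩, hys⟩ := hbij.2 s
      rw [← show t y hy = s from hys, ← ht y hy]
      exact hy
    · push Not at hline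
      obtain ⟨v, hv, hvu⟩ := hline
      have huv : hermForm n F q u v ≠ 0 := fun h0 => hvu (herm_eq_zero_symm hF h0)
      have h2 := hreal v hv huv
      right
      refine ⟨h2, ?_⟩
      have hB0 : ∀ y ∈ A, ∀ z ∈ A, hermForm n F q y z = hermForm n F q z y := fun y hy z hz => by
        have : Subsingleton (tvPart hF h K) := (Nat.card_eq_one_iff_unique.1 hb1).1
        exact sub_eq_zero.1 (congrArg Subtype.val
          (Subsingleton.elim (⟨_, hAB y hy z hz⟩ : tvPart hF h K) 0))
      set η := hermForm n F q u v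
      have hηq : η ^ q = η := by rw [herm_conj u v hF, hB0 v hv u hu]
      have hyp := hyp_of_nonorth hF huu (hiso v hv) huv
      have hco : ∀ y ∈ A, ∃ α β : F, α ^ q = α ∧ β ^ q = β ∧ y = α • u + β • v := fun y hy => by
        refine ⟨hermForm n F q y v / η, hermForm n F q y u / η, ?_, ?_, ?_⟩
        · rw [div_pow, herm_conj y v hF, hB0 v hv y hy, hηq]
        · rw [div_pow, herm_conj y u hF, hB0 u hu y hy, hηq]
        · have h1 := eq_coords hF h hn (hAW u hu) ((rest q e f).smul_mem _ (hAW v hv)) hyp (hAW y hy)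
          conv_lhs => rw [h1]
          rw [herm_smul_right, smul_smul, inv_pow, pow_q_q hF, hηq, ← div_eq_mul_inv, inv_mul_eq_div]
      choose α β hα hβ hy using hco
      have hinj : Function.Injective fun y : A =>
          ((⟨α y.1 y.2, hα y.1 y.2⟩ : {x : F // x ^ q = x}),
            (⟨β y.1 y.2, hβ y.1 y.2⟩ : {x : F // x ^ q = x})) := fun y z hyz => by
        obtain ⟨g1, g2⟩ := Prod.mk.inj hyz
        refine Subtype.ext ?_
        rw [hy y.1 y.2, hy z.1 z.2, show α y.1 y.2 = α z.1 z.2 from congrArg Subtype.val g1,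
          show β y.1 y.2 = β z.1 z.2 from congrArg Subtype.val g2]
      have hbij := (Nat.bijective_iff_injective_and_card _).2 ⟨hinj, by
        rw [Nat.card_prod, card_fixed hF, ← sq]; exact hacard⟩
      intro x hx hx0 t
      constructor
      · intro htx
        have g1 : hermForm n F q (t • x) v ^ q = hermForm n F q (t • x) v := by
          rw [herm_conj (t • x) v hF, hB0 v hv _ htx]
        have g2 : hermForm n F q (t • x) u ^ q = hermForm n F q (t • x) u := by
          rw [herm_conj (t • x) u hF, hB0 u hu _ htx]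
        have g3 : hermForm n F q x v ^ q = hermForm n F q x v := by rw [herm_conj x v hF, hB0 v hv x hx]
        have g4 : hermForm n F q x u ^ q = hermForm n F q x u := by rw [herm_conj x u hF, hB0 u hu x hx]
        rw [herm_smul_left, mul_pow, g3] at g1
        rw [herm_smul_left, mul_pow, g4] at g2
        by_cases hxv : hermForm n F q x v = 0
        · refine mul_right_cancel₀ (fun hxu => hx0 ?_) g2
          have h1 := eq_coords hF h hn (hAW u hu) ((rest q e f).smul_mem _ (hAW v hv)) hyp (hAW x hx)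
          rwa [herm_smul_right, hxv, hxu, mul_zero, zero_smul, zero_smul, add_zero] at h1
        · exact mul_right_cancel₀ hxv g1
      · intro ht
        obtain ⟨⟨z, hz⟩, hzz⟩ := hbij.2 (⟨t * α x hx, by rw [mul_pow, ht, hα]⟩,
          ⟨t * β x hx, by rw [mul_pow, ht, hβ]⟩)
        obtain ⟨g1, g2⟩ := Prod.mk.inj hzz
        have hzv : z = t • x := by
          rw [hy z hz, show α z hz = _ from congrArg Subtype.val g1,
            show β z hz = _ from congrArg Subtype.val g2, ← smul_smul, ← smul_smul, ← smul_add,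
            ← hy x hx]
        exact hzv ▸ hz

end Cfsg.Agent.Lib.MinIndexPSU
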