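import Mathlib
import Cfsg.Agent.Lib.MinIndexPSU.FourPoint

/-!
Lib/MinIndexPSU/FourLine: the unipotent radical of a totally isotropic line inside `K`.
-/

set_option autoImplicit false
set_option linter.unusedSectionVars false

namespace Cfsg.Agent.Lib.MinIndexPSU

open Matrix Module Cfsg.Agent.Lib.Unitary Cfsg.Agent.Lib.AutPSU

variable {F : Type*} [Field F] [Fintype F] {q : ℕ} {n : ℕ} {e f : Fin n → F}

/-- Elements moving every vector inside `L` only. -/
def radSub (L : Submodule F (Fin n → F)) : Subgroup (SU n F q) where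
  carrier := {X | ∀ y, X.1.1 *ᵥ y - y ∈ L}
  one_mem' := fun y => by simp
  mul_mem' := fun {X Y} hX hY y => by
    rw [SU_mul_mulVec, ← sub_add_sub_cancel (X.1.1 *ᵥ (Y.1.1 *ᵥ y)) (Y.1.1 *ᵥ y) y]
    exact L.add_mem (hX _) (hY y)
  inv_mem' := fun {X} hX y => by
    have h1 := hX (X⁻¹.1.1 *ᵥ y)
    rw [SU_mulVec_inv] at h1
    rw [← neg_sub]
    exact L.neg_mem h1

/-- On a totally isotropic `L` such elements are trivial. -/
theorem radSub_fix (hF : Fintype.card F = q ^ 2) {L : Submodule F (Fin n → F)}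
    (hti : ∀ u ∈ L, ∀ v ∈ L, hermForm n F q u v = 0) {X : SU n F q} (hX : X ∈ radSub L)
    {l : Fin n → F} (hl : l ∈ L) : X.1.1 *ᵥ l = l := by
  refine sub_eq_zero.1 (herm_nondeg_left hF fun y => ?_)
  have hXl : X.1.1 *ᵥ l ∈ L := by
    have := L.add_mem (hX l) hl
    rwa [sub_add_cancel] at this
  have h1 := SU_herm X l y
  rw [show X.1.1 *ᵥ y = (X.1.1 *ᵥ y - y) + y by abel, herm_add_right _ _ _ hF,
    hti _ hXl _ (hX y), zero_add] at h1
  rw [herm_sub_left, h1, sub_self]

/-- An element moving everything inside a line lies in its root group. -/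
theorem mem_RS_of_move (hF : Fintype.card F = q ^ 2) {X : SU n F q} {v : Fin n → F}
    (hv : ∀ y, ∃ t : F, X.1.1 *ᵥ y - y = t • v) : X ∈ RS v := by
  intro y hy
  refine sub_eq_zero.1 (herm_nondeg_left hF fun z => ?_)
  obtain ⟨t, ht⟩ := hv (X⁻¹.1.1 *ᵥ z)
  rw [SU_mulVec_inv] at ht
  have h1 := SU_herm X y (X⁻¹.1.1 *ᵥ z)
  rw [SU_mulVec_inv] at h1
  rw [herm_sub_left, h1, ← herm_sub_right _ _ _ hF, ← neg_sub, ht, herm_neg_right _ _ hF,
    herm_smul_right, hy, mul_zero, neg_zero]

theorem pow_move {X : SU n F q} {y : Fin n → F}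
    (hfix : X.1.1 *ᵥ (X.1.1 *ᵥ y - y) = X.1.1 *ᵥ y - y) (m : ℕ) :
    (X ^ m).1.1 *ᵥ y = y + (m : F) • (X.1.1 *ᵥ y - y) := by
  induction m with
  | zero => simp
  | succ m ih =>
    rw [pow_succ' X m, SU_mul_mulVec, ih, Matrix.mulVec_add, Matrix.mulVec_smul, hfix]
    push_cast
    module

/-- Coordinates in the radical of the line through `e` and `w`. -/
theorem rad_coords (hF : Fintype.card F = q ^ 2) (h : Hyp q e f) (hn : n = 4) {w w' : Fin n → F}
    (hw : w ∈ rest q e f) (hw' : w' ∈ rest q e f) (hyp : Hyp q w w') {X : SU n F q}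
    (hX : X ∈ radSub (Submodule.span F ({e, w} : Set (Fin n → F)))) :
    ∃ a b d : F, a + a ^ q = 0 ∧ d + d ^ q = 0 ∧
      (∀ y, X.1.1 *ᵥ y = y + (hermForm n F q y e * a + hermForm n F q y w * b) • e +
        (hermForm n F q y e * (-(b ^ q)) + hermForm n F q y w * d) • w) := by
  obtain ⟨hwe, hwf⟩ := (mem_rest hF).1 hw
  obtain ⟨hew, hfw⟩ := rest_swap_herm hF hw
  obtain ⟨hw'e, hw'f⟩ := (mem_rest hF).1 hw'
  obtain ⟨hew', hfw'⟩ := rest_swap_herm hF hw'
  set L := Submodule.span F ({e, w} : Set (Fin n → F))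
  have hti : ∀ u ∈ L, ∀ v ∈ L, hermForm n F q u v = 0 := by
    intro u hu v hv
    obtain ⟨a, b, rfl⟩ := Submodule.mem_span_pair.1 hu
    obtain ⟨a', b', rfl⟩ := Submodule.mem_span_pair.1 hv
    simp only [herm_add_left, herm_add_right _ _ _ hF, herm_smul_left, herm_smul_right, h.1, hwe,
      hew, hyp.1, mul_zero, add_zero]
  have hXe : X.1.1 *ᵥ e = e := radSub_fix hF hti hX (Submodule.subset_span (by simp))
  have hXw : X.1.1 *ᵥ w = w := radSub_fix hF hti hX (Submodule.subset_span (by simp))
  obtain ⟨a, c, hac⟩ := Submodule.mem_span_pair.1 (hX f)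
  obtain ⟨b, d, hbd⟩ := Submodule.mem_span_pair.1 (hX w')
  have hXf : X.1.1 *ᵥ f = f + (a • e + c • w) := by rw [hac]; abel
  have hXw' : X.1.1 *ᵥ w' = w' + (b • e + d • w) := by rw [hbd]; abel
  have ha : a + a ^ q = 0 := by
    have h1 := SU_herm X f f
    rw [hXf] at h1
    simp only [herm_add_left, herm_add_right _ _ _ hF, herm_smul_left, herm_smul_right, h.1, h.2.1,
      h.2.2, h.symm' hF, hwe, hwf, hew, hfw, hyp.1, mul_zero, mul_one, add_zero, zero_add] at h1
    linear_combination h1
  have hd : d + d ^ q = 0 := by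
    have h1 := SU_herm X w' w'
    rw [hXw'] at h1
    simp only [herm_add_left, herm_add_right _ _ _ hF, herm_smul_left, herm_smul_right, h.1,
      hyp.2.1, hyp.2.2, hyp.symm' hF, hwe, hew, hyp.1, hw'e, hew', mul_zero, mul_one, add_zero,
      zero_add] at h1
    linear_combination h1
  have hc : c = -(b ^ q) := by
    have h1 := SU_herm X f w'
    rw [hXf, hXw'] at h1
    simp only [herm_add_left, herm_add_right _ _ _ hF, herm_smul_left, herm_smul_right, h.1,
      h.symm' hF, hyp.2.2, hwe, hew, hwf, hfw, hfw', hew', hyp.1, mul_zero, mul_one, add_zero,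
      zero_add] at h1
    linear_combination h1
  refine ⟨a, b, d, ha, hd, fun y => ?_⟩
  have hy := eq_proj (q := q) (e := e) (f := f) y
  have hp := eq_coords hF h hn hw hw' hyp (proj_mem hF h y)
  have hpw : hermForm n F q (proj q e f y) w = hermForm n F q y w := by
    conv_rhs => rw [hy]
    simp only [herm_add_left, herm_smul_left, hew, hfw, mul_zero, zero_add]
  rw [hpw] at hp
  have hXy : X.1.1 *ᵥ y = hermForm n F q y f • e + hermForm n F q y e • (f + (a • e + c • w)) +
      (hermForm n F q (proj q e f y) w' • w + hermForm n F q y w • (w' + (b • e + d • w))) := by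
    conv_lhs => rw [hy, hp]
    simp only [Matrix.mulVec_add, Matrix.mulVec_smul, hXe, hXf, hXw, hXw']
  rw [hXy, hc]
  conv_rhs => rw [hy, hp]
  simp only [herm_add_left, herm_smul_left, h.1, h.2.2, h.symm' hF, hew, hfw, hwe, hwf, hw'e, hw'f,
    hyp.1, hyp.symm' hF, mul_zero, mul_one, add_zero, zero_add]
  module

/-- The form attached to an element of the radical, at the point with coordinates `α, β`. -/
def lineForm (q : ℕ) (a b d α β : F) : F :=
  a * (β * β ^ q) - b * α ^ q * β + b ^ q * α * β ^ q + d * (α * α ^ q)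

theorem mem_QS_iff_lineForm (hF : Fintype.card F = q ^ 2) (h : Hyp q e f) {w w' : Fin n → F}
    (hw : w ∈ rest q e f) (hw' : w' ∈ rest q e f) (hyp : Hyp q w w') {X : SU n F q} {a b d : F}
    (hX : ∀ y, X.1.1 *ᵥ y = y + (hermForm n F q y e * a + hermForm n F q y w * b) • e +
      (hermForm n F q y e * (-(b ^ q)) + hermForm n F q y w * d) • w)
    {α β : F} (hne : ¬ (α = 0 ∧ β = 0)) :
    X ∈ QS (α • e + β • w) ↔ lineForm q a b d α β = 0 := by
  obtain ⟨hwe, hwf⟩ := (mem_rest hF).1 hw
  obtain ⟨hew, hfw⟩ := rest_swap_herm hF hw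
  obtain ⟨hw'e, hw'f⟩ := (mem_rest hF).1 hw'
  obtain ⟨hew', hfw'⟩ := rest_swap_herm hF hw'
  constructor
  · intro hQ
    set y := β ^ q • f + (-(α ^ q)) • w'
    have hye : hermForm n F q y e = β ^ q := by
      rw [herm_add_left, herm_smul_left, herm_smul_left, h.symm' hF, hw'e, mul_one, mul_zero, add_zero]
    have hyw : hermForm n F q y w = -(α ^ q) := by
      rw [herm_add_left, herm_smul_left, herm_smul_left, hfw, hyp.symm' hF, mul_one, mul_zero, zero_add]
    obtain ⟨k, hk⟩ := hQ.2 y (by
      rw [herm_add_right _ _ _ hF, herm_smul_right, herm_smul_right, hye, hyw]; ring)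
    rw [hX, hye, hyw, add_assoc] at hk
    have hk' := add_left_cancel hk
    have h1 := congrArg (fun v => hermForm n F q v f) hk'
    have h2 := congrArg (fun v => hermForm n F q v w') hk'
    simp only [herm_add_left, herm_smul_left, h.2.2, hwf, hew', hyp.2.2, mul_zero, mul_one,
      add_zero, zero_add] at h1 h2
    simp only [lineForm]
    linear_combination β * h1 - α * h2
  · intro hz
    simp only [lineForm] at hz
    refine ⟨?_, fun y hy => ?_⟩
    · have hpe : hermForm n F q (α • e + β • w) e = 0 := by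
        rw [herm_add_left, herm_smul_left, herm_smul_left, h.1, hwe, mul_zero, mul_zero, add_zero]
      have hpw : hermForm n F q (α • e + β • w) w = 0 := by
        rw [herm_add_left, herm_smul_left, herm_smul_left, hew, hyp.1, mul_zero, mul_zero, add_zero]
      rw [hX, hpe, hpw]
      simp
    · rw [herm_add_right _ _ _ hF, herm_smul_right, herm_smul_right] at hy
      by_cases hβ : β = 0
      · have hα : α ≠ 0 := fun h0 => hne ⟨h0, hβ⟩
        subst hβ
        simp only [zero_pow_q hF, mul_zero, zero_mul, add_zero, zero_sub, neg_zero, zero_add] at hz hy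
        have hd : d = 0 := (mul_eq_zero.1 hz).resolve_right (mul_ne_zero hα (pow_ne_zero q hα))
        have hye : hermForm n F q y e = 0 := (mul_eq_zero.1 hy).resolve_left (pow_ne_zero q hα)
        refine ⟨hermForm n F q y w * b / α, ?_⟩
        rw [hX, hye, hd]
        simp only [zero_mul, mul_zero, zero_add, zero_smul, add_zero, smul_smul,
          div_mul_cancel₀ _ hα]
      · refine ⟨(hermForm n F q y e * (-(b ^ q)) + hermForm n F q y w * d) / β, ?_⟩
        rw [hX, smul_add, smul_smul, smul_smul, div_mul_cancel₀ _ hβ, ← add_assoc]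
        congr 3
        rw [div_mul_eq_mul_div, eq_div_iff hβ]
        refine mul_right_cancel₀ (pow_ne_zero q hβ) ?_
        linear_combination hermForm n F q y e * hz + (b * β - d * α) * hy

/-- The points of a line. -/
def linePoint (e w : Fin n → F) : Option F → Fin n → F
  | none => e
  | some α => α • e + w

theorem linePoint_eq (e w : Fin n → F) (o : Option F) :
    linePoint e w o = o.elim 1 id • e + o.elim (0 : F) (fun _ => 1) • w := by
  cases o <;> simp [linePoint]

/-- A nontrivial element outside all root groups lies in exactly `q + 1` of the radicals. -/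
theorem card_line_zeros (hF : Fintype.card F = q ^ 2) (h : Hyp q e f) {w w' : Fin n → F}
    (hw : w ∈ rest q e f) (hw' : w' ∈ rest q e f) (hyp : Hyp q w w') {X : SU n F q} {a b d : F}
    (ha : a + a ^ q = 0) (hd : d + d ^ q = 0)
    (hX : ∀ y, X.1.1 *ᵥ y = y + (hermForm n F q y e * a + hermForm n F q y w * b) • e +
      (hermForm n F q y e * (-(b ^ q)) + hermForm n F q y w * d) • w)
    (hroot : ∀ v : Fin n → F, v ≠ 0 → hermForm n F q v v = 0 → X ∈ RS v → X = 1) (hX1 : X ≠ 1) :
    Nat.card {o : Option F // X ∈ QS (linePoint e w o)} = q + 1 := by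
  classical
  obtain ⟨hwe, hwf⟩ := (mem_rest hF).1 hw
  obtain ⟨hew, hfw⟩ := rest_swap_herm hF hw
  have hiff : ∀ o, X ∈ QS (linePoint e w o) ↔
      lineForm q a b d (o.elim 1 id) (o.elim 0 (fun _ => 1)) = 0 := fun o => by
    rw [linePoint_eq]
    refine mem_QS_iff_lineForm hF h hw hw' hyp hX ?_
    cases o <;> simp
  by_cases hd0 : d = 0
  · have hb : b ≠ 0 := fun hb => hX1 (hroot e (ne_zero_of_hyp h) h.1 fun y hy => by
      rw [hX, hy, hd0, hb]; simp [zero_pow_q hF])
    have hnone : X ∈ QS (linePoint e w none) := by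
      rw [hiff]; simp [lineForm, hd0, zero_pow_q hF]
    obtain ⟨δ, hδ0, hδ⟩ := exists_trace_zero_ne_zero hF
    obtain ⟨z, hz⟩ := trace_surj hF (y := -a / δ) (by
      rw [div_pow, neg_pow_q hF, eq_neg_of_add_eq_zero_right ha, eq_neg_of_add_eq_zero_right hδ,
        neg_div_neg_eq])
    have hsol : ∀ α : F, lineForm q a b d α 1 = 0 ↔
        (b ^ q * α - δ * z) ^ q = b ^ q * α - δ * z := fun α => by
      have hzz : δ * z + δ * z ^ q = -a := by
        rw [← mul_add, hz, mul_div_cancel₀ _ hδ0]
      simp only [lineForm, hd0, one_pow, mul_one, zero_mul, add_zero]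
      rw [sub_pow_q hF, mul_pow, mul_pow, pow_q_q hF, eq_neg_of_add_eq_zero_right hδ]
      constructor
      · intro h0; linear_combination -h0 + hzz
      · intro h0; linear_combination -h0 + hzz
    rw [← show Nat.card (Option {x : F // x ^ q = x}) = q + 1 by
      rw [Finite.card_option, card_fixed hF]]
    have hback : ∀ x : {x : F // x ^ q = x},
        X ∈ QS (linePoint e w (some ((x.1 + δ * z) / b ^ q))) := fun x => by
      rw [hiff]
      refine (hsol _).2 ?_
      show (b ^ q * ((x.1 + δ * z) / b ^ q) - δ * z) ^ q = b ^ q * ((x.1 + δ * z) / b ^ q) - δ * z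
      rw [mul_div_cancel₀ _ (pow_ne_zero q hb), add_sub_cancel_right]
      exact x.2
    exact Nat.card_congr
      { toFun := fun o => match o with
          | ⟨none, _⟩ => none
          | ⟨some α, ho⟩ => some ⟨b ^ q * α - δ * z, (hsol α).1 ((hiff (some α)).1 ho)⟩
        invFun := fun x => match x with
          | none => ⟨none, hnone⟩
          | some x => ⟨some ((x.1 + δ * z) / b ^ q), hback x⟩
        left_inv := by
          rintro ⟨_ | α, ho⟩
          · rfl
          · exact Subtype.ext (congrArg some (by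
              rw [sub_add_cancel, mul_div_cancel_left₀ _ (pow_ne_zero q hb)]))
        right_inv := by
          rintro (_ | x)
          · rfl
          · exact congrArg some (Subtype.ext (by
              simp only [mul_div_cancel₀ _ (pow_ne_zero q hb), add_sub_cancel_right])) }
  · have hdq : d ^ q = -d := eq_neg_of_add_eq_zero_right hd
    have hdet : a * d + b * b ^ q ≠ 0 := fun h0 => by
      have hv0 : b • e + d • w ≠ 0 := fun hv => hd0 (by
        have h1 := congrArg (fun v => hermForm n F q v w') hv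
        simpa [herm_add_left, herm_smul_left, (rest_swap_herm hF hw').1, hyp.2.2,
          herm_zero_left] using h1)
      refine hX1 (hroot _ hv0 ?_ (mem_RS_of_move hF fun y => ?_))
      · simp only [herm_add_left, herm_add_right _ _ _ hF, herm_smul_left, herm_smul_right, h.1,
          hwe, hew, hyp.1, mul_zero, add_zero]
      · refine ⟨hermForm n F q y e * (-(b ^ q)) / d + hermForm n F q y w, ?_⟩
        rw [hX, add_assoc, add_sub_cancel_left, smul_add, smul_smul, smul_smul]
        congr 2
        · field_simp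
          linear_combination hermForm n F q y e * h0
        · field_simp
    set γ := b / d
    set κ := -(a * d + b * b ^ q) / d ^ 2
    have hκ : κ ^ q = κ := by
      simp only [κ]
      rw [div_pow, neg_pow_q hF, add_pow_q hF, mul_pow, mul_pow, pow_q_q hF,
        eq_neg_of_add_eq_zero_right ha, hdq, ← pow_mul, mul_comm 2 q, pow_mul, hdq, neg_sq]
      ring
    have hκ0 : κ ≠ 0 := div_ne_zero (neg_ne_zero.2 hdet) (pow_ne_zero 2 hd0)
    have hγ : γ ^ q = -(b ^ q / d) := by
      simp only [γ]; rw [div_pow, hdq, div_neg]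
    have hsol : ∀ α : F, lineForm q a b d α 1 = 0 ↔ (α - γ) * (α - γ) ^ q = κ := fun α => by
      have hid : lineForm q a b d α 1 = d * ((α - γ) * (α - γ) ^ q - κ) := by
        rw [sub_pow_q hF, hγ]
        simp only [lineForm, γ, κ, one_pow, mul_one]
        field_simp
        ring
      rw [hid, mul_eq_zero, sub_eq_zero, or_iff_right hd0]
    have hnone : X ∉ QS (linePoint e w none) := by
      rw [hiff]; simp [lineForm, zero_pow_q hF, hd0]
    have hfib := card_norm_fibre hF hκ
    rw [if_neg hκ0] at hfib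
    rw [← hfib]
    exact Nat.card_congr
      { toFun := fun o => match o with
          | ⟨none, ho⟩ => absurd ho hnone
          | ⟨some α, ho⟩ => ⟨α - γ, (hsol α).1 ((hiff (some α)).1 ho)⟩
        invFun := fun x => ⟨some (x.1 + γ), (hiff _).2 ((hsol _).2 (by
          show (x.1 + γ - γ) * (x.1 + γ - γ) ^ q = κ
          rw [add_sub_cancel_right]; exact x.2))⟩
        left_inv := by
          rintro ⟨_ | α, ho⟩
          · exact absurd ho hnone
          · exact Subtype.ext (congrArg some (sub_add_cancel α γ))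
        right_inv := fun x => Subtype.ext (add_sub_cancel_right x.1 γ) }

/-- Two planes sharing the moves of a nontrivial element outside all root groups are equal. -/
theorem eq_of_radSub (hF : Fintype.card F = q ^ 2) {L L' : Submodule F (Fin n → F)}
    (hL : finrank F L = 2) (hL' : finrank F L' = 2)
    (hti : ∀ u ∈ L, ∀ v ∈ L, hermForm n F q u v = 0) {X : SU n F q} (hX : X ∈ radSub L)
    (hX' : X ∈ radSub L')
    (hroot : ∀ v : Fin n → F, v ≠ 0 → hermForm n F q v v = 0 → X ∈ RS v → X = 1) (hX1 : X ≠ 1) :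
    L = L' := by
  by_contra hne
  have hlt : finrank F (L ⊓ L' : Submodule F (Fin n → F)) < 2 := by
    by_contra hge
    push Not at hge
    have e1 := Submodule.eq_of_le_of_finrank_le (inf_le_left : L ⊓ L' ≤ L) (by omega)
    have e2 := Submodule.eq_of_le_of_finrank_le (inf_le_right : L ⊓ L' ≤ L') (by omega)
    exact hne (e1.symm.trans e2)
  by_cases hbot : L ⊓ L' = ⊥
  · refine hX1 (SU_ext fun y => ?_)
    have : X.1.1 *ᵥ y - y ∈ L ⊓ L' := ⟨hX y, hX' y⟩
    rw [hbot, Submodule.mem_bot, sub_eq_zero] at this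
    simp [this]
  obtain ⟨v, hv, hv0⟩ := Submodule.exists_mem_ne_zero_of_ne_bot hbot
  have hspan : L ⊓ L' = Submodule.span F {v} :=
    (Submodule.eq_of_le_of_finrank_le ((Submodule.span_singleton_le_iff_mem _ _).2 hv)
      (by rw [finrank_span_singleton hv0]; omega)).symm
  refine hX1 (hroot v hv0 (hti v hv.1 v hv.1) (mem_RS_of_move hF fun y => ?_))
  have : X.1.1 *ᵥ y - y ∈ L ⊓ L' := ⟨hX y, hX' y⟩
  rw [hspan, Submodule.mem_span_singleton] at this
  obtain ⟨t, ht⟩ := this
  exact ⟨t, ht.symm⟩

/-- The radical part of `K` is a `p`-group. -/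
theorem card_rad_pow (hF : Fintype.card F = q ^ 2) {p : ℕ} [CharP F p] (hp : p.Prime)
    {L : Submodule F (Fin n → F)} (hti : ∀ u ∈ L, ∀ v ∈ L, hermForm n F q u v = 0)
    (K : Subgroup (SU n F q)) :
    ∃ m, Nat.card (K ⊓ radSub L : Subgroup (SU n F q)) = p ^ m := by
  haveI := Fact.mk hp
  refine IsPGroup.iff_card.1 fun X => ⟨1, ?_⟩
  rw [pow_one]
  refine Subtype.ext (SU_ext fun y => ?_)
  rw [SubgroupClass.coe_pow, pow_move (radSub_fix hF hti X.2.2 (X.2.2 y)), CharP.cast_eq_zero,
    zero_smul, add_zero]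
  simp

/-- Counting incidences of points of a line and radical elements. -/
theorem line_double_count (hF : Fintype.card F = q ^ 2) (h : Hyp q e f) (hn : n = 4)
    {w w' : Fin n → F} (hw : w ∈ rest q e f) (hw' : w' ∈ rest q e f) (hyp : Hyp q w w')
    (K : Subgroup (SU n F q))
    (hroot : ∀ v : Fin n → F, v ≠ 0 → hermForm n F q v v = 0 → ∀ X ∈ K, X ∈ RS v → X = 1) :
    (Nat.card (K ⊓ radSub (Submodule.span F ({e, w} : Set (Fin n → F))) : Subgroup (SU n F q)) - 1) *
        (q + 1) =
      ∑ o : Option F, (Nat.card (K ⊓ radSub (Submodule.span F ({e, w} : Set (Fin n → F))) ⊓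
        QS (linePoint e w o) : Subgroup (SU n F q)) - 1) := by
  classical
  set U := K ⊓ radSub (Submodule.span F ({e, w} : Set (Fin n → F)))
  let U' := {X : U // X ≠ 1}
  haveI : Fintype U' := Fintype.ofFinite _
  have h1 : ∀ X : U', Nat.card {o : Option F // X.1.1 ∈ QS (linePoint e w o)} = q + 1 := fun X => by
    obtain ⟨a, b, d, ha, hd, hX⟩ := rad_coords hF h hn hw hw' hyp X.1.2.2
    exact card_line_zeros hF h hw hw' hyp ha hd hX (fun v hv hvv => hroot v hv hvv _ X.1.2.1)
      fun h0 => X.2 (Subtype.ext h0)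
  have h2 : ∀ o, Nat.card {X : U' // X.1.1 ∈ QS (linePoint e w o)} =
      Nat.card (U ⊓ QS (linePoint e w o) : Subgroup (SU n F q)) - 1 := fun o => by
    refine Nat.eq_sub_of_add_eq ?_
    rw [← show Nat.card (Option {X : U' // X.1.1 ∈ QS (linePoint e w o)}) =
        Nat.card {X : U' // X.1.1 ∈ QS (linePoint e w o)} + 1 from Finite.card_option]
    refine Nat.card_eq_of_bijective
      (fun x : Option {X : U' // X.1.1 ∈ QS (linePoint e w o)} =>
        x.elim (1 : (U ⊓ QS (linePoint e w o) : Subgroup (SU n F q)))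
          (fun X => ⟨X.1.1.1, ⟨X.1.1.2, X.2⟩⟩)) ⟨?_, ?_⟩
    · rintro (_ | X) (_ | Y) hXY
      · rfl
      · exact (Y.1.2 (Subtype.ext (congrArg (fun z => z.1) hXY).symm)).elim
      · exact (X.1.2 (Subtype.ext (congrArg (fun z => z.1) hXY))).elim
      · exact congrArg some (Subtype.ext (Subtype.ext (Subtype.ext (congrArg (fun z => z.1) hXY))))
    · rintro ⟨X, hXU, hXQ⟩
      by_cases hX : X = 1
      · exact ⟨none, Subtype.ext hX.symm⟩
      · exact ⟨some ⟨⟨⟨X, hXU⟩, fun h0 => hX (congrArg Subtype.val h0)⟩, hXQ⟩, rfl⟩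
  have hcard : Nat.card U' = Nat.card U - 1 := by
    rw [Nat.card_eq_fintype_card, Nat.card_eq_fintype_card, Fintype.card_subtype_compl,
      Fintype.card_subtype_eq]
  rw [← hcard, ← Finset.sum_congr rfl (fun o _ => h2 o), ← Nat.card_sigma,
    show Nat.card U' * (q + 1) = Nat.card (Σ X : U', {o : Option F // X.1.1 ∈ QS (linePoint e w o)}) by
      rw [Nat.card_sigma, Finset.sum_congr rfl (fun X _ => h1 X), Finset.sum_const, Finset.card_univ,
        smul_eq_mul, Nat.card_eq_fintype_card]]
  exact Nat.card_congr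
    { toFun := fun p => ⟨p.2.1, p.1, p.2.2⟩
      invFun := fun p => ⟨p.2.1, p.1, p.2.2⟩
      left_inv := fun _ => rfl
      right_inv := fun _ => rfl }

end Cfsg.Agent.Lib.MinIndexPSU
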