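import Mathlib
import Cfsg.Agent.Lib.MinIndexPSU.FourLine

/-!
Lib/MinIndexPSU/Four: the index bound in `SU 4`.

If the index is below the number of totally isotropic lines, `K` is transitive on the isotropic
points and every point has the same small data; counting the incidences inside the radical of a
line gives an impossible order.
-/

set_option autoImplicit false
set_option linter.unusedSectionVars false

namespace Cfsg.Agent.Lib.MinIndexPSU

open Matrix Module Cfsg.Agent.Lib.Unitary Cfsg.Agent.Lib.AutPSU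

variable {F : Type*} [Field F] [Fintype F] {q : ℕ} {n : ℕ} {e f : Fin n → F}

/-- Two orbits on the points (any field). -/
theorem relIndex_add_le' {r : Fin n → F} {K : Subgroup (SU n F q)} {g : SU n F q}
    (hg : g.1.1 *ᵥ e = r) (hdisj : ∀ k ∈ K, ∀ t : F, k.1.1 *ᵥ e ≠ t • r) :
    (NS (q := q) r).relIndex K + (NS (q := q) e).relIndex K ≤ (NS (q := q) e).index := by
  classical
  set P := NS (q := q) e
  let Q := SU n F q ⧸ P
  have hs : ∀ (g' : SU n F q) (p : Fin n → F), g'.1.1 *ᵥ e = p →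
      (NS (q := q) p).relIndex K = (MulAction.orbit K (g' : Q)).ncard := by
    intro g' p hp
    rw [← MulAction.index_stabilizer, Subgroup.relIndex]
    congr 1
    ext k
    rw [MulAction.mem_stabilizer_iff, Subgroup.mem_subgroupOf]
    show _ ↔ ((k.1 * g' : SU n F q) : Q) = _
    rw [eq_comm, QuotientGroup.eq]
    show _ ↔ ∃ a : F, a ≠ 0 ∧ (g'⁻¹ * (k.1 * g')).1.1 *ᵥ e = a • e
    constructor
    · rintro ⟨a, ha, hk⟩
      exact ⟨a, ha, by
        rw [SU_mul_mulVec, SU_mul_mulVec, hp, hk, Matrix.mulVec_smul, ← hp, SU_inv_mulVec]⟩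
    · rintro ⟨a, ha, hk⟩
      refine ⟨a, ha, ?_⟩
      have h2 := congrArg (fun v => g'.1.1 *ᵥ v) hk
      simp only [SU_mul_mulVec, SU_mulVec_inv, Matrix.mulVec_smul, hp] at h2
      exact h2
  rw [hs g r hg, hs 1 e (by simp), ← Set.ncard_union_eq, Subgroup.index]
  · rw [← Nat.card_coe_set_eq]
    exact Nat.card_le_card_of_injective _ Subtype.val_injective
  · refine Set.disjoint_left.2 fun X hX hX' => ?_
    obtain ⟨⟨k, hk⟩, rfl⟩ := hX
    obtain ⟨⟨k', hk'⟩, heq⟩ := hX'
    have h1 : ((k' * 1 : SU n F q) : Q) = ((k * g : SU n F q) : Q) := heq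
    rw [mul_one, QuotientGroup.eq] at h1
    obtain ⟨a, ha, he⟩ := h1
    refine hdisj (k⁻¹ * k') (mul_mem (inv_mem hk) hk') a⁻¹ ?_
    have h2 := congrArg (fun v => (k⁻¹ * k').1.1 *ᵥ v) he
    simp only [SU_mul_mulVec, SU_mulVec_inv, SU_inv_mulVec, Matrix.mulVec_smul, hg] at h2 ⊢
    rw [h2, inv_smul_smul₀ ha]

/-- No group index is squeezed strictly between `q³ (q + 1)` and the number of lines. -/
theorem four_arith {q D R O : ℕ} (hq : 2 ≤ q)
    (hR : q ^ 4 + q ^ 3 ≤ R) (hRD : R < D) (hD : D < (q + 1) * (q ^ 3 + 1))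
    (hO : O * D = R * ((q ^ 2 + 1) * (q ^ 3 + 1))) : False := by
  obtain ⟨j, rfl⟩ : ∃ j, D = q ^ 4 + q ^ 3 + j := ⟨D - (q ^ 4 + q ^ 3), by omega⟩
  obtain ⟨i, hi, hRi⟩ : ∃ i, 0 < i ∧ R + i = q ^ 4 + q ^ 3 + j :=
    ⟨q ^ 4 + q ^ 3 + j - R, by omega, by omega⟩
  have hexp : (q + 1) * (q ^ 3 + 1) = q ^ 4 + q ^ 3 + (q + 1) := by ring
  have hj : j ≤ q := by omega
  have hij : i ≤ j := by omega
  zify at hR hRD hD hO hRi hij hj hi hexp hq
  have hT : ((q : ℤ) ^ 4 + (q : ℤ) ^ 3 + j) ∣
      (i : ℤ) * (2 * (q : ℤ) ^ 3 + (q : ℤ) ^ 2 + 1 - ((q : ℤ) - 1) * j) := by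
    refine ⟨((q : ℤ) ^ 2 + 1) * ((q : ℤ) ^ 3 + 1) - O - (i : ℤ) * ((q : ℤ) - 1), ?_⟩
    linear_combination hO + (((q : ℤ) ^ 2 + 1) * ((q : ℤ) ^ 3 + 1)) * hRi
  obtain ⟨m, hm⟩ := hT
  have hq0 : (0 : ℤ) ≤ q := Int.natCast_nonneg q
  have hq3 : (0 : ℤ) < (q : ℤ) ^ 3 := by positivity
  have hq4 : (0 : ℤ) < (q : ℤ) ^ 4 := by positivity
  have hqj : ((q : ℤ) - 1) * j ≤ ((q : ℤ) - 1) * q := mul_le_mul_of_nonneg_left hj (by linarith)
  have hqj0 : 0 ≤ ((q : ℤ) - 1) * j := mul_nonneg (by linarith) (Int.natCast_nonneg j)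
  have hTpos : 0 < 2 * (q : ℤ) ^ 3 + (q : ℤ) ^ 2 + 1 - ((q : ℤ) - 1) * j := by nlinarith
  have hpos : (0 : ℤ) < i * (2 * (q : ℤ) ^ 3 + (q : ℤ) ^ 2 + 1 - ((q : ℤ) - 1) * j) :=
    mul_pos hi hTpos
  have hlt : (i : ℤ) * (2 * (q : ℤ) ^ 3 + (q : ℤ) ^ 2 + 1 - ((q : ℤ) - 1) * j) <
      2 * ((q : ℤ) ^ 4 + (q : ℤ) ^ 3 + j) := by
    have h1 : (i : ℤ) * (2 * (q : ℤ) ^ 3 + (q : ℤ) ^ 2 + 1 - ((q : ℤ) - 1) * j) ≤
        (q : ℤ) * (2 * (q : ℤ) ^ 3 + (q : ℤ) ^ 2 + 1) :=
      mul_le_mul (by linarith) (by linarith) hTpos.le hq0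
    nlinarith
  have hD0 : (0 : ℤ) < (q : ℤ) ^ 4 + (q : ℤ) ^ 3 + j := by positivity
  have hm1 : m = 1 := by
    have h1 : 0 < m := by
      by_contra h0
      push Not at h0
      have := mul_nonpos_of_nonneg_of_nonpos hD0.le h0
      linarith
    have h2 : m < 2 := by
      by_contra h0
      push Not at h0
      have := mul_le_mul_of_nonneg_left h0 hD0.le
      linarith
    omega
  rw [hm1, mul_one] at hm
  rcases le_or_gt (2 * i) q with h2 | h2
  · have h2' : (2 : ℤ) * i ≤ q := by exact_mod_cast h2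
    have h3 : 2 * ((i : ℤ) * (2 * (q : ℤ) ^ 3 + (q : ℤ) ^ 2 + 1 - ((q : ℤ) - 1) * j)) ≤
        (q : ℤ) * (2 * (q : ℤ) ^ 3 + (q : ℤ) ^ 2 + 1) := by
      rw [← mul_assoc]
      exact mul_le_mul h2' (by linarith) hTpos.le hq0
    nlinarith
  · have h2' : (q : ℤ) + 1 ≤ 2 * i := by exact_mod_cast h2
    have h3 : ((q : ℤ) + 1) * (2 * (q : ℤ) ^ 3 + (q : ℤ) ^ 2 + 1 - ((q : ℤ) - 1) * q) ≤
        2 * ((i : ℤ) * (2 * (q : ℤ) ^ 3 + (q : ℤ) ^ 2 + 1 - ((q : ℤ) - 1) * j)) := by
      rw [← mul_assoc]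
      exact mul_le_mul h2' (by linarith) (by nlinarith) (by linarith)
    nlinarith

/-- Elements of `K` in the radical with the same rest parameter are equal. -/
theorem eq_of_zp (hF : Fintype.card F = q ^ 2) (h : Hyp q e f) {K : Subgroup (SU n F q)}
    (hroot : ∀ X ∈ K, X ∈ RS e → X = 1) {X Y : SU n F q} (hXK : X ∈ K) (hX : X ∈ QS e)
    (hYK : Y ∈ K) (hY : Y ∈ QS e) (hz : zp e f X = zp e f Y) : X = Y := by
  have h1 : X⁻¹ * Y ∈ RS e := mem_RS_of_zp hF h (mul_mem (inv_mem hX) hY) (by
    rw [zp_mul hF h (inv_mem hX) hY, zp_inv hF h hX, hz, neg_add_cancel])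
  exact inv_mul_eq_one.1 (hroot _ (mul_mem (inv_mem hXK) hYK) h1)

theorem card_inf_QS (hF : Fintype.card F = q ^ 2) (h : Hyp q e f) {K : Subgroup (SU n F q)}
    (hroot : ∀ X ∈ K, X ∈ RS e → X = 1) :
    Nat.card (K ⊓ QS e : Subgroup (SU n F q)) = Nat.card (restPart hF h K) := by
  refine Nat.card_eq_of_bijective
    (fun X : (K ⊓ QS e : Subgroup (SU n F q)) => (⟨zp e f X.1, X.1, X.2, rfl⟩ : restPart hF h K))
    ⟨fun X Y hXY => Subtype.ext (eq_of_zp hF h hroot X.2.1 X.2.2 Y.2.1 Y.2.2
      (congrArg (fun z => z.1) hXY)), ?_⟩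
  rintro ⟨_, X, hX, rfl⟩
  exact ⟨⟨X, hX⟩, rfl⟩

/-- Elements of `QS e` move into the plane of `e` and the parameter. -/
theorem mem_radSub_of_zp (hF : Fintype.card F = q ^ 2) (h : Hyp q e f) {X : SU n F q} (hX : X ∈ QS e)
    {L : Submodule F (Fin n → F)} (he : e ∈ L) (hz : zp e f X ∈ L) : X ∈ radSub L := by
  intro y
  obtain ⟨d, -, hA⟩ := exists_param hF h hX
  have h1 := hA y
  rw [suToGU_val] at h1
  rw [h1, add_assoc, add_sub_cancel_left]
  exact L.add_mem (L.smul_mem _ hz) (L.smul_mem _ he)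

theorem finrank_line (hF : Fintype.card F = q ^ 2) (h : Hyp q e f) {w : Fin n → F}
    (hw : w ∈ rest q e f) (hw0 : w ≠ 0) : finrank F (Submodule.span F ({e, w} : Set (Fin n → F))) = 2 := by
  have hli : LinearIndependent F ![e, w] := li_of_not_mul (ne_zero_of_hyp h) fun t ht => hw0 (by
    refine (eq_zero_of_mem_rest hF h (a := -t) (b := 0) hw ?_).2.2
    rw [ht, neg_smul, zero_smul, add_zero, neg_add_cancel])
  have := finrank_span_eq_card hli
  rwa [Matrix.range_cons, Matrix.range_cons, Matrix.range_empty, Set.union_empty,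
    Set.singleton_union, Fintype.card_fin] at this

theorem line_ti (hF : Fintype.card F = q ^ 2) (h : Hyp q e f) {w : Fin n → F}
    (hw : w ∈ rest q e f) (hww : hermForm n F q w w = 0) :
    ∀ u ∈ Submodule.span F ({e, w} : Set (Fin n → F)),
      ∀ v ∈ Submodule.span F ({e, w} : Set (Fin n → F)), hermForm n F q u v = 0 := by
  intro u hu v hv
  obtain ⟨a, b, rfl⟩ := Submodule.mem_span_pair.1 hu
  obtain ⟨a', b', rfl⟩ := Submodule.mem_span_pair.1 hv
  simp only [herm_add_left, herm_add_right _ _ _ hF, herm_smul_left, herm_smul_right, h.1, hww,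
    ((mem_rest hF).1 hw).1, (rest_swap_herm hF hw).1, mul_zero, add_zero]

theorem linePoint_mem (e w : Fin n → F) (o : Option F) :
    linePoint e w o ∈ Submodule.span F ({e, w} : Set (Fin n → F)) := by
  cases o with
  | none => exact Submodule.subset_span (by simp [linePoint])
  | some α =>
    exact Submodule.add_mem _ (Submodule.smul_mem _ _ (Submodule.subset_span (by simp)))
      (Submodule.subset_span (by simp))

theorem linePoint_ne_zero (hF : Fintype.card F = q ^ 2) (h : Hyp q e f) {w : Fin n → F}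
    (hw : w ∈ rest q e f) (hw0 : w ≠ 0) (o : Option F) : linePoint e w o ≠ 0 := by
  cases o with
  | none => exact ne_zero_of_hyp h
  | some α =>
    intro h0
    refine hw0 (eq_zero_of_mem_rest hF h (a := α) (b := 0) hw ?_).2.2
    rw [zero_smul, add_zero]; exact h0

theorem card_option (hF : Fintype.card F = q ^ 2) : Fintype.card (Option F) = q ^ 2 + 1 := by
  rw [Fintype.card_option, hF]

/-- All the points of `K` have small data, and `K` is transitive: impossible. -/
theorem four_contra (hF : Fintype.card F = q ^ 2) (hn : n = 4) {K : Subgroup (SU n F q)}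
    (hsm : ∀ p s : Fin n → F, ∀ hps : Hyp q p s, Small hF hps K)
    (hroot : ∀ v : Fin n → F, v ≠ 0 → hermForm n F q v v = 0 → ∀ X ∈ K, X ∈ RS v → X = 1)
    (htr : ∀ p p' : Fin n → F, p ≠ 0 → hermForm n F q p p = 0 → p' ≠ 0 → hermForm n F q p' p' = 0 →
      ∃ k ∈ K, ∃ t : F, t ≠ 0 ∧ k.1.1 *ᵥ p = t • p') : False := by
  classical
  have h1q := one_lt_q hF
  have hq2 : 1 < q ^ 2 := Nat.one_lt_pow two_ne_zero h1q
  obtain ⟨p, k, hp, hchar, hk, hqk⟩ := q_eq_primePow hF
  have hsr : ∀ {v s : Fin n → F}, Hyp q v s → ∀ X ∈ K, X ∈ RS v → X = 1 :=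
    fun {v s} hv => hroot v (ne_zero_of_hyp hv) hv.1
  by_cases hline : ∃ (e f : Fin n → F) (h : Hyp q e f), ∃ u, u ≠ 0 ∧ u ∈ restPart hF h K ∧
      ∀ a ∈ restPart hF h K, ∃ t : F, a = t • u
  · obtain ⟨e, f, h, u, hu0, huA, hul⟩ := hline
    have huW := restPart_le hF h K huA
    have huu := (hsm e f h).iso u huA
    obtain ⟨u', hu'W, hyp⟩ := exists_partner_rest hF h huW hu0 huu
    set L := Submodule.span F ({e, u} : Set (Fin n → F))
    have hti := line_ti hF h huW huu
    have hL2 := finrank_line hF h huW hu0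
    have heL : e ∈ L := Submodule.subset_span (by simp)
    have huL : u ∈ L := Submodule.subset_span (by simp)
    have hKe : ∀ X ∈ K, X ∈ QS e → X ∈ radSub L := fun X hXK hX => by
      obtain ⟨t, ht⟩ := hul _ ⟨X, ⟨hXK, hX⟩, rfl⟩
      exact mem_radSub_of_zp hF h hX heL (ht ▸ L.smul_mem t huL)
    have hcard : ∀ o : Option F,
        Nat.card (K ⊓ radSub L ⊓ QS (linePoint e u o) : Subgroup (SU n F q)) = q ^ 2 := by
      intro o
      set P := linePoint e u o with hP_def
      have hP0 : P ≠ 0 := linePoint_ne_zero hF h huW hu0 o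
      have hPL : P ∈ L := linePoint_mem e u o
      have hPP := hti P hPL P hPL
      obtain ⟨s, hs⟩ := exists_hyp hF hP0 hPP
      -- some element of both
      obtain ⟨Z, hZK, hZL, hZP, hZ1⟩ : ∃ Z ∈ K, Z ∈ radSub L ∧ Z ∈ QS P ∧ Z ≠ 1 := by
        set α := o.elim (1 : F) id
        set β := o.elim (0 : F) (fun _ => 1)
        set y := β ^ q • f + (-(α ^ q)) • u'
        let g : SU n F q → F := fun X => hermForm n F q (X.1.1 *ᵥ y - y) y
        obtain ⟨hue, huf⟩ := (mem_rest hF).1 huW
        obtain ⟨heu, hfu⟩ := rest_swap_herm hF huW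
        obtain ⟨heu', hfu'⟩ := rest_swap_herm hF hu'W
        have hye : hermForm n F q y e = β ^ q := by
          rw [herm_add_left, herm_smul_left, herm_smul_left, h.symm' hF, ((mem_rest hF).1 hu'W).1,
            mul_one, mul_zero, add_zero]
        have hyw : hermForm n F q y u = -(α ^ q) := by
          rw [herm_add_left, herm_smul_left, herm_smul_left, hfu, hyp.symm' hF, mul_one, mul_zero,
            zero_add]
        have hg : ∀ X ∈ radSub L, g X + g X ^ q = 0 ∧ (g X = 0 → X ∈ QS P) ∧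
            ∀ X' ∈ radSub L, g (X * X') = g X + g X' := by
          intro X hX
          refine ⟨?_, ?_, fun X' hX' => ?_⟩
          · have key : ∀ a b : Fin n → F, hermForm n F q b b = 0 →
                hermForm n F q (a + b) (a + b) = hermForm n F q a a →
                hermForm n F q b a + hermForm n F q b a ^ q = 0 := fun a b hb hab => by
              rw [herm_add_left, herm_add_right _ _ _ hF, herm_add_right _ _ _ hF, hb, add_zero] at hab
              rw [herm_conj b a hF]
              linear_combination hab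
            refine key _ _ (hti _ (hX y) _ (hX y)) ?_
            rw [add_sub_cancel]
            exact SU_herm X y y
          · intro hg0
            obtain ⟨a, b, d, -, -, hXc⟩ := rad_coords hF h hn huW hu'W hyp hX
            rw [hP_def, linePoint_eq]
            refine (mem_QS_iff_lineForm hF h huW hu'W hyp hXc ?_).2 ?_
            · cases o <;> simp
            · refine Eq.trans ?_ hg0
              show lineForm q a b d α β = hermForm n F q (X.1.1 *ᵥ y - y) y
              rw [hXc, add_assoc, add_sub_cancel_left, hye, hyw]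
              simp only [lineForm, y, herm_add_left, herm_add_right _ _ _ hF, herm_smul_left,
                herm_smul_right, neg_pow_q hF, pow_q_q hF, h.2.2, huf, heu', hyp.2.2]
              ring
          · have h1 : (X * X').1.1 *ᵥ y - y = (X'.1.1 *ᵥ y - y) + (X.1.1 *ᵥ y - y) := by
              rw [SU_mul_mulVec]
              conv_lhs => rw [show X'.1.1 *ᵥ y = (X'.1.1 *ᵥ y - y) + y by abel, Matrix.mulVec_add,
                radSub_fix hF hti hX (hX' y)]
              abel
            show hermForm n F q ((X * X').1.1 *ᵥ y - y) y = _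
            rw [h1, herm_add_left, add_comm]
        have hlt : Nat.card {x : F // x + x ^ q = 0} <
            Nat.card (K ⊓ QS e : Subgroup (SU n F q)) := by
          rw [card_trace_zero hF, card_inf_QS hF h (hsr h), (hsm e f h).card, sq]
          exact lt_mul_self h1q
        obtain ⟨X, Y, hXY, hne⟩ : ∃ X Y : (K ⊓ QS e : Subgroup (SU n F q)),
            g X.1 = g Y.1 ∧ X ≠ Y := by
          by_contra hcon
          push Not at hcon
          have := Nat.card_le_card_of_injective
            (fun X : (K ⊓ QS e : Subgroup (SU n F q)) =>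
              (⟨g X.1, (hg _ (hKe _ X.2.1 X.2.2)).1⟩ : {x : F // x + x ^ q = 0}))
            (fun X Y hXY => hcon X Y (congrArg Subtype.val hXY))
          omega
        have hX := hKe _ X.2.1 X.2.2
        have hY := hKe _ Y.2.1 Y.2.2
        have hZ : X.1⁻¹ * Y.1 ∈ radSub L := mul_mem (inv_mem hX) hY
        refine ⟨X.1⁻¹ * Y.1, mul_mem (inv_mem X.2.1) Y.2.1, hZ, (hg _ hZ).2.1 ?_,
          fun h0 => hne (Subtype.ext (inv_mul_eq_one.1 h0))⟩
        have h1 := (hg _ hX).2.2 _ hZ
        rw [mul_inv_cancel_left, hXY] at h1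
        exact left_eq_add.1 h1
      -- all of `K ∩ QS P`
      obtain ⟨g, hgK, t, ht, hge⟩ := htr e P (ne_zero_of_hyp h) h.1 hP0 hPP
      set L' := L.map (Matrix.mulVecLin g.1.1)
      have hginj : Function.Injective (Matrix.mulVecLin g.1.1) := GU_mulVec_injective (suToGU n F q g)
      have hKP : ∀ X ∈ K, X ∈ QS P → X ∈ radSub L' := by
        intro X hXK hX
        have h1 : g⁻¹ * X * g⁻¹⁻¹ ∈ QS e := by
          have h2 := QS_conj g⁻¹ (show X ∈ QS (t • P) by rwa [QS_smul ht])
          rwa [← hge, SU_inv_mulVec] at h2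
        have h3 := hKe _ (mul_mem (mul_mem (inv_mem hgK) hXK) (inv_mem (inv_mem hgK))) h1
        intro y
        refine ⟨_, h3 (g⁻¹.1.1 *ᵥ y), ?_⟩
        show g.1.1 *ᵥ ((g⁻¹ * X * g⁻¹⁻¹).1.1 *ᵥ (g⁻¹.1.1 *ᵥ y) - g⁻¹.1.1 *ᵥ y) = X.1.1 *ᵥ y - y
        rw [Matrix.mulVec_sub, inv_inv]
        simp only [SU_mul_mulVec, SU_mulVec_inv]
      have hLL : L = L' := eq_of_radSub hF hL2
        (by rw [← (Submodule.equivMapOfInjective _ hginj L).finrank_eq, hL2]) hti hZL
        (hKP _ hZK hZP) (fun v hv hvv => hroot v hv hvv _ hZK) hZ1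
      have heq : (K ⊓ radSub L ⊓ QS P : Subgroup (SU n F q)) = K ⊓ QS P :=
        le_antisymm (le_inf (inf_le_left.trans inf_le_left) inf_le_right)
          fun X hX => ⟨⟨hX.1, hLL.symm ▸ hKP X hX.1 hX.2⟩, hX.2⟩
      rw [heq, card_inf_QS hF hs (hsr hs), (hsm P s hs).card]
    have hdc := line_double_count hF h hn huW hu'W hyp K hroot
    rw [Finset.sum_congr rfl (fun o _ => by rw [hcard o]), Finset.sum_const, Finset.card_univ,
      card_option hF, smul_eq_mul] at hdc
    haveI := hchar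
    obtain ⟨m, hm⟩ := card_rad_pow hF hp hti K
    rw [hm] at hdc
    have hq1 : q ^ 2 - 1 = (q - 1) * (q + 1) := by rw [mul_comm, ← Nat.sq_sub_sq, one_pow]
    rw [hq1, ← mul_assoc] at hdc
    have h2 := Nat.eq_of_mul_eq_mul_right (by omega : 0 < q + 1) hdc
    obtain ⟨s, rfl⟩ : ∃ s, q = s + 2 := ⟨q - 2, by omega⟩
    have h3 : p ^ m = (s + 2) * (s ^ 2 + 3 * s + 3) := by
      have h4 : p ^ m = ((s + 2) ^ 2 + 1) * (s + 2 - 1) + 1 := by
        have : 0 < p ^ m := pow_pos hp.pos m
        omega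
      rw [h4, show s + 2 - 1 = s + 1 by omega]
      ring
    obtain ⟨i, -, hi⟩ := (Nat.dvd_prime_pow hp).1 (Dvd.intro_left _ h3.symm)
    have hi0 : i ≠ 0 := fun h0 => by rw [h0, pow_zero] at hi; nlinarith
    have hd1 : p ∣ s ^ 2 + 3 * s + 3 := hi ▸ dvd_pow_self p hi0
    have hd2 : p ∣ (s + 2) * (s + 1) := Dvd.dvd.mul_right (hqk ▸ dvd_pow_self p (by omega)) _
    rw [show s ^ 2 + 3 * s + 3 = (s + 2) * (s + 1) + 1 by ring] at hd1
    exact hp.not_dvd_one ((Nat.dvd_add_right hd2).1 hd1)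
  · -- real forms everywhere
    push Not at hline
    have hshape : ∀ {e f : Fin n → F} (h : Hyp q e f), (2 : F) = 0 ∧
        ∀ a ∈ restPart hF h K, a ≠ 0 → ∀ t : F, t • a ∈ restPart hF h K ↔ t ^ q = t := by
      intro e f h
      rcases (hsm e f h).shape with ⟨u, hu0, hu, -, hul⟩ | hr
      · obtain ⟨a, ha, hat⟩ := hline e f h u hu0 hu
        obtain ⟨t, ht⟩ := hul a ha
        exact absurd ht (hat t)
      · exact hr
    obtain ⟨e, f, h⟩ := exists_hyp_any hF (n := n) (by omega)
    obtain ⟨h2, hA⟩ := hshape h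
    obtain ⟨u, huA, hu0⟩ : ∃ u ∈ restPart hF h K, u ≠ 0 := by
      by_contra hcon
      push Not at hcon
      have : Subsingleton (restPart hF h K) :=
        ⟨fun u v => Subtype.ext ((hcon _ u.2).trans (hcon _ v.2).symm)⟩
      have := Nat.card_of_subsingleton (0 : restPart hF h K)
      rw [(hsm e f h).card] at this
      omega
    have huW := restPart_le hF h K huA
    have huu := (hsm e f h).iso u huA
    obtain ⟨u', hu'W, hyp⟩ := exists_partner_rest hF h huW hu0 huu
    set L := Submodule.span F ({e, u} : Set (Fin n → F))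
    have hti := line_ti hF h huW huu
    have hL2 := finrank_line hF h huW hu0
    have heL : e ∈ L := Submodule.subset_span (by simp)
    have huL : u ∈ L := Submodule.subset_span (by simp)
    -- every point of the line
    have hcard : ∀ o : Option F,
        Nat.card (K ⊓ radSub L ⊓ QS (linePoint e u o) : Subgroup (SU n F q)) = 1 ∨
        Nat.card (K ⊓ radSub L ⊓ QS (linePoint e u o) : Subgroup (SU n F q)) = q := by
      intro o
      set P := linePoint e u o with hP_def
      have hP0 : P ≠ 0 := linePoint_ne_zero hF h huW hu0 o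
      have hPL : P ∈ L := linePoint_mem e u o
      have hPP := hti P hPL P hPL
      obtain ⟨s, hs⟩ := exists_hyp hF hP0 hPP
      by_cases hbot : ∀ X ∈ (K ⊓ radSub L ⊓ QS P : Subgroup (SU n F q)), X = 1
      · left
        have : Subsingleton (K ⊓ radSub L ⊓ QS P : Subgroup (SU n F q)) :=
          ⟨fun X Y => Subtype.ext ((hbot _ X.2).trans (hbot _ Y.2).symm)⟩
        exact Nat.card_of_subsingleton 1
      right
      push Not at hbot
      obtain ⟨Z, ⟨⟨hZK, hZL⟩, hZP⟩, hZ1⟩ := hbot
      set z0 := zp P s Z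
      have hz0A : z0 ∈ restPart hF hs K := ⟨Z, ⟨hZK, hZP⟩, rfl⟩
      have hz0W := zp_mem hF hs Z
      have hz00 : z0 ≠ 0 := fun h0 =>
        hZ1 (hsr hs Z hZK (mem_RS_of_zp hF hs hZP h0))
      set L' := Submodule.span F ({P, z0} : Set (Fin n → F))
      have hPL' : P ∈ L' := Submodule.subset_span (by simp)
      have hzL' : z0 ∈ L' := Submodule.subset_span (by simp)
      have hLL : L = L' := eq_of_radSub hF hL2 (finrank_line hF hs hz0W hz00) hti hZL
        (mem_radSub_of_zp hF hs hZP hPL' hzL') (fun v hv hvv => hroot v hv hvv _ hZK) hZ1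
      have hA' := (hshape hs).2 z0 hz0A hz00
      have hpre : ∀ t : {x : F // x ^ q = x}, ∃ X, (X ∈ K ∧ X ∈ QS P) ∧ zp P s X = t.1 • z0 :=
        fun t => by
          obtain ⟨X, hX, hXz⟩ := (hA' t.1).2 t.2
          exact ⟨X, hX, hXz⟩
      choose Xt hXt hXtz using hpre
      refine Eq.trans ?_ (card_fixed hF)
      refine (Nat.card_eq_of_bijective (fun t : {x : F // x ^ q = x} =>
        (⟨Xt t, ⟨(hXt t).1, hLL.symm ▸ mem_radSub_of_zp hF hs (hXt t).2 hPL'
          (hXtz t ▸ L'.smul_mem _ hzL')⟩, (hXt t).2⟩ :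
          (K ⊓ radSub L ⊓ QS P : Subgroup (SU n F q)))) ⟨?_, ?_⟩).symm
      · intro t t' htt
        have h1 : t.1 • z0 = t'.1 • z0 := by
          rw [← hXtz t, ← hXtz t', show Xt t = Xt t' from congrArg (fun z => z.1) htt]
        exact Subtype.ext (smul_left_injective F hz00 h1)
      · rintro ⟨Y, ⟨hYK, hYL⟩, hYP⟩
        obtain ⟨hPs, hz0s⟩ : hermForm n F q P s = 1 ∧ hermForm n F q z0 s = 0 :=
          ⟨hs.2.2, ((mem_rest hF).1 hz0W).2⟩
        have h1 : zp P s Y ∈ Submodule.span F ({z0} : Set (Fin n → F)) := by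
          have h2 := hYL s
          rw [hLL] at h2
          obtain ⟨a, b, hab⟩ := Submodule.mem_span_pair.1 h2
          refine Submodule.mem_span_singleton.2 ⟨b, ?_⟩
          rw [zp, show Y.1.1 *ᵥ s = s + (a • P + b • z0) by rw [hab]; abel, proj_add, proj_add,
            proj_smul, proj_smul, proj_of_mem hF hz0W,
            show proj q P s s = 0 by simpa using proj_plane hF hs (0 : F) 1,
            show proj q P s P = 0 by simpa using proj_plane hF hs (1 : F) 0, smul_zero, zero_add,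
            zero_add]
        obtain ⟨t, ht⟩ := Submodule.mem_span_singleton.1 h1
        have htA : t • z0 ∈ restPart hF hs K := ⟨Y, ⟨hYK, hYP⟩, ht.symm⟩
        exact ⟨⟨t, (hA' t).1 htA⟩, Subtype.ext (eq_of_zp hF hs (hsr hs) (hXt _).1 (hXt _).2 hYK hYP
          ((hXtz _).trans ht))⟩
    have hdc := line_double_count hF h hn huW hu'W hyp K hroot
    haveI := hchar
    obtain ⟨m, hm⟩ := card_rad_pow hF hp hti K
    set U := K ⊓ radSub L
    have hle : (Nat.card U - 1) * (q + 1) ≤ (q ^ 2 + 1) * (q - 1) := by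
      rw [hdc, ← card_option hF, ← Finset.card_univ, ← smul_eq_mul]
      refine Finset.sum_le_card_nsmul _ _ _ fun o _ => ?_
      rcases hcard o with hc | hc <;> rw [hc] <;> omega
    have hp2 : p = 2 := by
      have h3 : ((2 : ℕ) : F) = 0 := by exact_mod_cast h2
      rw [CharP.cast_eq_zero_iff F p] at h3
      exact (Nat.prime_dvd_prime_iff_eq hp Nat.prime_two).1 h3
    subst hp2
    have hcop : Nat.Coprime (q - 1) (q + 1) := by
      refine Nat.coprime_of_dvd fun r hr h1 h2' => ?_
      have h4 : r ∣ 2 := by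
        have := Nat.dvd_sub h2' h1
        rwa [show q + 1 - (q - 1) = 2 by omega] at this
      obtain rfl := (Nat.prime_dvd_prime_iff_eq hr Nat.prime_two).1 h4
      have h5 : 2 ∣ q := hqk ▸ dvd_pow_self 2 (by omega)
      omega
    have hdvd : q - 1 ∣ Nat.card U - 1 := by
      refine hcop.dvd_of_dvd_mul_right ?_
      rw [hdc]
      refine Finset.dvd_sum fun o _ => ?_
      rcases hcard o with hc | hc <;> rw [hc]
      exact dvd_zero _
    -- a further element: the lift of a transvection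
    obtain ⟨X0, ⟨hX0K, hX0L⟩, hX0Q⟩ : ∃ X, X ∈ U ∧ X ∉ QS e := by
      obtain ⟨c, hc0, hc⟩ := exists_trace_zero_ne_zero hF
      obtain ⟨heu, hfu⟩ := rest_swap_herm hF huW
      obtain ⟨t, ht⟩ := exists_SU_tv hF huu hc
      have htx : ∀ x, t.1.1 *ᵥ x = x + (c * hermForm n F q x u) • u := fun x => by
        have := ht x
        rwa [suToGU_val] at this
      have hte : t.1.1 *ᵥ e = e := by rw [htx, heu, mul_zero, zero_smul, add_zero]
      have htu : t.1.1 *ᵥ u = u := by rw [htx, huu, mul_zero, zero_smul, add_zero]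
      have htN : t ∈ NS e := PS_le_NS e hte
      -- it lies in the stabiliser part
      have htS : t ∈ stabPart e K := by
        have hm : ∀ ν : {x : F // x ^ (q + 1) = 1}, ∃ (g : SU n F q) (ζ : F),
            g.1.1 *ᵥ e = ζ • e ∧ ζ ^ (q + 1) = 1 ∧ psi q e f g ζ u = (ν.1 ^ 2) • u ∧
              ∀ a : F, psi q e f g ζ (a • u) = (a * ν.1 ^ 2) • u := fun ν => by
          obtain ⟨g, ζ, hg, hζ, -, hgu, -⟩ :=
            exists_multiplier hF h huW hu'W hyp (one_pow q) one_ne_zero ν.2
          rw [one_mul] at hgu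
          refine ⟨g, ζ, hg, hζ, hgu, fun a => ?_⟩
          rw [← smul_smul, ← hgu, psi, psi, Matrix.mulVec_smul, proj_smul, smul_comm]
        choose g ζ hg hζ hgu hga using hm
        have hζ0 : ∀ ν, ζ ν ≠ 0 := fun ν h0 => by
          have := hζ ν; rw [h0, zero_pow (by omega)] at this; exact zero_ne_one this
        have hνN : ∀ ν, g ν ∈ NS e := fun ν => ⟨ζ ν, hζ0 ν, hg ν⟩
        have hpsi : ∀ (X : SU n F q) (ξ : F), ξ ≠ 0 → X.1.1 *ᵥ e = ξ • e →
            (data e f K X).2 = psi q e f X ξ '' (restPart hF h K : Set (Fin n → F)) := by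
          intro X ξ _ hXe
          show (fun T => zp e f (X * T * X⁻¹)) '' _ = psi q e f X ξ '' (zp e f '' _)
          rw [Set.image_image]
          exact Set.image_congr fun T hT => zp_conj hF h hXe hT.2
        have hone : ∀ ν : {x : F // x ^ (q + 1) = 1}, ∀ X : SU n F q, X.1.1 *ᵥ e = e →
            X.1.1 *ᵥ u = u → (g ν)⁻¹ * X ∈ stabPart e K → ν.1 = 1 := by
          intro ν X hXe hXu hin
          have h1 := congrArg Prod.snd (data_mul hF h K (hνN ν) hin)
          rw [mul_inv_cancel_left, hpsi X 1 one_ne_zero (by rw [one_smul]; exact hXe),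
            hpsi _ _ (hζ0 ν) (hg ν)] at h1
          have h3 : u ∈ psi q e f (g ν) (ζ ν) '' (restPart hF h K : Set (Fin n → F)) :=
            h1 ▸ ⟨u, huA, by rw [psi, hXu, one_pow, one_smul, proj_of_mem hF huW]⟩
          obtain ⟨a, ha, hau⟩ := h3
          have haW := restPart_le hF h K ha
          have haa : a = (ν.1 ^ 2)⁻¹ • u := by
            have hν0 : ν.1 ^ 2 ≠ 0 := pow_ne_zero 2 fun h0 => by
              have := ν.2; rw [h0, zero_pow (by omega)] at this; exact zero_ne_one this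
            have h4 : psi q e f (g ν) (ζ ν) a = psi q e f (g ν) (ζ ν) ((ν.1 ^ 2)⁻¹ • u) := by
              rw [hau, hga, inv_mul_cancel₀ hν0, one_smul]
            simp only [psi] at h4
            have h5 := smul_right_injective (Fin n → F) (pow_ne_zero q (hζ0 ν)) h4
            have h6 : ∀ w ∈ rest q e f, proj q e f ((g ν).1.1 *ᵥ w) = 0 → w = 0 := fun w hw hp0 => by
              have hve := herm_move_e hF (hζ0 ν) (hg ν) ((mem_rest hF).1 hw).1
              have hv := eq_proj (q := q) (e := e) (f := f) ((g ν).1.1 *ᵥ w)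
              rw [hve, zero_smul, add_zero, hp0, add_zero] at hv
              set r := hermForm n F q ((g ν).1.1 *ᵥ w) f
              have h7 : w = (r / ζ ν) • e := by
                rw [← SU_inv_mulVec (g ν) w, hv, Matrix.mulVec_smul]
                conv_lhs => arg 2; arg 2; rw [← inv_smul_smul₀ (hζ0 ν) e, ← hg ν]
                rw [Matrix.mulVec_smul, SU_inv_mulVec, smul_smul, div_eq_mul_inv]
              refine (eq_zero_of_mem_rest hF h (a := -(r / ζ ν)) (b := 0) hw ?_).2.2
              rw [zero_smul, add_zero, neg_smul, ← h7, neg_add_cancel]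
            refine sub_eq_zero.1 (h6 _ ((rest q e f).sub_mem haW ((rest q e f).smul_mem _ huW)) ?_)
            rw [Matrix.mulVec_sub, sub_eq_add_neg, proj_add, ← neg_one_smul F
              ((g ν).1.1 *ᵥ ((ν.1 ^ 2)⁻¹ • u)), proj_smul, h5, neg_one_smul, add_neg_cancel]
          have h4 := (hA u huA hu0 ((ν.1 ^ 2)⁻¹)).1 (haa ▸ ha)
          have hνq : ν.1 ^ q = ν.1⁻¹ := eq_inv_of_mul_eq_one_left (by rw [← pow_succ]; exact ν.2)
          rw [inv_pow, ← pow_mul, mul_comm 2 q, pow_mul, hνq, inv_pow, inv_inv] at h4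
          have hν0 : ν.1 ≠ 0 := fun h0 => by
            have := ν.2; rw [h0, zero_pow (by omega)] at this; exact zero_ne_one this
          have h8 : ν.1 ^ 4 = 1 := by
            calc ν.1 ^ 4 = ν.1 ^ 2 * ν.1 ^ 2 := by ring
              _ = 1 := by nth_rewrite 1 [h4]; exact inv_mul_cancel₀ (pow_ne_zero 2 hν0)
          have h9 : (ν.1 - 1) ^ 4 = 0 := by
            linear_combination h8 + (-2 * ν.1 ^ 3 + 3 * ν.1 ^ 2 - 2 * ν.1 + 1) * h2
          exact sub_eq_zero.1 (eq_zero_of_pow_eq_zero h9)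
        -- the multipliers fill all the cosets
        let C := NS (q := q) e ⧸ (stabPart e K).subgroupOf (NS e)
        let c' : {x : F // x ^ (q + 1) = 1} → C := fun ν =>
          QuotientGroup.mk (⟨g ν, hνN ν⟩ : NS (q := q) e)
        have hinj : Function.Injective c' := by
          intro ν ν' hνν
          have hin : (g ν)⁻¹ * g ν' ∈ stabPart e K := (QuotientGroup.eq (s := (stabPart e K).subgroupOf (NS e))
            (a := (⟨g ν, hνN ν⟩ : NS (q := q) e)) (b := ⟨g ν', hνN ν'⟩)).1 hνν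
          have h1 := congrArg Prod.snd (data_mul hF h K (hνN ν) hin)
          rw [mul_inv_cancel_left, hpsi _ _ (hζ0 ν') (hg ν'), hpsi _ _ (hζ0 ν) (hg ν)] at h1
          have h3 : psi q e f (g ν') (ζ ν') u ∈
              psi q e f (g ν) (ζ ν) '' (restPart hF h K : Set (Fin n → F)) := h1 ▸ ⟨u, huA, rfl⟩
          obtain ⟨a, ha, hau⟩ := h3
          have hν0 : ν.1 ^ 2 ≠ 0 := pow_ne_zero 2 fun h0 => by
            have := ν.2; rw [h0, zero_pow (by omega)] at this; exact zero_ne_one this
          rw [hgu] at hau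
          have haW := restPart_le hF h K ha
          have haa : a = (ν'.1 ^ 2 * (ν.1 ^ 2)⁻¹) • u := by
            have h4 : psi q e f (g ν) (ζ ν) a =
                psi q e f (g ν) (ζ ν) ((ν'.1 ^ 2 * (ν.1 ^ 2)⁻¹) • u) := by
              rw [hau, hga, inv_mul_cancel_right₀ hν0]
            simp only [psi] at h4
            have h5 := smul_right_injective (Fin n → F) (pow_ne_zero q (hζ0 ν)) h4
            have h6 : ∀ w ∈ rest q e f, proj q e f ((g ν).1.1 *ᵥ w) = 0 → w = 0 := fun w hw hp0 => by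
              have hve := herm_move_e hF (hζ0 ν) (hg ν) ((mem_rest hF).1 hw).1
              have hv := eq_proj (q := q) (e := e) (f := f) ((g ν).1.1 *ᵥ w)
              rw [hve, zero_smul, add_zero, hp0, add_zero] at hv
              set r := hermForm n F q ((g ν).1.1 *ᵥ w) f
              have h7 : w = (r / ζ ν) • e := by
                rw [← SU_inv_mulVec (g ν) w, hv, Matrix.mulVec_smul]
                conv_lhs => arg 2; arg 2; rw [← inv_smul_smul₀ (hζ0 ν) e, ← hg ν]
                rw [Matrix.mulVec_smul, SU_inv_mulVec, smul_smul, div_eq_mul_inv]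
              refine (eq_zero_of_mem_rest hF h (a := -(r / ζ ν)) (b := 0) hw ?_).2.2
              rw [zero_smul, add_zero, neg_smul, ← h7, neg_add_cancel]
            refine sub_eq_zero.1 (h6 _ ((rest q e f).sub_mem haW ((rest q e f).smul_mem _ huW)) ?_)
            rw [Matrix.mulVec_sub, sub_eq_add_neg, proj_add, ← neg_one_smul F
              ((g ν).1.1 *ᵥ ((ν'.1 ^ 2 * (ν.1 ^ 2)⁻¹) • u)), proj_smul, h5, neg_one_smul, add_neg_cancel]
          have h4 := (hA u huA hu0 (ν'.1 ^ 2 * (ν.1 ^ 2)⁻¹)).1 (haa ▸ ha)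
          have hq' : ∀ x : {x : F // x ^ (q + 1) = 1}, (x.1 ^ 2) ^ q = (x.1 ^ 2)⁻¹ := fun x =>
            eq_inv_of_mul_eq_one_left (by rw [← pow_succ, ← pow_mul, mul_comm, pow_mul, x.2, one_pow])
          rw [mul_pow, inv_pow, hq', hq', inv_inv] at h4
          have hν'0 : ν'.1 ^ 2 ≠ 0 := pow_ne_zero 2 fun h0 => by
            have := ν'.2; rw [h0, zero_pow (by omega)] at this; exact zero_ne_one this
          have h8 : ν'.1 ^ 4 = ν.1 ^ 4 := by
            field_simp at h4
            rw [div_eq_div_iff hν'0 hν0] at h4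
            linear_combination -h4
          have h9 : (ν'.1 - ν.1) ^ 4 = 0 := by
            linear_combination h8 + (-2 * ν'.1 ^ 3 * ν.1 + 3 * ν'.1 ^ 2 * ν.1 ^ 2 -
              2 * ν'.1 * ν.1 ^ 3 + ν.1 ^ 4) * h2
          exact (Subtype.ext (sub_eq_zero.1 (eq_zero_of_pow_eq_zero h9))).symm
        haveI : Fintype C := Fintype.ofFinite _
        have hbij : Function.Bijective c' := (Fintype.bijective_iff_injective_and_card c').2
          ⟨hinj, le_antisymm (Fintype.card_le_of_injective c' hinj) (by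
            rw [← Nat.card_eq_fintype_card, ← Nat.card_eq_fintype_card, card_norm_one hF]
            exact (hsm e f h).stab)⟩
        obtain ⟨ν, hν⟩ := hbij.2 (QuotientGroup.mk (⟨t, htN⟩ : NS (q := q) e))
        obtain ⟨ν', hν'⟩ := hbij.2 (QuotientGroup.mk (1 : NS (q := q) e))
        have g1 := hone ν t hte htu ((QuotientGroup.eq (s := (stabPart e K).subgroupOf (NS e))
          (a := (⟨g ν, hνN ν⟩ : NS (q := q) e)) (b := ⟨t, htN⟩)).1 hν)
        have g2 := hone ν' 1 (by simp) (by simp) ((QuotientGroup.eq (s := (stabPart e K).subgroupOf (NS e))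
          (a := (⟨g ν', hνN ν'⟩ : NS (q := q) e)) (b := 1)).1 hν')
        rw [Subtype.ext (g1.trans g2.symm)] at hν
        have g3 := (QuotientGroup.eq (s := (stabPart e K).subgroupOf (NS e))
          (a := (1 : NS (q := q) e)) (b := ⟨t, htN⟩)).1 (hν'.symm.trans hν)
        rw [inv_one, one_mul] at g3
        exact g3
      obtain ⟨k, hkK, -, v, hv, hkv⟩ := exists_mul_of_mem_stabPart htS
      have hc1 : ∀ x : F, x + x = 0 := fun x => by linear_combination x * h2
      have hone : ∀ x : Fin n → F, x + x = 0 := fun x => funext fun i => hc1 (x i)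
      have htt : t * t = 1 := SU_ext fun x => by
        rw [SU_mul_mulVec, htx x, Matrix.mulVec_add, Matrix.mulVec_smul, htx x, htu, add_assoc,
          hone, add_zero]
        simp
      set z := zp e f v⁻¹ with hz
      have hzW := zp_mem hF h v⁻¹
      have hkt : t * v⁻¹ ∈ K := by rw [hkv, mul_inv_cancel_right]; exact hkK
      -- the parameter modulo `A` lies on the line
      have hw : t⁻¹ * v⁻¹ * t⁻¹⁻¹ ∈ QS e := NS_conj_QS (inv_mem htN) (inv_mem hv)
      have hsqA : (c * hermForm n F q z u) • u ∈ restPart hF h K := by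
        have hti' : t⁻¹ = t := inv_eq_of_mul_eq_one_right htt
        refine ⟨t * v⁻¹ * (t * v⁻¹), ⟨mul_mem hkt hkt, ?_⟩, ?_⟩
        · rw [show t * v⁻¹ * (t * v⁻¹) = t⁻¹ * v⁻¹ * t⁻¹⁻¹ * v⁻¹ by rw [inv_inv, hti']; group]
          exact (QS e).mul_mem hw ((QS e).inv_mem hv)
        · rw [show t * v⁻¹ * (t * v⁻¹) = t⁻¹ * v⁻¹ * t⁻¹⁻¹ * v⁻¹ by rw [inv_inv, hti']; group,
            zp_mul hF h hw (inv_mem hv), hti', zp_conj hF h (ζ := 1) (by rw [one_smul]; exact hte)
              (inv_mem hv), one_pow, one_smul, ← hz, htx z, proj_add, proj_of_mem hF hzW,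
            proj_smul, proj_of_mem hF huW, add_comm z, add_assoc, hone, add_zero]
      obtain ⟨a, haA, hau⟩ : ∃ a ∈ restPart hF h K, hermForm n F q a u = hermForm n F q z u := by
        have hcq : c ^ q = c := by linear_combination hc - c * h2
        have hzr : hermForm n F q z u ^ q = hermForm n F q z u := by
          have h5 := (hA u huA hu0 _).1 hsqA
          rw [mul_pow, hcq] at h5
          exact mul_left_cancel₀ hc0 h5
        obtain ⟨v0, hv0, hv0u⟩ : ∃ v0 ∈ restPart hF h K, hermForm n F q v0 u ≠ 0 := by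
          by_contra hcon
          push Not at hcon
          obtain ⟨a, ha, hat⟩ := hline e f h u hu0 huA
          obtain ⟨r, hr⟩ := mem_line_of_isotropic hF h hn huW hu0 huu (restPart_le hF h K ha) (hcon a ha)
          exact hat r hr
        have hηq : hermForm n F q v0 u ^ q = hermForm n F q v0 u := by
          have hv00 : v0 ≠ 0 := fun h0 => hv0u (by rw [h0, herm_zero_left])
          have hvi := (hsm e f h).iso v0 hv0
          have hui := (hsm e f h).iso _ ((restPart hF h K).add_mem hv0 huA)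
          rw [herm_add_left, herm_add_right _ _ _ hF, herm_add_right _ _ _ hF, hvi, huu, zero_add,
            add_zero] at hui
          rw [herm_conj v0 u hF]
          linear_combination hui - hermForm n F q v0 u * h2
        refine ⟨(hermForm n F q z u / hermForm n F q v0 u) • v0,
          (hA v0 hv0 (fun h0 => hv0u (by rw [h0, herm_zero_left])) _).2 (by rw [div_pow, hzr, hηq]), ?_⟩
        rw [herm_smul_left, div_mul_cancel₀ _ hv0u]
      obtain ⟨Xa, ⟨hXaK, hXaQ⟩, hXaz⟩ := haA
      have hvq : v⁻¹ * Xa⁻¹ ∈ QS e := mul_mem (inv_mem hv) (inv_mem hXaQ)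
      have hzline : zp e f (v⁻¹ * Xa⁻¹) ∈ L := by
        rw [zp_mul hF h (inv_mem hv) (inv_mem hXaQ), zp_inv hF h hXaQ, hXaz, ← hz, ← sub_eq_add_neg]
        obtain ⟨r, hr⟩ := mem_line_of_isotropic hF h hn huW hu0 huu
          ((rest q e f).sub_mem hzW (restPart_le hF h K ⟨Xa, ⟨hXaK, hXaQ⟩, hXaz⟩))
          (by rw [herm_sub_left, hau, sub_self])
        rw [hr]; exact L.smul_mem _ huL
      refine ⟨t * (v⁻¹ * Xa⁻¹), ⟨?_, mul_mem ?_ (mem_radSub_of_zp hF h hvq heL hzline)⟩, fun hmem => ?_⟩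
      · rw [← mul_assoc]; exact K.mul_mem hkt (K.inv_mem hXaK)
      · intro y
        rw [htx, add_sub_cancel_left]
        exact L.smul_mem _ huL
      · have htQ : t ∈ QS e := by
          have := mul_mem hmem (inv_mem hvq)
          rwa [mul_inv_cancel_right] at this
        obtain ⟨r, hr⟩ := htQ.2 u' ((mem_rest hF).1 hu'W).1
        rw [htx, hyp.symm' hF, mul_one, add_right_inj] at hr
        refine hc0 (neg_eq_zero.1 ?_)
        by_contra hne
        exact hu0 (eq_zero_of_mem_rest hF h (a := -(r / c)) (b := 0) huW (by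
          rw [zero_smul, add_zero, ← inv_smul_smul₀ hc0 u, hr, smul_smul, ← add_smul,
            inv_mul_eq_div, neg_add_cancel, zero_smul])).2.2
    have he_card : Nat.card (U ⊓ QS e : Subgroup (SU n F q)) = q := by
      rcases hcard none with hc | hc
      · exfalso
        obtain ⟨X, ⟨hXK, hXQ⟩, hXz⟩ := huA
        have : Subsingleton (U ⊓ QS (linePoint e u none) : Subgroup (SU n F q)) :=
          (Nat.card_eq_one_iff_unique.1 hc).1
        have hX1 : X = 1 := congrArg Subtype.val (Subsingleton.elim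
          (⟨X, ⟨hXK, mem_radSub_of_zp hF h hXQ heL (hXz ▸ huL)⟩, hXQ⟩ :
            (U ⊓ QS (linePoint e u none) : Subgroup (SU n F q))) 1)
        exact hu0 (by rw [← hXz, hX1, zp_one hF h])
      · exact hc
    have hgt : q < Nat.card U := by
      refine lt_of_eq_of_lt he_card.symm ?_
      refine lt_of_le_of_ne (Nat.le_of_dvd Nat.card_pos (Subgroup.card_dvd_of_le inf_le_left)) fun heq => ?_
      have := Subgroup.eq_of_le_of_card_ge (inf_le_left : U ⊓ QS e ≤ U) heq.ge
      have h5 : X0 ∈ U ⊓ QS e := by rw [this]; exact ⟨hX0K, hX0L⟩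
      exact hX0Q h5.2
    have hlt : Nat.card U < q ^ 2 := by
      by_contra hge
      push Not at hge
      have h5 := (Nat.mul_le_mul_right (q + 1) (Nat.sub_le_sub_right hge 1)).trans hle
      obtain ⟨s, rfl⟩ : ∃ s, q = s + 2 := ⟨q - 2, by omega⟩
      rw [show (s + 2) ^ 2 - 1 = s ^ 2 + 4 * s + 3 from Nat.sub_eq_of_eq_add (by ring),
        show s + 2 - 1 = s + 1 by omega] at h5
      nlinarith
    rw [hm] at hgt hlt hdvd
    rw [hqk] at hgt hlt
    rw [← pow_mul] at hlt
    have hm1 : k < m := (Nat.pow_lt_pow_iff_right (by norm_num)).1 hgt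
    have hm2 : m < k * 2 := (Nat.pow_lt_pow_iff_right (by norm_num)).1 hlt
    obtain ⟨j, rfl⟩ : ∃ j, m = k + j := ⟨m - k, by omega⟩
    rw [hqk] at hdvd
    have h6 : 2 ^ k - 1 ∣ 2 ^ j - 1 := by
      have e1 : 2 ^ (k + j) - 1 = (2 ^ k - 1) * 2 ^ j + (2 ^ j - 1) := by
        rw [pow_add, Nat.sub_mul, one_mul]
        have : 1 ≤ 2 ^ j := Nat.one_le_two_pow
        have : 2 ^ j ≤ 2 ^ k * 2 ^ j := Nat.le_mul_of_pos_left _ (Nat.two_pow_pos k)
        omega
      rw [e1] at hdvd
      exact (Nat.dvd_add_right (Dvd.intro _ rfl)).1 hdvd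
    have h7 : 2 ^ 1 ≤ 2 ^ j := Nat.pow_le_pow_right two_pos (by omega)
    have h8 : 2 ^ j < 2 ^ k := Nat.pow_lt_pow_right (by norm_num) (by omega)
    have := Nat.le_of_dvd (by omega) h6
    omega

/-- A subgroup of `SU 4` missing a root group has index at least the number of lines. -/
theorem index_bound_four (hF : Fintype.card F = q ^ 2) (hn : n = 4) (h : Hyp q e f)
    {K : Subgroup (SU n F q)} (hK : ¬ RS e ≤ K) : (q + 1) * (q ^ 3 + 1) ≤ K.index := by
  classical
  have h1q := one_lt_q hF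
  by_contra hlt
  push Not at hlt
  have hle : ∀ p : Fin n → F, K.relIndex (NS (q := q) p) ≤ K.index := fun p => by
    rw [← Subgroup.relIndex_top_right K]
    exact Subgroup.relIndex_le_of_le_right le_top fun h0 =>
      Subgroup.index_ne_zero_of_finite (H := K) (by rw [← Subgroup.relIndex_top_right K]; exact h0)
  have hidx : ∀ {p s : Fin n → F}, Hyp q p s →
      (NS (q := q) p).index = (q ^ 2 + 1) * (q ^ 3 + 1) := fun {p s} hps => by
    have h1 := index_NS_mul hF (by omega) hps
    rw [countNull_even hF (by omega) (hn ▸ by decide), show n - 1 = 3 by omega,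
      show q ^ n = q ^ 4 by rw [hn]] at h1
    refine Nat.eq_of_mul_eq_mul_right (show 0 < q ^ 2 - 1 by
      have := Nat.one_lt_pow two_ne_zero h1q; omega) (h1.trans ?_)
    rw [show q ^ 4 - 1 = (q ^ 2 + 1) * (q ^ 2 - 1) by
      rw [← Nat.sq_sub_sq, one_pow, ← pow_mul]]
    ring
  have hsm0 := small_of_relIndex hF hn h hK (lt_of_le_of_lt (hle e) hlt)
  have hR : q ^ 4 + q ^ 3 ≤ K.relIndex (NS (q := q) e) := by
    have hKQ := relIndex_QS_mul hF h K
    rw [hsm0.card, hsm0.tv, mul_one, show n - 2 = 2 by omega] at hKQ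
    have h1 : K.relIndex (QS e) = q ^ 3 := Nat.eq_of_mul_eq_mul_right
      (pow_pos (by omega : 0 < q) 2) (by rw [hKQ]; ring)
    have h2 : q + 1 ≤ (stabPart e K).relIndex (NS e) := by
      have hsc := scalings_mul_imgs_le hF h (by omega) K
      refine le_trans ?_ ((Nat.le_mul_of_pos_left _ ?_).trans hsc)
      · rcases hsm0.shape with ⟨u, hu0, hu, -, hul⟩ | ⟨h2', -⟩
        · exact line_imgs hF h (fun a ha => restPart_le hF h K ha) hu hu0 (hsm0.iso u hu) hul
        · obtain ⟨u, hu, hu0⟩ : ∃ u ∈ restPart hF h K, u ≠ 0 := by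
            by_contra hcon
            push Not at hcon
            have : Subsingleton (restPart hF h K) :=
              ⟨fun u v => Subtype.ext ((hcon _ u.2).trans (hcon _ v.2).symm)⟩
            have := Nat.card_of_subsingleton (0 : restPart hF h K)
            rw [hsm0.card] at this
            have := Nat.one_lt_pow two_ne_zero h1q
            omega
          have hnull := null_class_le hF h (fun a ha => restPart_le hF h K ha) hu hu0 (hsm0.iso u hu)
          have hcls : ({a : Fin n → F | a ∈ restPart hF h K ∧ a ≠ 0 ∧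
              hermForm n F q a a = 0}).ncard ≤ q ^ 2 - 1 := by
            rw [← hsm0.card]
            refine le_trans (Set.ncard_le_ncard
              (t := (restPart hF h K : Set (Fin n → F)) \ {0})
              (fun x hx => ⟨hx.1, hx.2.1⟩) (Set.toFinite _)) (le_of_eq ?_)
            rw [Set.ncard_sdiff_singleton_of_mem (restPart hF h K).zero_mem, ← Nat.card_coe_set_eq]
            rfl
          refine Nat.le_of_mul_le_mul_right ?_ (show 0 < q ^ 2 - 1 by
            have := Nat.one_lt_pow two_ne_zero h1q; omega)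
          exact le_trans (Nat.mul_le_mul_left _ ((card_mults hF).2 h2'))
            (hnull.trans (Nat.mul_le_mul_left _ hcls))
      · have : Nonempty (Fx F q) := ⟨⟨1, one_pow q, one_ne_zero⟩⟩
        exact (Set.ncard_pos (Set.toFinite _)).2 (Set.range_nonempty _)
    calc q ^ 4 + q ^ 3 = q ^ 3 * (q + 1) := by ring
      _ ≤ K.relIndex (QS e) * (stabPart e K).relIndex (NS e) := by
          rw [h1]; exact Nat.mul_le_mul_left _ h2
      _ ≤ _ := relIndex_mul_le_relIndex e K
  have hO := index_mul_relIndex K (NS (q := q) e)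
  rw [hidx h] at hO
  have hReq : K.relIndex (NS (q := q) e) = K.index := (hle e).antisymm (by
    by_contra hne
    push Not at hne
    exact four_arith h1q hR hne hlt hO)
  have hOfull : (NS (q := q) e).relIndex K = (NS (q := q) e).index := by
    rw [hidx h]
    exact Nat.eq_of_mul_eq_mul_right (Nat.pos_of_ne_zero (Subgroup.index_ne_zero_of_finite (H := K)))
      (by rw [hO, hReq, mul_comm])
  have he0 := ne_zero_of_hyp h
  have htr0 : ∀ r : Fin n → F, r ≠ 0 → hermForm n F q r r = 0 →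
      ∃ k ∈ K, ∃ t : F, t ≠ 0 ∧ k.1.1 *ᵥ e = t • r := by
    intro r hr0 hrr
    obtain ⟨A, hdet, hAe⟩ := exists_SU_isotropic hF (by omega) he0 h.1 hr0 hrr
    obtain ⟨g, hg⟩ := exists_SU_of_GU hdet
    have hge : g.1.1 *ᵥ e = r := by rw [← hAe, ← hg]
    by_contra hcon
    push Not at hcon
    have hsum := relIndex_add_le' (K := K) hge fun k hk t hkt => hcon k hk t (fun h0 => he0 (by
      rw [← SU_inv_mulVec k e, hkt, h0, zero_smul, Matrix.mulVec_zero])) hkt
    have hpos : (NS (q := q) r).relIndex K ≠ 0 := fun h0 =>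
      Subgroup.index_ne_zero_of_finite (H := (NS (q := q) r).subgroupOf K) h0
    omega
  have hnR : ∀ v : Fin n → F, v ≠ 0 → hermForm n F q v v = 0 → ¬ RS v ≤ K := by
    intro v hv0 hvv hvK
    obtain ⟨k, hk, t, ht, hkt⟩ := htr0 v hv0 hvv
    refine hK fun S hS' => ?_
    have h1 := RS_conj k hS'
    rw [hkt, RS_smul ht] at h1
    have h3 := K.mul_mem (K.mul_mem (K.inv_mem hk) (hvK h1)) hk
    rwa [show k⁻¹ * (k * S * k⁻¹) * k = S by group] at h3
  have hsm : ∀ p s : Fin n → F, ∀ hps : Hyp q p s, Small hF hps K := fun p s hps =>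
    small_of_relIndex hF hn hps (hnR p (ne_zero_of_hyp hps) hps.1) (lt_of_le_of_lt (hle p) hlt)
  refine four_contra hF hn hsm (fun v hv0 hvv X hXK hXR => ?_) fun p p' hp0 hpp hp0' hpp' => ?_
  · obtain ⟨s, hs⟩ := exists_hyp hF hv0 hvv
    obtain ⟨-, hT⟩ := exists_tc hF hs hXR
    have : Subsingleton (tvPart hF hs K) := (Nat.card_eq_one_iff_unique.1 (hsm v s hs).tv).1
    have hc0 : tc s X = 0 := congrArg Subtype.val
      (Subsingleton.elim (⟨_, ⟨X, ⟨hXK, hXR⟩, rfl⟩⟩ : tvPart hF hs K) 0)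
    refine suToGU_injective (GU_ext fun x => ?_)
    rw [hT x, hc0, zero_mul, zero_smul, add_zero, map_one, GU_one_mulVec]
  · obtain ⟨k, hk, t, ht, hkt⟩ := htr0 p hp0 hpp
    obtain ⟨k', hk', t', ht', hkt'⟩ := htr0 p' hp0' hpp'
    refine ⟨k' * k⁻¹, mul_mem hk' (inv_mem hk), t⁻¹ * t', mul_ne_zero (inv_ne_zero ht) ht', ?_⟩
    have h1 : k⁻¹.1.1 *ᵥ p = t⁻¹ • e := by
      rw [eq_inv_smul_iff₀ ht, ← Matrix.mulVec_smul, ← hkt, SU_inv_mulVec]
    rw [SU_mul_mulVec, h1, Matrix.mulVec_smul, hkt', smul_smul]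

end Cfsg.Agent.Lib.MinIndexPSU
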