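import Mathlib
import Cfsg.Agent.Lib.MinIndexPSU.Four

/-!
Lib/MinIndexPSU/FourStab: the stabiliser of a totally isotropic line in `SU 4`.
-/

set_option autoImplicit false
set_option linter.unusedSectionVars false

namespace Cfsg.Agent.Lib.MinIndexPSU

open Matrix Module Cfsg.Agent.Lib.Unitary Cfsg.Agent.Lib.AutPSU

variable {F : Type*} [Field F] [Fintype F] {q : ℕ} {n : ℕ}

theorem map_mulVecLin_mul (X Y : SU n F q) (L : Submodule F (Fin n → F)) :
    L.map (Matrix.mulVecLin (X * Y).1.1) =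
      (L.map (Matrix.mulVecLin Y.1.1)).map (Matrix.mulVecLin X.1.1) := by
  rw [← Submodule.map_comp]
  congr 1
  exact LinearMap.ext fun v => SU_mul_mulVec X Y v

theorem map_mulVecLin_one (L : Submodule F (Fin n → F)) :
    L.map (Matrix.mulVecLin (1 : SU n F q).1.1) = L := by
  have h1 : (Matrix.mulVecLin (1 : SU n F q).1.1) = LinearMap.id := LinearMap.ext fun v => by simp
  rw [h1, Submodule.map_id]

/-- The stabiliser of a subspace in `SU n`. -/
def stabSub (q : ℕ) (L : Submodule F (Fin n → F)) : Subgroup (SU n F q) where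
  carrier := {X | L.map (Matrix.mulVecLin X.1.1) = L}
  one_mem' := map_mulVecLin_one L
  mul_mem' := fun {X Y} hX hY => by
    simp only [Set.mem_setOf_eq] at *
    rw [map_mulVecLin_mul, hY, hX]
  inv_mem' := fun {X} hX => by
    simp only [Set.mem_setOf_eq] at *
    conv_lhs => rw [← hX]
    rw [← map_mulVecLin_mul, inv_mul_cancel, map_mulVecLin_one]

theorem center_le_stabSub (hF : Fintype.card F = q ^ 2) (hn : 2 ≤ n)
    (L : Submodule F (Fin n → F)) : Subgroup.center (SU n F q) ≤ stabSub q L := by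
  intro z hz
  obtain ⟨l, hl⟩ := (mem_center_SU_iff hF hn z).1 hz
  show L.map (Matrix.mulVecLin z.1.1) = L
  refine Submodule.eq_of_le_of_finrank_eq ?_ ?_
  · rintro _ ⟨v, hv, rfl⟩
    show z.1.1 *ᵥ v ∈ L
    rw [hl v]
    exact L.smul_mem _ hv
  · exact ((Submodule.equivMapOfInjective (Matrix.mulVecLin z.1.1)
      (GU_mulVec_injective (suToGU n F q z)) L).finrank_eq).symm

/-- The number of totally isotropic lines in dimension four. -/
theorem card_lines_four (hF : Fintype.card F = q ^ 2) :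
    Nat.card {W : Submodule F (Fin 4 → F) // finrank F W = 2 ∧
      ∀ u ∈ W, ∀ v ∈ W, hermForm 4 F q u v = 0} = (q + 1) * (q ^ 3 + 1) := by
  classical
  have h4 := card_tiPlanes_mul (n := 4) hF
  have e1 : countNull F q 4 - 1 = (q ^ 4 - 1) * (q ^ 3 + 1) := by
    rw [countNull_succ_eq hF 3, if_neg (by decide)]; simp
  have e2 : countNull F q (4 - 2) - 1 = (q ^ 2 - 1) * (q + 1) := by
    rw [show 4 - 2 = 1 + 1 from rfl, countNull_succ_eq hF 1, if_neg (by decide)]; simp
  rw [e1, e2] at h4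
  have h1q := one_lt_q hF
  have hfac : q ^ 4 - q ^ 2 = q ^ 2 * (q ^ 2 - 1) := by
    rw [Nat.mul_sub, mul_one, ← pow_add]
  rw [show (q ^ 2) ^ 2 = q ^ 4 by ring, hfac] at h4
  have hpos : 0 < (q ^ 4 - 1) * (q ^ 2 * (q ^ 2 - 1)) := by
    have h2 : 1 < q ^ 2 := Nat.one_lt_pow (by omega) h1q
    have h4' : 1 < q ^ 4 := Nat.one_lt_pow (by omega) h1q
    exact Nat.mul_pos (by omega) (Nat.mul_pos (by omega) (by omega))
  refine Nat.eq_of_mul_eq_mul_right hpos (h4.trans ?_)
  ring

/-- The index of the stabiliser of a totally isotropic line. -/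
theorem exists_index_stab_four (hF : Fintype.card F = q ^ 2) :
    ∃ S : Subgroup (SU 4 F q), Subgroup.center (SU 4 F q) ≤ S ∧
      S.index = (q + 1) * (q ^ 3 + 1) := by
  classical
  let T := {W : Submodule F (Fin 4 → F) // finrank F W = 2 ∧
    ∀ u ∈ W, ∀ v ∈ W, hermForm 4 F q u v = 0}
  have hT : Nat.card T = (q + 1) * (q ^ 3 + 1) := card_lines_four hF
  obtain ⟨L, hL2, hLti⟩ : Nonempty T := by
    by_contra hne
    rw [not_nonempty_iff] at hne
    have := Nat.card_of_isEmpty (α := T)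
    rw [hT] at this
    simp at this
  refine ⟨stabSub q L, center_le_stabSub hF (by omega) L, ?_⟩
  rw [Subgroup.index, ← hT]
  let img : SU 4 F q → T := fun X => ⟨L.map (Matrix.mulVecLin X.1.1),
    ((Submodule.equivMapOfInjective (Matrix.mulVecLin X.1.1)
      (GU_mulVec_injective (suToGU 4 F q X)) L).finrank_eq).symm.trans hL2, by
    rintro _ ⟨u, hu, rfl⟩ _ ⟨v, hv, rfl⟩
    show hermForm 4 F q (X.1.1 *ᵥ u) (X.1.1 *ᵥ v) = 0
    rw [SU_herm X u v]
    exact hLti u hu v hv⟩
  have hsound : ∀ X Y : SU 4 F q, X⁻¹ * Y ∈ stabSub q L → img X = img Y := by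
    intro X Y hXY
    refine Subtype.ext ?_
    show L.map (Matrix.mulVecLin X.1.1) = L.map (Matrix.mulVecLin Y.1.1)
    conv_lhs => rw [← show L.map (Matrix.mulVecLin (X⁻¹ * Y).1.1) = L from hXY]
    rw [← map_mulVecLin_mul, mul_inv_cancel_left]
  refine Nat.card_eq_of_bijective
    (fun c : SU 4 F q ⧸ stabSub q L => Quotient.liftOn' c img
      (fun X Y hXY => hsound X Y (QuotientGroup.leftRel_apply.1 hXY))) ⟨?_, ?_⟩
  · intro c c'
    induction c using QuotientGroup.induction_on with | H X => ?_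
    induction c' using QuotientGroup.induction_on with | H Y => ?_
    intro hXY
    have h1 : L.map (Matrix.mulVecLin X.1.1) = L.map (Matrix.mulVecLin Y.1.1) :=
      congrArg Subtype.val hXY
    refine QuotientGroup.eq.2 ?_
    show L.map (Matrix.mulVecLin (X⁻¹ * Y).1.1) = L
    rw [map_mulVecLin_mul, ← h1, ← map_mulVecLin_mul, inv_mul_cancel, map_mulVecLin_one]
  · intro W
    obtain ⟨W, hW2, hWti⟩ := W
    let b := Module.finBasisOfFinrankEq F L hL2
    let c := Module.finBasisOfFinrankEq F W hW2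
    have hb : LinearIndependent F ![(b 0 : Fin 4 → F), (b 1 : Fin 4 → F)] := by
      have h' : LinearIndependent F (fun i => (b i : Fin 4 → F)) :=
        b.linearIndependent.map' L.subtype (Submodule.ker_subtype _)
      rwa [show (fun i => (b i : Fin 4 → F)) = ![(b 0 : Fin 4 → F), (b 1 : Fin 4 → F)] by
        ext i; fin_cases i <;> rfl] at h'
    have hc : LinearIndependent F ![(c 0 : Fin 4 → F), (c 1 : Fin 4 → F)] := by
      have h' : LinearIndependent F (fun i => (c i : Fin 4 → F)) :=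
        c.linearIndependent.map' W.subtype (Submodule.ker_subtype _)
      rwa [show (fun i => (c i : Fin 4 → F)) = ![(c 0 : Fin 4 → F), (c 1 : Fin 4 → F)] by
        ext i; fin_cases i <;> rfl] at h'
    obtain ⟨A, a, ha, hdet, hA0, hA1⟩ := exists_SU_isotropic_pair hF hb
      (hLti _ (b 0).2 _ (b 0).2) (hLti _ (b 1).2 _ (b 1).2) (hLti _ (b 0).2 _ (b 1).2) hc
      (hWti _ (c 0).2 _ (c 0).2) (hWti _ (c 1).2 _ (c 1).2) (hWti _ (c 0).2 _ (c 1).2)
    obtain ⟨g, hg⟩ := exists_SU_of_GU hdet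
    refine ⟨QuotientGroup.mk g, Subtype.ext ?_⟩
    show L.map (Matrix.mulVecLin g.1.1) = W
    refine Submodule.eq_of_le_of_finrank_eq ?_ ?_
    · rintro _ ⟨v, hv, rfl⟩
      have hexp := congrArg Subtype.val (b.sum_repr ⟨v, hv⟩)
      rw [Fin.sum_univ_two] at hexp
      show g.1.1 *ᵥ v ∈ W
      rw [← show (b.repr ⟨v, hv⟩) 0 • (b 0 : Fin 4 → F) + (b.repr ⟨v, hv⟩) 1 • (b 1 : Fin 4 → F) = v
        from hexp, Matrix.mulVec_add, Matrix.mulVec_smul, Matrix.mulVec_smul]
      have hgA : ∀ x, g.1.1 *ᵥ x = A.1.1 *ᵥ x := fun x => by rw [← hg]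
      rw [hgA, hgA, hA0, hA1]
      exact W.add_mem (W.smul_mem _ (W.smul_mem _ (c 0).2)) (W.smul_mem _ (c 1).2)
    · rw [hW2, ← (Submodule.equivMapOfInjective (Matrix.mulVecLin g.1.1)
        (GU_mulVec_injective (suToGU 4 F q g)) L).finrank_eq, hL2]

end Cfsg.Agent.Lib.MinIndexPSU
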