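import Mathlib
import Cfsg.Agent.Lib.MinIndexPSU.FiveTwo
import Cfsg.Agent.Lib.MinIndexPSU.LargeRest

/-!
Lib/MinIndexPSU/Odd: the index bound in odd dimension.
-/

set_option autoImplicit false
set_option linter.unusedSectionVars false

namespace Cfsg.Agent.Lib.MinIndexPSU

open Matrix Module Cfsg.Agent.Lib.Unitary Cfsg.Agent.Lib.AutPSU

variable {F : Type*} [Field F] [Fintype F] {q : ℕ} {n : ℕ} {e f : Fin n → F}

theorem countNull_odd (hF : Fintype.card F = q ^ 2) (hodd : Odd n) :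
    countNull F q n - 1 = (q ^ n + 1) * (q ^ (n - 1) - 1) := by
  obtain ⟨m, rfl⟩ := hodd
  rw [countNull_succ_eq hF, if_pos ⟨m, by ring⟩]
  simp

theorem countNull_odd_le (hF : Fintype.card F = q ^ 2) (hodd : Odd n) :
    countNull F q n - 1 ≤ q ^ (2 * n - 1) := by
  rw [countNull_odd hF hodd]
  obtain ⟨m, rfl⟩ := hodd
  have h1q := one_lt_q hF
  rw [show 2 * m + 1 - 1 = 2 * m by omega, show 2 * (2 * m + 1) - 1 = (2 * m + 1) + 2 * m by omega,
    pow_add q (2 * m + 1) (2 * m), Nat.mul_sub, mul_one, Nat.add_mul, one_mul]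
  have : q ^ (2 * m) ≤ q ^ (2 * m + 1) := Nat.pow_le_pow_right (by omega) (by omega)
  omega

/-- A subgroup of `SU n q`, `n` odd, missing a root group has index at least the number of isotropic points. -/
theorem index_bound_odd (hF : Fintype.card F = q ^ 2) (hq : 2 ≤ q) (hn : 5 ≤ n) (hodd : Odd n)
    (h : Hyp q e f) {K : Subgroup (SU n F q)} (hK : ¬ RS e ≤ K) :
    countNull F q n - 1 ≤ K.index * (q ^ 2 - 1) := by
  by_cases hA : ∀ a ∈ restPart hF h K, a = 0
  · by_cases hq3 : 3 ≤ q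
    · rcases index_ge_or_conj hF hq3 hn h hK hA with hd | ⟨K', hidx, hK', hA', hLS⟩
      · exact (countNull_sub_le hF (by omega)).trans hd
      · rw [← hidx]
        exact index_ge_of_LS' hF hn (Or.inl hodd) h hK' hA' hLS
    obtain rfl : q = 2 := by omega
    by_cases hn5 : n = 5
    · exact index_ge_five_two hF hn5 h hK hA
    rcases index_ge_or_stab_eq hF (by omega) h hK hA with hd | hS
    · exact (countNull_sub_le hF (by omega)).trans hd
    have hLS : LS (q := 2) e f ≤ stabPart e K := fun l hl => hS (PS_le_NS e hl.1)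
    by_cases hn3 : 3 ∣ n
    · obtain ⟨K', hidx, hK', hA', hL⟩ := exists_conj_LS_three hF
        (by obtain ⟨k, hk⟩ := hn3; obtain ⟨j, hj⟩ := hodd; omega) hn3 h hK hA hLS
      rw [← hidx]
      exact index_ge_of_LS' hF hn (Or.inl hodd) h hK' hA' hL
    obtain ⟨T, ζ, α, hζ, hα, hne, hTe, hTf, hTw⟩ := exists_scalar_levi hF h hn3
    obtain ⟨K', hidx, hK', hA', hlift, -⟩ :=
      exists_conj_lifts hF h hK hA hLS hζ hα hne hTe hTf hTw (hS ⟨ζ, hζ, hTe⟩)
    rw [← hidx]
    exact index_ge_of_LS' hF hn (Or.inl hodd) h hK' hA'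
      (LS_le_of_lifts hF hn (fun h52 => hn5 h52.1) h hlift)
  · push Not at hA
    obtain ⟨a, ha, ha0⟩ := hA
    refine (countNull_odd_le hF hodd).trans ?_
    by_cases hn5 : n = 5
    · exact index_ge_of_restPart_five hF h hn5 hK ha ha0
    · exact index_ge_of_restPart_large hF h (by obtain ⟨j, hj⟩ := hodd; omega) hK ha ha0

end Cfsg.Agent.Lib.MinIndexPSU
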