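import Mathlib
import Cfsg.Agent.Lib.MinIndexPSU.Six
import Cfsg.Agent.Lib.MinIndexPSU.LargeRest

/-!
Lib/MinIndexPSU/Two: the index bound over four elements, dimension divisible by six, and the
stabiliser of a nonisotropic point.
-/

set_option autoImplicit false
set_option linter.unusedSectionVars false

namespace Cfsg.Agent.Lib.MinIndexPSU

open Matrix Module Cfsg.Agent.Lib.Unitary Cfsg.Agent.Lib.AutPSU

variable {F : Type*} [Field F] [Fintype F] {q : ℕ} {n : ℕ} {e f : Fin n → F}

theorem countUnit_even (hF : Fintype.card F = q ^ 2) (hn : 1 ≤ n) (heven : Even n) :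
    countUnit F q n = q ^ (n - 1) * (q ^ n - 1) := by
  obtain ⟨m, rfl⟩ : ∃ m, n = m + 1 := ⟨n - 1, by omega⟩
  rw [countUnit_succ hF, if_neg (fun hm => by rw [Nat.even_add_one] at heven; exact heven hm)]
  simp

/-- The stabiliser of a nonisotropic point. -/
theorem index_NS_unit_mul (hF : Fintype.card F = q ^ 2) (hn : 2 ≤ n) {p : Fin n → F}
    (hp : hermForm n F q p p = 1) : (NS (q := q) p).index * (q + 1) = countUnit F q n := by
  classical
  have hp0 : p ≠ 0 := fun h0 => by simp [h0, herm_zero_left] at hp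
  have hg : ∀ v : {v : Fin n → F // hermForm n F q v v = 1}, ∃ X : SU n F q, X.1.1 *ᵥ p = v.1 := by
    rintro ⟨v, hv⟩
    obtain ⟨A, hA⟩ := exists_GU_norm_one hF hp hv
    have hd : finrank F (perp q (Submodule.span F {v})) + 1 = n := by
      have := finrank_perp hF (Submodule.span F ({v} : Set (Fin n → F)))
      rwa [finrank_span_singleton (fun h0 : v = 0 => by simp [h0, herm_zero_left] at hv)] at this
    obtain ⟨z, hzW, hz⟩ := exists_norm_one_of_nondeg hF
      (nondeg_perp hF (not_isotropic_of_nondeg hF (hv ▸ one_ne_zero)))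
      (fun hb => by rw [hb, finrank_bot] at hd; omega)
    obtain ⟨B, hBdet, -, hBfix⟩ := exists_GU_scale hF hz (inv_norm_one hF (det_norm_one hF A))
    have hdet : (B * A).1.1.det = 1 := by
      simp only [Subgroup.coe_mul, Units.val_mul, Matrix.det_mul, hBdet]
      exact inv_mul_cancel₀ fun h0 => by simpa [h0] using det_norm_one hF A
    obtain ⟨X, hX⟩ := exists_SU_of_GU hdet
    exact ⟨X, by rw [hX, GU_mul_mulVec, hA,
      hBfix v (herm_eq_zero_symm hF (hzW v (Submodule.mem_span_singleton_self v)))]⟩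
  choose g hg using hg
  rw [← card_norm_one hF, countUnit, Subgroup.index, ← Nat.card_prod]
  have hne : ∀ x : {x : F // x ^ (q + 1) = 1}, x.1 ≠ 0 := fun x h0 => by
    have := x.2; rw [h0, zero_pow (by omega)] at this; exact zero_ne_one this
  refine Nat.card_eq_of_bijective (fun a : (SU n F q ⧸ NS p) × {x : F // x ^ (q + 1) = 1} =>
    (⟨a.2.1 • (a.1.out.1.1 *ᵥ p), by
      rw [herm_smul_left, herm_smul_right, SU_herm, hp, mul_one, ← pow_succ']; exact a.2.2⟩ :
      {v : Fin n → F // hermForm n F q v v = 1})) ⟨?_, ?_⟩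
  · rintro ⟨X, a⟩ ⟨Y, b⟩ hab
    have h1 : a.1 • (X.out.1.1 *ᵥ p) = b.1 • (Y.out.1.1 *ᵥ p) := congrArg Subtype.val hab
    have hXY : X = Y := by
      rw [← QuotientGroup.out_eq' X, ← QuotientGroup.out_eq' Y]
      refine QuotientGroup.eq.2 ⟨a.1 * b.1⁻¹, mul_ne_zero (hne a) (inv_ne_zero (hne b)), ?_⟩
      have h2 : Y.out.1.1 *ᵥ p = (b.1⁻¹ * a.1) • (X.out.1.1 *ᵥ p) := by
        rw [← smul_smul, h1, inv_smul_smul₀ (hne b)]
      rw [SU_mul_mulVec, h2, Matrix.mulVec_smul, SU_inv_mulVec, mul_comm]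
    subst hXY
    have hX0 : X.out.1.1 *ᵥ p ≠ 0 := fun h0 => hp0 (by
      rw [← SU_inv_mulVec X.out p, h0, Matrix.mulVec_zero])
    exact Prod.ext rfl (Subtype.ext (smul_left_injective F hX0 h1))
  · intro v
    obtain ⟨μ, hμ, he⟩ := QuotientGroup.eq.1 (QuotientGroup.out_eq' (g v : SU n F q ⧸ NS p))
    have h1 : (g v).1.1 *ᵥ p = μ • ((Quotient.out (g v : SU n F q ⧸ NS p)).1.1 *ᵥ p) := by
      have := congrArg (fun x => (Quotient.out (g v : SU n F q ⧸ NS p)).1.1 *ᵥ x) he
      simpa only [SU_mul_mulVec, SU_mulVec_inv, Matrix.mulVec_smul] using this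
    have h2 : μ ^ (q + 1) = 1 := by
      have h3 := SU_herm (g v) p p
      rw [h1, herm_smul_left, herm_smul_right, SU_herm, hp, mul_one] at h3
      rw [pow_succ', h3]
    exact ⟨((g v : SU n F q ⧸ NS p), ⟨μ, h2⟩), Subtype.ext (by rw [← hg v, h1])⟩

/-- Over four elements, `6 ∣ n`: the index is at least the number of nonisotropic points. -/
theorem index_bound_two (hF : Fintype.card F = 2 ^ 2) (hn6 : 6 ∣ n) (hn : 6 ≤ n) (h : Hyp 2 e f)
    {K : Subgroup (SU n F 2)} (hK : ¬ RS e ≤ K) : countUnit F 2 n ≤ K.index * 3 := by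
  have heven : Even n := even_iff_two_dvd.2 (dvd_trans (by norm_num) hn6)
  rw [countUnit_even hF (by omega) heven]
  by_cases hn' : n = 6
  · have := index_ge_six hF hn' h hK
    subst hn'
    norm_num
    omega
  have hn8 : 8 ≤ n := by obtain ⟨k, hk⟩ := hn6; omega
  have hle : 2 ^ (n - 1) * (2 ^ n - 1) ≤ 2 ^ (2 * n - 1) := by
    rw [show 2 * n - 1 = n - 1 + n by omega, pow_add]
    exact Nat.mul_le_mul_left _ (Nat.sub_le _ _)
  by_cases hA : ∀ a ∈ restPart hF h K, a = 0
  · rcases index_ge_or_stab_eq hF (by omega) h hK hA with hd | hS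
    · exact hle.trans ((Nat.le_add_right _ _).trans hd)
    obtain ⟨K', hidx, hK', hA', hL⟩ := exists_conj_LS_three hF hn8
      (dvd_trans (by norm_num) hn6) h hK hA (fun l hl => hS (PS_le_NS e hl.1))
    rw [← hidx]
    rcases index_ge_of_LS hF (by omega) h hK' hA' hL with hd | hd
    · refine le_trans ?_ hd
      rw [countNull_even hF (by omega) heven, mul_comm (2 ^ (n - 1))]
      exact Nat.mul_le_mul_left _ (Nat.le_succ _)
    · rw [countUnit_even hF (by omega) heven] at hd
      omega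
  · push Not at hA
    obtain ⟨a, ha, ha0⟩ := hA
    exact hle.trans (index_ge_of_restPart_large hF h (by omega) hK ha ha0)

end Cfsg.Agent.Lib.MinIndexPSU
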